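import Cfsg.Agent.Lib.OddLocal.PLengthMain

/-!
# BG Theorem 3.7, the reduction
-/

set_option autoImplicit false
set_option linter.unusedSectionVars false
set_option linter.style.haveILetI false

namespace Cfsg.Agent.Lib.OddLocal.PLengthMain

open Subgroup
open Cfsg.Agent.Lib
open scoped commutatorElement

universe u

variable {G : Type u} [Group G] [Finite G]

/-- BG Theorem 3.7. -/
theorem pLength_le_one [Group.IsSolvable G] (hodd : Odd (Nat.card G)) (K R : Subgroup G)
    [K.Normal] (hKR : ⁅K, R⁆ = K) {x : G} {r : ℕ} [hr : Fact r.Prime] (hxR : x ∈ R)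
    (hxo : orderOf x = r) (hcop : (Nat.card K).Coprime r)
    (hZ : IsZGroup ↥(K ⊓ centralizer (zpowers x : Set G))) (p : ℕ) [hp : Fact p.Prime] :
    Cfsg.PLengthLE p 1 ↥K := by
  classical
  by_cases hpK : p ∣ Nat.card K
  swap
  · exact PSolvable.pLengthLE_mono (Nat.zero_le 1) (PSolvable.pLengthLE_zero_iff.2 hpK)
  have hpr : p ≠ r := fun h => hr.out.ne_one
    (Nat.eq_one_of_dvd_coprimes hcop (h ▸ hpK) dvd_rfl)
  have hxr : x ^ r = 1 := hxo ▸ pow_orderOf_eq_one x
  have hxK : ∀ (N : Subgroup G), N ≤ K → x ∉ N := fun N hN h => hr.out.ne_one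
    (Nat.eq_one_of_dvd_coprimes hcop
      (hxo ▸ Subgroup.orderOf_dvd_natCard K (hN h)) dvd_rfl)
  -- modulo `O_{p'}(K)`
  set N := (Cfsg.pPrimeCore p K).map K.subtype with hN
  haveI : N.Normal := Cores.normal_map_subtype K _
  have hNK : N ≤ K := map_subtype_le _
  set f := QuotientGroup.mk' N with hf
  have hfs : Function.Surjective f := QuotientGroup.mk'_surjective N
  have hf1 : ∀ g, f g = 1 ↔ g ∈ N := fun g => QuotientGroup.eq_one_iff g
  set K1 := K.map f with hK1
  haveI : K1.Normal := Subgroup.Normal.map inferInstance f hfs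
  have hodd1 : Odd (Nat.card (G ⧸ N)) := hodd.of_dvd_nat (card_quotient_dvd_card N)
  have hKR1 : ⁅K1, R.map f⁆ = K1 := by rw [hK1, ← map_commutator, hKR]
  have hxo1 : orderOf (f x) = r :=
    orderOf_eq_prime (by rw [← map_pow, hxr, map_one]) fun h => hxK N hNK ((hf1 x).1 h)
  have hcop1 : (Nat.card K1).Coprime r := hcop.coprime_dvd_left (Subgroup.card_map_dvd K f)
  have hcopx : (Nat.card K).Coprime (orderOf x) := hxo.symm ▸ hcop
  have hZ1 := isZGroup_map K N hNK x hcopx hZ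
  have hcore : Cfsg.pPrimeCore p K1 = ⊥ := by
    let fK := f.subgroupMap K
    have hfK : Function.Surjective fK := f.subgroupMap_surjective K
    have hker : fK.ker = Cfsg.pPrimeCore p K := by
      ext k
      rw [MonoidHom.mem_ker, Subtype.ext_iff]
      show f (k : G) = 1 ↔ _
      rw [hf1, hN]
      exact ⟨fun ⟨k', hk', he⟩ => Subtype.ext (show (k' : G) = k from he) ▸ hk',
        fun h => ⟨k, h, rfl⟩⟩
    set S := (Cfsg.pPrimeCore p K1).comap fK with hS
    have hSmap : S.map fK = Cfsg.pPrimeCore p K1 :=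
      map_comap_eq_self_of_surjective hfK _
    have hSc : (Nat.card S).Coprime p := by
      have h := relIndex_mul_relIndex ⊥ fK.ker S bot_le (ker_le_comap _ _)
      rw [relIndex_bot_left, relIndex_bot_left, relIndex_ker, hSmap, hker] at h
      rw [← h]
      exact Nat.Coprime.mul_left (Cores.pPrimeCore_coprime p) (Cores.pPrimeCore_coprime p)
    have hle : S ≤ fK.ker := hker ▸ Cores.le_pPrimeCore hSc
    rw [← hSmap, eq_bot_iff]
    rintro _ ⟨s, hs, rfl⟩
    exact hle hs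
  set V0 := (Cfsg.pCore p K1).map K1.subtype with hV0
  haveI : V0.Normal := Cores.normal_map_subtype K1 _
  have hV0K : V0 ≤ K1 := map_subtype_le _
  have hV0p : IsPGroup p V0 := (Cores.pCore_isPGroup p).map _
  have hC0 : K1 ⊓ centralizer (V0 : Set (G ⧸ N)) ≤ V0 := by
    rintro y ⟨hy, hyC⟩
    refine ⟨⟨y, hy⟩, ?_, rfl⟩
    have hF : Cfsg.fittingSubgroup K1 = Cfsg.pCore p K1 := by
      refine le_antisymm ?_ (Cores.pCore_le_fittingSubgroup p)
      rw [Cores.fittingSubgroup_eq_iSup_pCore]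
      refine iSup_le fun q => ?_
      by_cases hqp : (q : ℕ) = p
      · rw [hqp]
      haveI : Fact (q : ℕ).Prime := ⟨q.2⟩
      obtain ⟨k, hk⟩ := IsPGroup.iff_card.mp (Cores.pCore_isPGroup (G := K1) (q : ℕ))
      have hle : Cfsg.pCore (q : ℕ) K1 ≤ Cfsg.pPrimeCore p K1 :=
        Cores.le_pPrimeCore (by
          rw [hk]
          exact Nat.Coprime.pow_left k ((Nat.coprime_primes q.2 hp.out).2 hqp))
      exact hle.trans (hcore ▸ bot_le)
    rw [← hF]
    refine Cores.centralizer_fittingSubgroup_le (mem_centralizer_iff.2 fun z hz => ?_)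
    rw [hF] at hz
    exact Subtype.ext (mem_centralizer_iff.1 hyC _ ⟨z, hz, rfl⟩)
  -- modulo the Frattini subgroup
  set Φ := (frattini V0).map V0.subtype with hΦ
  haveI : Φ.Normal := Cores.normal_map_subtype V0 _
  have hΦV : Φ ≤ V0 := map_subtype_le _
  set g := QuotientGroup.mk' Φ with hg
  have hgs : Function.Surjective g := QuotientGroup.mk'_surjective Φ
  have hg1 : ∀ y, g y = 1 ↔ y ∈ Φ := fun y => QuotientGroup.eq_one_iff y
  set K2 := K1.map g with hK2
  set V := V0.map g with hVdef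
  haveI : K2.Normal := Subgroup.Normal.map inferInstance g hgs
  haveI : V.Normal := Subgroup.Normal.map inferInstance g hgs
  have hel : Cfsg.IsElementaryAbelian p V := by
    refine ⟨⟨⟨?_⟩⟩, ?_⟩
    · rintro ⟨_, a, ha, rfl⟩ ⟨_, b, hb, rfl⟩
      refine Subtype.ext (commutatorElement_eq_one_iff_mul_comm.1 ?_)
      rw [← map_commutatorElement, hg1]
      exact ⟨⁅(⟨a, ha⟩ : V0), ⟨b, hb⟩⁆, PGroups.commutatorElement_mem_frattini hV0p _ _, rfl⟩
    · rintro _ ⟨a, ha, rfl⟩
      rw [← map_pow, hg1]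
      exact ⟨(⟨a, ha⟩ : V0) ^ p, PGroups.pow_mem_frattini hV0p _, rfl⟩
  have hCV : K2 ⊓ centralizer (V : Set ((G ⧸ N) ⧸ Φ)) ≤ V := by
    set C := K1 ⊓ (centralizer (V : Set ((G ⧸ N) ⧸ Φ))).comap g with hC
    have hCp : IsPGroup p C := by
      rintro ⟨y, hy⟩
      obtain ⟨a, m, hm, hym⟩ := Nat.exists_eq_pow_mul_and_not_dvd
        (orderOf_pos y).ne' p hp.out.ne_one
      refine ⟨a, Subtype.ext ?_⟩
      show y ^ p ^ a = 1
      set z := y ^ p ^ a with hz
      have hzm : z ^ m = 1 := by rw [hz, ← pow_mul, ← hym, pow_orderOf_eq_one]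
      have hzC : z ∈ centralizer (V0 : Set (G ⧸ N)) := by
        refine Coprime.le_centralizer_of_frattini le_normalizer_of_normal ?_ ?_ (mem_zpowers z)
        · obtain ⟨k, hk⟩ := IsPGroup.iff_card.mp (hV0p.to_subgroup (frattini V0))
          rw [Nat.card_zpowers, hk]
          exact Nat.Coprime.coprime_dvd_left (orderOf_dvd_of_pow_eq_one hzm)
            (Nat.Coprime.pow_right k (hp.out.coprime_iff_not_dvd.2 hm).symm)
        · intro b hb v hv
          show b * v * b⁻¹ * v⁻¹ ∈ Φ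
          rw [← hg1, map_mul, map_mul, map_mul, map_inv, map_inv]
          have hb2 : g b ∈ centralizer (V : Set ((G ⧸ N) ⧸ Φ)) := by
            obtain ⟨k, rfl⟩ := mem_zpowers_iff.1 hb
            rw [map_zpow]
            refine Subgroup.zpow_mem _ ?_ k
            rw [hz, map_pow]
            exact pow_mem (mem_comap.1 hy.2) _
          rw [← mem_centralizer_iff.1 hb2 _ (mem_map_of_mem g hv)]
          group
      have hzV : z ∈ V0 := hC0 ⟨pow_mem hy.1 _, hzC⟩
      obtain ⟨k, hk⟩ := hV0p ⟨z, hzV⟩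
      have hk' : z ^ p ^ k = 1 := congrArg Subtype.val hk
      have h1 := pow_gcd_eq_one.mpr ⟨hzm, hk'⟩
      rwa [(Nat.Coprime.pow_right k (hp.out.coprime_iff_not_dvd.2 hm).symm).gcd_eq_one,
        pow_one] at h1
    have hle : C ≤ V0 := fun y hy => ⟨⟨y, hy.1⟩,
      Cores.le_pCore (hCp.comap_subtype (H := C) (K := K1)) (show (⟨y, hy.1⟩ : K1) ∈ _ from hy),
      rfl⟩
    rintro _ ⟨⟨y, hy, rfl⟩, hyC⟩
    exact ⟨y, hle ⟨hy, mem_comap.2 hyC⟩, rfl⟩
  have hmax : ∀ S : Subgroup _, S.Normal → V ≤ S → S ≤ K2 → IsPGroup p S → S ≤ V := by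
    intro S hSn _ hSK hSp
    haveI := hSn
    set S' := K1 ⊓ S.comap g with hS'
    have hS'p : IsPGroup p S' := (hSp.comap_of_ker_isPGroup g
      (by rw [QuotientGroup.ker_mk']; exact hV0p.to_le hΦV)).to_le inf_le_right
    have hle : S' ≤ V0 := fun y hy => ⟨⟨y, hy.1⟩,
      Cores.le_pCore (hS'p.comap_subtype (H := S') (K := K1))
        (show (⟨y, hy.1⟩ : K1) ∈ _ from hy), rfl⟩
    intro s hs
    obtain ⟨y, hy, rfl⟩ := hSK hs
    exact ⟨y, hle ⟨hy, mem_comap.2 hs⟩, rfl⟩
  have hV0K' : Φ ≤ K1 := hΦV.trans hV0K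
  have hxo2 : orderOf (g (f x)) = r := orderOf_eq_prime
    (by rw [← map_pow, ← map_pow, hxr, map_one, map_one]) fun h => by
      have h1 := hV0K' ((hg1 _).1 h)
      exact hr.out.ne_one (Nat.eq_one_of_dvd_coprimes hcop1
        (hxo1 ▸ Subgroup.orderOf_dvd_natCard K1 h1) dvd_rfl)
  have hcop2 : (Nat.card K2).Coprime r := hcop1.coprime_dvd_left (Subgroup.card_map_dvd K1 g)
  -- the top factor
  have htop : ¬ p ∣ V0.relIndex K1 := by
    by_cases hp2 : p ∣ Nat.card K2
    swap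
    · intro h
      refine hp2 (h.trans ?_)
      have h2 : V.relIndex K2 ∣ Nat.card K2 := relIndex_dvd_card V K2
      rwa [hK2, ← relIndex_comap, comap_map_eq, QuotientGroup.ker_mk', sup_eq_left.2 hΦV] at h2
    have h := not_dvd_relIndex (G := (G ⧸ N) ⧸ Φ) (hodd1.of_dvd_nat (card_quotient_dvd_card Φ))
      K2 ((R.map f).map g) (by rw [hK2, ← map_commutator, hKR1]) (r := r)
      (mem_map_of_mem g (mem_map_of_mem f hxR)) hxo2 hcop2
      (isZGroup_map K1 Φ hV0K' (f x) (hxo1.symm ▸ hcop1) hZ1) hp2 V (map_mono hV0K) hel hCV hmax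
    rwa [hK2, ← relIndex_comap, comap_map_eq, QuotientGroup.ker_mk', sup_eq_left.2 hΦV] at h
  -- the series
  set W := K ⊓ V0.comap f with hW
  have hNW : N ≤ W := le_inf hNK fun n hn => by
    rw [mem_comap, (hf1 n).2 hn]
    exact one_mem _
  have hWmap : W.map f = V0 := by
    refine SetLike.ext fun y => ⟨?_, fun hy => ?_⟩
    · rintro ⟨w, hw, rfl⟩
      exact mem_comap.1 hw.2
    · obtain ⟨k, hk, rfl⟩ := hV0K hy
      exact ⟨k, ⟨hk, mem_comap.2 hy⟩, rfl⟩
  have hrel1 : N.relIndex W = Nat.card V0 := by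
    conv_lhs => rw [← QuotientGroup.ker_mk' N, relIndex_ker]
    rw [hWmap]
  have h1 : N.subgroupOf K ≤ (Cfsg.upperPSeries p K (2 * 0 + 1)).1 :=
    PSolvable.le_upperPSeries_odd (k := 0) (N := ⊥) bot_le (by
      rw [relIndex_bot_left, Nat.card_congr (subgroupOfEquivOfLe hNK).toEquiv, hN,
        Subgroup.card_map_of_injective K.subtype_injective]
      exact Cores.pPrimeCore_coprime p)
  have h2 : W.subgroupOf K ≤ (Cfsg.upperPSeries p K (2 * 0 + 2)).1 :=
    PSolvable.le_upperPSeries_even (k := 0) h1 (by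
      rw [relIndex_subgroupOf (inf_le_left : W ≤ K), hrel1]
      exact IsPGroup.iff_card.mp hV0p)
  have h3 : (⊤ : Subgroup K) ≤ (Cfsg.upperPSeries p K (2 * 1 + 1)).1 :=
    PSolvable.le_upperPSeries_odd (k := 1) (N := W.subgroupOf K) h2 (by
      rw [relIndex_top_right]
      refine ((Nat.Prime.coprime_iff_not_dvd hp.out).2 ?_).symm
      show ¬ p ∣ W.relIndex K
      rwa [hW, inf_relIndex_left, relIndex_comap])
  exact top_le_iff.1 h3

end Cfsg.Agent.Lib.OddLocal.PLengthMain
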