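import Mathlib
import Cfsg.Agent.Lib.Spectrum.FPFRep

/-!
A module without fixed points of the kernel of a Frobenius group, in coprime characteristic, has
dimension `|R|` times that of the fixed points of the complement `R`.
-/

set_option autoImplicit false

universe u v

namespace Cfsg.Agent.Lib.OddLocal.FrobeniusRank

open Subgroup Matrix
open scoped MatrixGroups

section Matrices

variable {q m n : ℕ} [hq : Fact q.Prime]

/-- The reduction map on matrices. -/
noncomputable def red (hm : m ≠ 0) :
    Matrix (Fin n) (Fin n) (ZMod (q ^ m)) →+* Matrix (Fin n) (Fin n) (ZMod q) :=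
  (ZMod.castHom (dvd_pow_self q hm) (ZMod q)).mapMatrix

theorem red_apply (hm : m ≠ 0) (A : Matrix (Fin n) (Fin n) (ZMod (q ^ m))) (i j : Fin n) :
    red hm A i j = ZMod.castHom (dvd_pow_self q hm) (ZMod q) (A i j) := rfl

/-- An idempotent reducing to zero is zero. -/
theorem eq_zero_of_red_zero (hm : m ≠ 0) {e : Matrix (Fin n) (Fin n) (ZMod (q ^ m))}
    (he : e * e = e) (h0 : red hm e = 0) : e = 0 := by
  haveI : NeZero (q ^ m) := ⟨pow_ne_zero _ hq.out.ne_zero⟩
  obtain ⟨g, hg⟩ : ∃ g : Matrix (Fin n) (Fin n) (ZMod (q ^ m)), e = (q : ZMod (q ^ m)) • g := by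
    refine ⟨Matrix.of fun i j => (((e i j).val / q : ℕ) : ZMod (q ^ m)), ?_⟩
    ext i j
    have h := congrFun (congrFun h0 i) j
    rw [red_apply, Matrix.zero_apply, ← ZMod.natCast_zmod_val (e i j), map_natCast,
      ZMod.natCast_eq_zero_iff] at h
    rw [Matrix.smul_apply, Matrix.of_apply, smul_eq_mul, ← Nat.cast_mul, Nat.mul_div_cancel' h,
      ZMod.natCast_zmod_val]
  have hpow : ∀ k, 1 ≤ k → e ^ k = e := by
    intro k hk
    induction k, hk using Nat.le_induction with
    | base => rw [pow_one]
    | succ k _ ih => rw [pow_succ, ih, he]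
  rw [← hpow m (Nat.one_le_iff_ne_zero.mpr hm), hg, smul_pow, ← Nat.cast_pow, ZMod.natCast_self,
    zero_smul]

/-- A matrix reducing to the identity is a unit. -/
theorem isUnit_of_red_one (hm : m ≠ 0) {u : Matrix (Fin n) (Fin n) (ZMod (q ^ m))}
    (h : red hm u = 1) : IsUnit u := by
  haveI : NeZero (q ^ m) := ⟨pow_ne_zero _ hq.out.ne_zero⟩
  rw [Matrix.isUnit_iff_isUnit_det]
  have h1 : ZMod.castHom (dvd_pow_self q hm) (ZMod q) u.det = 1 := by
    rw [RingHom.map_det]
    exact (congrArg Matrix.det h).trans Matrix.det_one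
  obtain ⟨z, hz⟩ : ∃ z, u.det = z := ⟨_, rfl⟩
  rw [hz] at h1 ⊢
  rw [← ZMod.natCast_zmod_val z] at h1 ⊢
  rw [map_natCast] at h1
  rw [ZMod.isUnit_iff_coprime]
  refine Nat.Coprime.pow_right m ((hq.out.coprime_iff_not_dvd.mpr fun hd => ?_).symm)
  rw [(ZMod.natCast_eq_zero_iff _ _).mpr hd] at h1
  exact zero_ne_one h1

/-- The trace of an idempotent reducing to a diagonal `0/1` matrix. -/
theorem trace_idempotent (hm : m ≠ 0) {e : Matrix (Fin n) (Fin n) (ZMod (q ^ m))} (he : e * e = e)
    {d : ℕ} (hd : d ≤ n)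
    (h : red hm e = Matrix.diagonal fun j : Fin n => if j.1 < d then 1 else 0) :
    e.trace = (d : ZMod (q ^ m)) := by
  set D : Matrix (Fin n) (Fin n) (ZMod (q ^ m)) :=
    Matrix.diagonal fun j : Fin n => if j.1 < d then 1 else 0 with hD
  have hDD : D * D = D := by
    rw [hD, Matrix.diagonal_mul_diagonal]
    congr 1; funext j; split <;> simp
  have hDr : red hm D = red hm e := by
    rw [h]
    ext i j
    rw [red_apply, hD, Matrix.diagonal_apply, Matrix.diagonal_apply]
    simp only [apply_ite (ZMod.castHom (dvd_pow_self q hm) (ZMod q)), map_one, map_zero]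
  set u := e * D + (1 - e) * (1 - D) with hu
  have heu : e * u = e * D := by
    have he0 : e * (1 - e) = 0 := by rw [mul_sub, mul_one, he, sub_self]
    rw [hu, mul_add, ← mul_assoc, ← mul_assoc, he, he0, zero_mul, add_zero]
  have huD : u * D = e * D := by
    rw [hu, add_mul, mul_assoc, mul_assoc, hDD, sub_mul (1 : Matrix _ _ _) D D, one_mul, hDD,
      sub_self, mul_zero, add_zero]
  have hred : red hm u = 1 := by
    rw [hu, map_add, map_mul, map_mul, map_sub, map_sub, map_one, hDr, ← map_mul, he]
    have : red hm e * red hm e = red hm e := by rw [← map_mul, he]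
    rw [sub_mul, one_mul, mul_sub, mul_one, this]
    abel
  obtain ⟨U, hU⟩ := isUnit_of_red_one hm hred
  have : e = (U : Matrix (Fin n) (Fin n) (ZMod (q ^ m))) * D * (↑U⁻¹ : Matrix _ _ _) := by
    rw [hU, huD, ← heu, ← hU, mul_assoc, Units.mul_inv, mul_one]
  rw [this, Matrix.trace_units_conj, hD, Matrix.trace_diagonal, Finset.sum_boole]
  congr 1
  have hfil : (Finset.univ.filter fun j : Fin n => j.1 < d) =
      (Finset.univ : Finset (Fin d)).map (Fin.castLEEmb hd) := by
    ext j
    simp only [Finset.mem_filter, Finset.mem_univ, true_and, Finset.mem_map]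
    exact ⟨fun hj => ⟨⟨j, hj⟩, Fin.ext rfl⟩, fun ⟨a, ha⟩ => ha ▸ a.2⟩
  rw [hfil, Finset.card_map, Finset.card_univ, Fintype.card_fin]

end Matrices

section Partition

variable {B : Type u} [Group B] [Finite B]

/-- The Frobenius partition, as a bijection `K × R → B`. -/
theorem partition_bijective [DecidableEq B] {K R : Subgroup B} [K.Normal]
    (hcompl : IsComplement' K R)
    (hfpf : ∀ r ∈ R, r ≠ 1 → ∀ k ∈ K, r * k = k * r → k = 1) :
    Function.Bijective (fun x : K × R =>
      if (x.2 : B) = 1 then (x.1 : B) else (x.1 : B) * x.2 * (x.1 : B)⁻¹) := by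
  refine Function.Injective.bijective_of_nat_card_le ?_
    (by rw [Nat.card_prod, hcompl.card_mul_card])
  rintro ⟨k, r⟩ ⟨k', r'⟩ h
  have hq : QuotientGroup.mk' K (r : B) = QuotientGroup.mk' K (r' : B) := by
    have hk : ∀ k : K, QuotientGroup.mk' K (k : B) = 1 := fun k => (QuotientGroup.eq_one_iff _).mpr k.2
    have h1 := congrArg (QuotientGroup.mk' K) h
    simp only [apply_ite (QuotientGroup.mk' K), map_mul, map_inv, hk, one_mul, inv_one, mul_one] at h1
    split_ifs at h1 with h2 h3 h4
    · rw [h2, h3]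
    · rw [h2, map_one, h1]
    · rw [h4, map_one, h1]
    · exact h1
  have hrr : r = r' := by
    have hmem : (r : B)⁻¹ * r' ∈ K ⊓ R :=
      mem_inf.mpr ⟨QuotientGroup.eq.mp hq, R.mul_mem (R.inv_mem r.2) r'.2⟩
    rw [hcompl.disjoint.eq_bot, mem_bot, inv_mul_eq_one] at hmem
    exact Subtype.ext hmem
  subst hrr
  by_cases hr : (r : B) = 1
  · simp only [hr, if_true] at h
    exact Prod.ext (Subtype.ext h) rfl
  · simp only [hr, if_false] at h
    have h' : (r : B) * ((k : B)⁻¹ * k') = ((k : B)⁻¹ * k') * r := by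
      calc (r : B) * ((k : B)⁻¹ * k') = (k : B)⁻¹ * ((k : B) * r * (k : B)⁻¹) * k' := by group
        _ = (k : B)⁻¹ * ((k' : B) * r * (k' : B)⁻¹) * k' := by rw [h]
        _ = _ := by group
    have := hfpf r r.2 hr _ (mul_mem (inv_mem k.2) k'.2) h'
    exact Prod.ext (Subtype.ext (inv_mul_eq_one.mp this)) rfl

end Partition

/-- **The rank formula.** -/
theorem card_eq_pow {B : Type u} [Group B] [Finite B] {V : Type v} [CommGroup V] [Finite V]
    {q : ℕ} [hq : Fact q.Prime] (hexp : ∀ v : V, v ^ q = 1) (θ : B →* MulAut V)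
    (hcop : (Nat.card B).Coprime q) {K R : Subgroup B} [K.Normal] (hcompl : IsComplement' K R)
    (hfpf : ∀ r ∈ R, r ≠ 1 → ∀ k ∈ K, r * k = k * r → k = 1)
    (hK0 : ∀ v : V, (∀ k ∈ K, θ k v = v) → v = 1) :
    Nat.card V = Nat.card {v : V // ∀ r ∈ R, θ r v = v} ^ Nat.card R := by
  classical
  haveI : Fintype K := Fintype.ofFinite _
  haveI : Fintype R := Fintype.ofFinite _
  haveI : Module (ZMod q) (Additive V) := AddCommGroup.zmodModule fun x => by
    exact congrArg Additive.ofMul (hexp x.toMul)
  haveI : Module.Finite (ZMod q) (Additive V) := Module.Finite.of_finite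
  let L : B →* Module.End (ZMod q) (Additive V) :=
    { toFun := fun g => AddMonoidHom.toZModLinearMap q
        (MonoidHom.toAdditive ((θ g).toMonoidHom : V →* V))
      map_one' := by rw [map_one]; ext x; rfl
      map_mul' := fun g h => by rw [map_mul]; ext x; rfl }
  have hL : ∀ g (x : Additive V), L g x = Additive.ofMul (θ g x.toMul) := fun g x => rfl
  have hcast : ∀ S : Subgroup B, (Nat.card S : ZMod q) ≠ 0 := fun S h => by
    rw [ZMod.natCast_eq_zero_iff] at h
    exact hq.out.coprime_iff_not_dvd.mp hcop.symm (h.trans S.card_subgroup_dvd_card)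
  -- the averaging projection onto the fixed points of `R`
  let e₀ : Module.End (ZMod q) (Additive V) := (Nat.card R : ZMod q)⁻¹ • ∑ r : R, L r
  have hfix : ∀ (r : R) (x : Additive V), L r (e₀ x) = e₀ x := by
    intro r x
    simp only [e₀, LinearMap.smul_apply, map_smul, LinearMap.sum_apply, map_sum]
    congr 1
    refine Fintype.sum_equiv (Equiv.mulLeft r) _ _ fun s => ?_
    rw [← Module.End.mul_apply, ← map_mul]; rfl
  have hid : ∀ x : Additive V, (∀ r : R, L r x = x) → e₀ x = x := by
    intro x hx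
    simp only [e₀, LinearMap.smul_apply, LinearMap.sum_apply, Finset.sum_congr rfl fun r _ => hx r,
      Finset.sum_const, Finset.card_univ, ← Nat.cast_smul_eq_nsmul (ZMod q), smul_smul,
      ← Nat.card_eq_fintype_card, inv_mul_cancel₀ (hcast R), one_smul]
  have he₀ : IsIdempotentElem e₀ := LinearMap.ext fun x => hid _ fun r => hfix r x
  let W := LinearMap.range e₀
  let W' := LinearMap.ker e₀
  have hWW : IsCompl W W' := LinearMap.IsIdempotentElem.isCompl he₀
  set d := Module.finrank (ZMod q) W with hd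
  set d' := Module.finrank (ZMod q) W' with hd'
  let b : Module.Basis (Fin (d + d')) (ZMod q) (Additive V) :=
    (((Module.finBasis (ZMod q) W).prod (Module.finBasis (ZMod q) W')).map
      (Submodule.prodEquivOfIsCompl W W' hWW)).reindex finSumFinEquiv
  have hdiag : ∀ j, e₀ (b j) = if j.1 < d then b j else 0 := by
    intro j
    obtain ⟨s, rfl⟩ := finSumFinEquiv.surjective j
    rcases s with i | i
    · have : b (finSumFinEquiv (Sum.inl i)) = (Module.finBasis (ZMod q) W i : Additive V) := by
        simp only [b, Module.Basis.reindex_apply, Equiv.symm_apply_apply, Module.Basis.map_apply]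
        simp
      rw [this, if_pos (by simp)]
      obtain ⟨y, hy⟩ := (Module.finBasis (ZMod q) W i).2
      rw [← hy]
      exact LinearMap.congr_fun he₀ y
    · have : b (finSumFinEquiv (Sum.inr i)) = (Module.finBasis (ZMod q) W' i : Additive V) := by
        simp only [b, Module.Basis.reindex_apply, Equiv.symm_apply_apply, Module.Basis.map_apply]
        simp
      rw [this, if_neg (by simp)]
      exact (Module.finBasis (ZMod q) W' i).2
  let Mx := LinearMap.toMatrixAlgEquiv b
  let ρ : B →* GL (Fin (d + d')) (ZMod q) := (Mx.toMulEquiv.toMonoidHom.comp L).toHomUnits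
  have hρ : ∀ g, (ρ g : Matrix (Fin (d + d')) (Fin (d + d')) (ZMod q)) = Mx (L g) := fun g => rfl
  -- lift to characteristic `q ^ m`
  set m := (d + d') * Nat.card R + 1 with hmdef
  have hm : m ≠ 0 := by omega
  obtain ⟨σ, hσ⟩ := Spectrum.FPFRep.exists_lift m hm hcop ρ
  haveI : NeZero (q ^ m) := ⟨pow_ne_zero _ hq.out.ne_zero⟩
  let τ : B →* Matrix (Fin (d + d')) (Fin (d + d')) (ZMod (q ^ m)) := (Units.coeHom _).comp σ
  have hτ : ∀ g, red hm (τ g) = Mx (L g) := fun g => (hσ g).trans (hρ g)
  have hunit : ∀ S : Subgroup B, IsUnit (Nat.card S : ZMod (q ^ m)) := fun S => by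
    rw [ZMod.isUnit_iff_coprime]
    exact (hcop.coprime_dvd_left S.card_subgroup_dvd_card).pow_right m
  set NK := ∑ k : K, τ k with hNK
  set NR := ∑ r : R, τ r with hNR
  have hNsq : ∀ (S : Subgroup B) [Fintype S],
      (∑ s : S, τ s) * (∑ s : S, τ s) = (Nat.card S : ZMod (q ^ m)) • ∑ s : S, τ s := by
    intro S _
    rw [Finset.sum_mul, Nat.cast_smul_eq_nsmul, Nat.card_eq_fintype_card, ← Finset.card_univ,
      ← Finset.sum_const]
    refine Finset.sum_congr rfl fun s _ => ?_
    rw [Finset.mul_sum]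
    refine Fintype.sum_equiv (Equiv.mulLeft s) _ _ fun t => ?_
    rw [← map_mul]; rfl
  have hidem : ∀ (S : Subgroup B) [Fintype S] (c : ZMod (q ^ m)),
      c * (Nat.card S : ZMod (q ^ m)) = 1 →
      (c • ∑ s : S, τ s) * (c • ∑ s : S, τ s) = c • ∑ s : S, τ s := by
    intro S _ c hc
    rw [smul_mul_smul_comm, hNsq S, smul_smul, mul_assoc, hc, mul_one]
  -- the kernel sum vanishes
  obtain ⟨cK, hcK⟩ := isUnit_iff_exists_inv'.mp (hunit K)
  obtain ⟨cR, hcR⟩ := isUnit_iff_exists_inv'.mp (hunit R)
  have hNK0 : NK = 0 := by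
    have hsum : (∑ k : K, L k) = 0 := by
      refine LinearMap.ext fun x => ?_
      rw [LinearMap.zero_apply, LinearMap.sum_apply]
      have := hK0 (∑ k : K, L k x).toMul fun g hg => by
        have h1 : L g (∑ k : K, L k x) = ∑ k : K, L k x := by
          rw [map_sum]
          refine Fintype.sum_equiv (Equiv.mulLeft ⟨g, hg⟩) _ _ fun k => ?_
          rw [← Module.End.mul_apply, ← map_mul]; rfl
        exact congrArg Additive.toMul h1
      exact congrArg Additive.ofMul this
    have h1 : cK • NK = 0 := by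
      refine eq_zero_of_red_zero hm (hidem K cK hcK) ?_
      have hs : red hm (cK • NK) =
          ZMod.castHom (dvd_pow_self q hm) (ZMod q) cK • red hm NK := by
        ext i j
        simp [red_apply, Matrix.smul_apply]
      rw [hs, hNK, map_sum]
      simp only [hτ, ← map_sum, hsum, map_zero, smul_zero]
    have := congrArg (fun z => (Nat.card K : ZMod (q ^ m)) • z) h1
    simp only [smul_zero, smul_smul] at this
    rwa [mul_comm, hcK, one_smul] at this
  -- the partition identity
  have hbij := partition_bijective hcompl hfpf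
  have hprod : Function.Bijective (fun x : K × R => (x.1 : B) * x.2) := hcompl
  haveI : Fintype B := Fintype.ofFinite B
  have hB0 : ∑ g : B, τ g = 0 := by
    rw [← hprod.sum_comp τ, Fintype.sum_prod_type]
    simp only [map_mul]
    rw [Finset.sum_congr rfl fun k _ => (Finset.mul_sum _ _ _).symm, ← Finset.sum_mul, ← hNK, hNK0,
      zero_mul]
  have hkey : ∑ k : K, τ k * NR * τ (k : B)⁻¹ =
      (Nat.card K : ZMod (q ^ m)) • (1 : Matrix (Fin (d + d')) (Fin (d + d')) (ZMod (q ^ m))) := by
    have h2 : ∀ k : K, (∑ r : R, τ (if (r : B) = 1 then (k : B) else (k : B) * r * (k : B)⁻¹)) =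
        τ k + (τ k * NR * τ (k : B)⁻¹ - 1) := by
      intro k
      have h3 : ∀ r : R, τ (if (r : B) = 1 then (k : B) else (k : B) * r * (k : B)⁻¹) =
          τ k * τ r * τ (k : B)⁻¹ + (if r = 1 then τ k - 1 else 0) := by
        intro r
        by_cases hr : r = 1
        · subst hr
          simp only [Subgroup.coe_one, if_true, map_one, mul_one]
          rw [← map_mul, mul_inv_cancel, map_one]
          abel
        · rw [if_neg (fun h : (r : B) = 1 => hr (Subtype.ext h)), if_neg hr, add_zero, map_mul, map_mul]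
      rw [Finset.sum_congr rfl fun r _ => h3 r, Finset.sum_add_distrib, Finset.sum_ite_eq',
        if_pos (Finset.mem_univ _), ← Finset.sum_mul, ← Finset.mul_sum]
      abel
    have := hB0
    rw [← hbij.sum_comp τ, Fintype.sum_prod_type, Finset.sum_congr rfl fun k _ => h2 k,
      Finset.sum_add_distrib, ← hNK, hNK0, zero_add, Finset.sum_sub_distrib, sub_eq_zero,
      Finset.sum_const, Finset.card_univ, ← Nat.card_eq_fintype_card,
      ← Nat.cast_smul_eq_nsmul (ZMod (q ^ m))] at this
    exact this
  -- traces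
  have htr : NR.trace = ((d + d' : ℕ) : ZMod (q ^ m)) := by
    have h1 := congrArg Matrix.trace hkey
    rw [Matrix.trace_sum, Matrix.trace_smul, Matrix.trace_one, Fintype.card_fin] at h1
    have h2 : ∀ k : K, (τ k * NR * τ (k : B)⁻¹).trace = NR.trace := fun k => by
      rw [Matrix.trace_mul_comm, ← mul_assoc, ← map_mul, inv_mul_cancel, map_one, one_mul]
    rw [Finset.sum_congr rfl fun k _ => h2 k, Finset.sum_const, Finset.card_univ,
      ← Nat.card_eq_fintype_card, ← Nat.cast_smul_eq_nsmul (ZMod (q ^ m)), smul_eq_mul,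
      smul_eq_mul] at h1
    exact (hunit K).mul_left_cancel h1
  have htrd : (cR • NR).trace = (d : ZMod (q ^ m)) := by
    refine trace_idempotent hm (hidem R cR hcR) (Nat.le_add_right d d') ?_
    have hc : ZMod.castHom (dvd_pow_self q hm) (ZMod q) cR = (Nat.card R : ZMod q)⁻¹ := by
      refine eq_inv_of_mul_eq_one_left ?_
      rw [← map_natCast (ZMod.castHom (dvd_pow_self q hm) (ZMod q)), ← map_mul, hcR, map_one]
    have hs : red hm (cR • NR) = ZMod.castHom (dvd_pow_self q hm) (ZMod q) cR • red hm NR := by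
      ext i j
      simp [red_apply, Matrix.smul_apply]
    rw [hs, hNR, map_sum]
    simp only [hτ]
    rw [← map_sum, hc, ← map_smul]
    ext i j
    rw [LinearMap.toMatrixAlgEquiv_apply, Matrix.diagonal_apply]
    change b.repr (e₀ (b j)) i = _
    rw [hdiag j]
    by_cases hj : j.1 < d
    · rw [if_pos hj, Module.Basis.repr_self, Finsupp.single_apply]
      by_cases hij : i = j
      · subst hij; simp [hj]
      · simp [hij, Ne.symm hij]
    · rw [if_neg hj, map_zero, Finsupp.zero_apply]
      by_cases hij : i = j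
      · subst hij; simp [hj]
      · simp [hij]
  have hnum : d + d' = Nat.card R * d := by
    rw [Matrix.trace_smul, htr, smul_eq_mul] at htrd
    have h1 : ((d + d' : ℕ) : ZMod (q ^ m)) = ((Nat.card R * d : ℕ) : ZMod (q ^ m)) := by
      rw [Nat.cast_mul, ← htrd, ← mul_assoc, mul_comm _ cR, hcR, one_mul]
    have hlt : ∀ x, x ≤ (d + d') * Nat.card R → x < q ^ m := fun x hx =>
      lt_of_lt_of_le (by omega) (Nat.lt_pow_self hq.out.one_lt).le
    have hR1 : 1 ≤ Nat.card R := Nat.card_pos
    have hA : d + d' < q ^ m := hlt _ (Nat.le_mul_of_pos_right _ hR1)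
    have hB : Nat.card R * d < q ^ m := hlt _ (by
      rw [mul_comm]; exact Nat.mul_le_mul_right _ (Nat.le_add_right d d'))
    have := congrArg ZMod.val h1
    rwa [ZMod.val_natCast_of_lt hA, ZMod.val_natCast_of_lt hB] at this
  -- cardinalities
  have hV : Nat.card V = q ^ (d + d') := by
    rw [← Nat.card_congr (Additive.toMul (α := V)), Module.natCard_eq_pow_finrank (K := ZMod q),
      Nat.card_zmod, Module.finrank_eq_card_basis b, Fintype.card_fin]
  have hF : Nat.card {v : V // ∀ r ∈ R, θ r v = v} = q ^ d := by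
    have e : {v : V // ∀ r ∈ R, θ r v = v} ≃ W :=
      { toFun := fun v => ⟨Additive.ofMul v.1, ⟨Additive.ofMul v.1, hid _ fun r =>
          congrArg Additive.ofMul (v.2 r r.2)⟩⟩
        invFun := fun w => ⟨w.1.toMul, fun r hr => by
          obtain ⟨y, hy⟩ := w.2
          have := hfix ⟨r, hr⟩ y
          rw [hy] at this
          exact congrArg Additive.toMul this⟩
        left_inv := fun v => rfl
        right_inv := fun w => rfl }
    rw [Nat.card_congr e, Module.natCard_eq_pow_finrank (K := ZMod q), Nat.card_zmod]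
  rw [hV, hF, ← pow_mul, hnum, mul_comm]

end Cfsg.Agent.Lib.OddLocal.FrobeniusRank
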