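import Mathlib
import Cfsg.Agent.Lib.OddLocal.FrobeniusRank
import Cfsg.Agent.Lib.Coprime.Action

/-!
Frobenius groups `K R` acting coprimely on nilpotent groups without fixed points of `K`.
-/

set_option autoImplicit false

universe u v

namespace Cfsg.Agent.Lib.OddLocal.FrobeniusAction

open Subgroup
open scoped commutatorElement

section Basic

variable {B : Type u} [Group B] {M : Type v} [Group M]

/-- The fixed points of `S` under `θ`. -/
def fixed (θ : B →* MulAut M) (S : Subgroup B) : Subgroup M where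
  carrier := {v | ∀ s ∈ S, θ s v = v}
  one_mem' := fun s _ => map_one (θ s)
  mul_mem' := fun {a b} ha hb s hs => by rw [map_mul, ha s hs, hb s hs]
  inv_mem' := fun {a} ha s hs => by rw [map_inv, ha s hs]

theorem mem_fixed {θ : B →* MulAut M} {S : Subgroup B} {v : M} :
    v ∈ fixed θ S ↔ ∀ s ∈ S, θ s v = v := Iff.rfl

/-- Restriction of an action to an invariant subgroup. -/
def restrict (θ : B →* MulAut M) (Z : Subgroup M) (hZ : ∀ b, ∀ z ∈ Z, θ b z ∈ Z) :
    B →* MulAut Z where
  toFun b :=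
    { toFun := fun z => ⟨θ b z, hZ b z z.2⟩
      invFun := fun z => ⟨θ b⁻¹ z, hZ b⁻¹ z z.2⟩
      left_inv := fun z => Subtype.ext (by
        show θ b⁻¹ (θ b z) = z
        rw [← MulAut.mul_apply, ← map_mul, inv_mul_cancel, map_one, MulAut.one_apply])
      right_inv := fun z => Subtype.ext (by
        show θ b (θ b⁻¹ z) = z
        rw [← MulAut.mul_apply, ← map_mul, mul_inv_cancel, map_one, MulAut.one_apply])
      map_mul' := fun z w => Subtype.ext (map_mul (θ b) (z : M) w) }
  map_one' := MulEquiv.ext fun z => Subtype.ext (by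
    show θ 1 z = z
    rw [map_one, MulAut.one_apply])
  map_mul' a b := MulEquiv.ext fun z => Subtype.ext (by
    show θ (a * b) z = θ a (θ b z)
    rw [map_mul, MulAut.mul_apply])

theorem restrict_apply (θ : B →* MulAut M) (Z : Subgroup M) (hZ : ∀ b, ∀ z ∈ Z, θ b z ∈ Z) (b : B)
    (z : Z) : ((restrict θ Z hZ b z : Z) : M) = θ b z := rfl

theorem map_eq_of_invariant (θ : B →* MulAut M) (Z : Subgroup M) (hZ : ∀ b, ∀ z ∈ Z, θ b z ∈ Z)
    (b : B) : Z.map (θ b).toMonoidHom = Z :=
  le_antisymm (by rintro _ ⟨z, hz, rfl⟩; exact hZ b z hz) fun z hz =>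
    ⟨θ b⁻¹ z, hZ _ z hz, by
      show θ b (θ b⁻¹ z) = z
      rw [← MulAut.mul_apply, ← map_mul, mul_inv_cancel, map_one, MulAut.one_apply]⟩

/-- The action on the quotient by an invariant normal subgroup. -/
def quot (θ : B →* MulAut M) (Z : Subgroup M) [Z.Normal] (hZ : ∀ b, ∀ z ∈ Z, θ b z ∈ Z) :
    B →* MulAut (M ⧸ Z) where
  toFun b := QuotientGroup.congr Z Z (θ b) (map_eq_of_invariant θ Z hZ b)
  map_one' := by
    apply MulEquiv.ext; intro x
    induction x using QuotientGroup.induction_on with | _ x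
    change QuotientGroup.mk (θ 1 x) = (QuotientGroup.mk x : M ⧸ Z)
    rw [map_one, MulAut.one_apply]
  map_mul' a b := by
    apply MulEquiv.ext; intro x
    induction x using QuotientGroup.induction_on with | _ x
    change QuotientGroup.mk (θ (a * b) x) = (QuotientGroup.mk (θ a (θ b x)) : M ⧸ Z)
    rw [map_mul, MulAut.mul_apply]

theorem quot_mk (θ : B →* MulAut M) (Z : Subgroup M) [Z.Normal] (hZ : ∀ b, ∀ z ∈ Z, θ b z ∈ Z)
    (b : B) (x : M) : quot θ Z hZ b (x : M ⧸ Z) = ((θ b x : M) : M ⧸ Z) := rfl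

/-- Fixed points cover the fixed points of a coprime quotient by an abelian invariant subgroup. -/
theorem exists_lift [Finite B] [Finite M] (θ : B →* MulAut M) (Z : Subgroup M) [Z.Normal]
    [IsMulCommutative Z] (hZ : ∀ b, ∀ z ∈ Z, θ b z ∈ Z) (hcop : (Nat.card B).Coprime (Nat.card M))
    (S : Subgroup B) {x : M ⧸ Z} (hx : x ∈ fixed (quot θ Z hZ) S) :
    ∃ y ∈ fixed θ S, (y : M ⧸ Z) = x := by
  letI : MulDistribMulAction S M := MulDistribMulAction.compHom M (θ.comp S.subtype)
  induction x using QuotientGroup.induction_on with | _ g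
  obtain ⟨n, hn, h⟩ := Cfsg.Agent.Lib.Coprime.Action.exists_mul_fixed (A := S) (G := M) (N := Z)
    (fun a z hz => hZ a z hz)
    ((hcop.coprime_dvd_left S.card_subgroup_dvd_card).coprime_dvd_right Z.card_subgroup_dvd_card)
    (Or.inr (Group.isSolvable_of_comm fun a b => ‹IsMulCommutative Z›.is_comm.comm a b)) (g := g) (fun a => QuotientGroup.eq.mp ((quot_mk θ Z hZ a g).symm.trans
      (hx a a.2)).symm)
  exact ⟨g * n, fun s hs => h ⟨s, hs⟩, QuotientGroup.eq.mpr (by simpa using hn)⟩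

/-- The order of the fixed points is multiplicative. -/
theorem card_fixed [Finite B] [Finite M] (θ : B →* MulAut M) (Z : Subgroup M) [Z.Normal]
    [IsMulCommutative Z] (hZ : ∀ b, ∀ z ∈ Z, θ b z ∈ Z) (hcop : (Nat.card B).Coprime (Nat.card M))
    (S : Subgroup B) :
    Nat.card (fixed θ S) = Nat.card (fixed (quot θ Z hZ) S) * Nat.card (fixed (restrict θ Z hZ) S) := by
  have hmap : (fixed θ S).map (QuotientGroup.mk' Z) = fixed (quot θ Z hZ) S := by
    refine le_antisymm ?_ fun x hx => ?_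
    · rintro _ ⟨y, hy, rfl⟩ s hs
      rw [QuotientGroup.mk'_apply, quot_mk, hy s hs]
    · obtain ⟨y, hy, rfl⟩ := exists_lift θ Z hZ hcop S hx
      exact ⟨y, hy, rfl⟩
  have hres : fixed (restrict θ Z hZ) S = (fixed θ S).subgroupOf Z := by
    ext z
    exact ⟨fun h s hs => congrArg Subtype.val (h s hs), fun h s hs => Subtype.ext (h s hs)⟩
  have h1 := relIndex_ker (fixed θ S) (QuotientGroup.mk' Z)
  rw [QuotientGroup.ker_mk', hmap] at h1
  have h2 : Nat.card ↥((fixed θ S).subgroupOf Z) = Nat.card ↥(Z.subgroupOf (fixed θ S)) :=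
    Nat.card_congr
      { toFun := fun z => ⟨⟨z.1.1, z.2⟩, z.1.2⟩
        invFun := fun z => ⟨⟨z.1.1, z.2⟩, z.1.2⟩
        left_inv := fun z => rfl
        right_inv := fun z => rfl }
  rw [hres, h2, ← h1, relIndex, index_mul_card]

end Basic

/-- An invariant nontrivial central subgroup of exponent `q`. -/
theorem exists_layer {B : Type u} [Group B] {M : Type v} [Group M] [Finite M] [Group.IsNilpotent M]
    [Nontrivial M] (θ : B →* MulAut M) :
    ∃ (q : ℕ) (_ : q.Prime) (Z : Subgroup M) (_ : Z.Normal) (_ : IsMulCommutative Z),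
      (∀ b, ∀ z ∈ Z, θ b z ∈ Z) ∧ (∀ z ∈ Z, z ^ q = 1) ∧ 1 < Nat.card Z ∧ q ∣ Nat.card M := by
  have hc := Group.IsNilpotent.center_ne_bot M
  have hcard : Nat.card (center M) ≠ 1 := fun h => hc (card_eq_one.mp h)
  obtain ⟨q, hq, hqd⟩ := Nat.exists_prime_and_dvd hcard
  haveI : Fact q.Prime := ⟨hq⟩
  obtain ⟨z, hz⟩ := exists_prime_orderOf_dvd_card' (G := center M) q hqd
  let Z : Subgroup M :=
    { carrier := {x | x ∈ center M ∧ x ^ q = 1}
      one_mem' := ⟨one_mem _, one_pow q⟩
      mul_mem' := fun {a b} ha hb => ⟨mul_mem ha.1 hb.1, by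
        rw [(show Commute a b from mem_center_iff.mp hb.1 a).mul_pow, ha.2, hb.2, one_mul]⟩
      inv_mem' := fun {a} ha => ⟨inv_mem ha.1, by rw [inv_pow, ha.2, inv_one]⟩ }
  have hzZ : (z : M) ∈ Z :=
    ⟨z.2, by rw [← hz, ← Subgroup.orderOf_coe]; exact pow_orderOf_eq_one _⟩
  refine ⟨q, hq, Z, ⟨fun x hx g => ?_⟩,
    ⟨⟨fun a b => Subtype.ext (mem_center_iff.mp b.2.1 a)⟩⟩, fun b x hx => ⟨?_, ?_⟩, fun x hx => hx.2,
    ?_, hqd.trans (center M).card_subgroup_dvd_card⟩
  · rwa [mem_center_iff.mp hx.1 g, mul_inv_cancel_right]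
  · exact characteristic_iff_le_comap.mp inferInstance (θ b) hx.1
  · rw [← map_pow, hx.2, map_one]
  · refine Finite.one_lt_card_iff_nontrivial.mpr ⟨⟨⟨z, hzZ⟩, 1, fun h => hq.ne_one ?_⟩⟩
    rw [← hz, ← Subgroup.orderOf_coe, congrArg Subtype.val h]
    exact orderOf_one

variable {B : Type u} [Group B] [Finite B] {K R : Subgroup B} [K.Normal]

/-- **The order formula** `|M| = |C_M(R)| ^ |R|`. -/
theorem card_eq_pow (hcompl : IsComplement' K R)
    (hfpf : ∀ r ∈ R, r ≠ 1 → ∀ k ∈ K, r * k = k * r → k = 1) :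
    ∀ (n : ℕ) (M : Type v) [Group M] [Finite M] [Group.IsNilpotent M] (θ : B →* MulAut M),
      Nat.card M = n → (Nat.card B).Coprime (Nat.card M) → fixed θ K = ⊥ →
      Nat.card M = Nat.card (fixed θ R) ^ Nat.card R := by
  intro n
  induction n using Nat.strong_induction_on with
  | _ n ih =>
  intro M _ _ _ θ hn hcop hK0
  by_cases hM : Subsingleton M
  · rw [Nat.card_unique, Nat.card_unique, one_pow]
  haveI : Nontrivial M := not_subsingleton_iff_nontrivial.mp hM
  obtain ⟨q, hq, Z, hZn, hZc, hZinv, hZexp, hZ1, hqd⟩ := exists_layer θ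
  haveI := hZn
  haveI := hZc
  haveI : Fact q.Prime := ⟨hq⟩
  letI : CommGroup Z := { (inferInstance : Group Z) with mul_comm := hZc.is_comm.comm }
  have hKq : fixed (quot θ Z hZinv) K = ⊥ := by
    rw [eq_bot_iff]
    intro x hx
    obtain ⟨y, hy, rfl⟩ := exists_lift θ Z hZinv hcop K hx
    rw [hK0, mem_bot] at hy
    rw [hy, QuotientGroup.mk_one]
    exact one_mem _
  have hlt : Nat.card (M ⧸ Z) < n := by
    rw [← hn, card_eq_card_quotient_mul_card_subgroup Z]
    exact lt_mul_of_one_lt_right Nat.card_pos hZ1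
  have hq1 := ih _ hlt (M ⧸ Z) (quot θ Z hZinv) rfl
    (hcop.coprime_dvd_right (card_quotient_dvd_card Z)) hKq
  have hq2 := FrobeniusRank.card_eq_pow (V := Z) (q := q)
    (fun z => Subtype.ext (by simpa using hZexp z z.2)) (restrict θ Z hZinv)
    (hcop.coprime_dvd_right hqd) hcompl hfpf fun z hz => by
      have : (z : M) ∈ fixed θ K := fun k hk => congrArg Subtype.val (hz k hk)
      rw [hK0, mem_bot] at this
      exact Subtype.ext this
  rw [card_fixed θ Z hZinv hcop R, mul_pow, ← hq1, card_eq_card_quotient_mul_card_subgroup Z]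
  congr 1

/-- In the elementary abelian case a complement with at most `q` fixed points forces the derived
subgroup of the nilpotent kernel to act trivially. -/
theorem commutator_le_ker {V : Type v} [CommGroup V] [Finite V] {q : ℕ} [Fact q.Prime]
    (hexp : ∀ v : V, v ^ q = 1) (θ : B →* MulAut V) (hcop : (Nat.card B).Coprime q)
    (hcompl : IsComplement' K R) (hfpf : ∀ r ∈ R, r ≠ 1 → ∀ k ∈ K, r * k = k * r → k = 1)
    [Group.IsNilpotent K] (hK0 : fixed θ K = ⊥) (hd : Nat.card (fixed θ R) ≤ q) :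
    ∀ x ∈ ⁅K, K⁆, θ x = 1 := by
  classical
  have hV : Nat.card V = Nat.card (fixed θ R) ^ Nat.card R :=
    FrobeniusRank.card_eq_pow hexp θ hcop hcompl hfpf fun v hv => by
      have : v ∈ fixed θ K := hv
      rwa [hK0, mem_bot] at this
  -- subgroups of `fixed θ R` are trivial or everything
  have hsmall : ∀ F : Subgroup V, F ≤ fixed θ R → F ≠ ⊥ → F = fixed θ R := by
    intro F hF hF1
    refine eq_of_le_of_card_ge hF (hd.trans ?_)
    have hVp : IsPGroup q V := fun v => ⟨1, by rw [pow_one]; exact hexp v⟩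
    obtain ⟨k, hk⟩ := IsPGroup.iff_card.mp (hVp.to_subgroup F)
    rw [hk]
    refine Nat.le_self_pow ?_ q
    rintro rfl
    exact hF1 (card_eq_one.mp (by rw [hk, pow_zero]))
  let N : Subgroup B := K ⊓ θ.ker
  haveI : N.Normal := normal_inf_normal K θ.ker
  by_cases hKN : K ≤ N
  · intro x hx
    exact MonoidHom.mem_ker.mp (hKN ((le_normalizer_iff_commutator_le_left.mp le_normalizer) hx)).2
  -- a normal subgroup central modulo the kernel
  haveI : (N.subgroupOf K).Normal := Normal.subgroupOf inferInstance K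
  let A₀ : Subgroup K := (center (K ⧸ N.subgroupOf K)).comap (QuotientGroup.mk' _)
  let A : Subgroup B := A₀.map K.subtype
  have hAK : A ≤ K := map_subtype_le _
  have hAcen : ∀ a ∈ A, ∀ k ∈ K, ⁅a, k⁆ ∈ N := by
    rintro _ ⟨a, ha, rfl⟩ k hk
    have h1 := mem_center_iff.mp (mem_comap.mp ha) (QuotientGroup.mk' _ ⟨k, hk⟩)
    have h2 : QuotientGroup.mk' (N.subgroupOf K) ⁅a, ⟨k, hk⟩⁆ = 1 := by
      rw [map_commutatorElement, commutatorElement_eq_one_iff_mul_comm]
      exact h1.symm
    exact mem_subgroupOf.mp ((QuotientGroup.eq_one_iff _).mp h2)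
  have hmemA : ∀ a ∈ K, (∀ k ∈ K, ⁅a, k⁆ ∈ N) → a ∈ A := by
    intro a ha h
    refine ⟨⟨a, ha⟩, mem_comap.mpr (mem_center_iff.mpr fun y => ?_), rfl⟩
    obtain ⟨k, rfl⟩ := QuotientGroup.mk'_surjective _ y
    symm
    rw [← commutatorElement_eq_one_iff_mul_comm, ← map_commutatorElement]
    exact (QuotientGroup.eq_one_iff _).mpr (mem_subgroupOf.mpr (h k k.2))
  haveI hAn : A.Normal := ⟨fun a ha g => by
    refine hmemA _ (Normal.conj_mem inferInstance a (hAK ha) g) fun k hk => ?_
    have hk' : g⁻¹ * k * g ∈ K := by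
      simpa using Normal.conj_mem (inferInstance : K.Normal) k hk g⁻¹
    have e : ⁅g * a * g⁻¹, k⁆ = g * ⁅a, g⁻¹ * k * g⁆ * g⁻¹ := by
      simp only [commutatorElement_def]; group
    rw [e]
    exact Normal.conj_mem (inferInstance : N.Normal) _ (hAcen a ha _ hk') g⟩
  -- `A` is not in the kernel
  have hAN : ¬ A ≤ N := by
    intro h
    haveI : Nontrivial (K ⧸ N.subgroupOf K) := by
      obtain ⟨k, hk, hkN⟩ := SetLike.not_le_iff_exists.mp hKN
      exact ⟨⟨QuotientGroup.mk' _ ⟨k, hk⟩, 1,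
        fun h1 => hkN (mem_subgroupOf.mp ((QuotientGroup.eq_one_iff _).mp h1))⟩⟩
    haveI : Group.IsNilpotent (K ⧸ N.subgroupOf K) := Group.nilpotent_quotient_of_nilpotent _
    refine Group.IsNilpotent.center_ne_bot (K ⧸ N.subgroupOf K) ((eq_bot_iff_forall _).mpr fun y hy => ?_)
    obtain ⟨k, rfl⟩ := QuotientGroup.mk'_surjective _ y
    exact (QuotientGroup.eq_one_iff _).mpr (mem_subgroupOf.mpr (h ⟨k, mem_comap.mpr hy, rfl⟩))
  -- the Frobenius group `A R`
  let B' : Subgroup B := A ⊔ R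
  haveI : (A.subgroupOf B').Normal := Normal.subgroupOf hAn B'
  have hcompl' : IsComplement' (A.subgroupOf B') (R.subgroupOf B') := by
    refine isComplement'_of_disjoint_and_mul_eq_univ ?_ ?_
    · rw [disjoint_iff, eq_bot_iff]
      intro x hx
      have : (x : B) ∈ K ⊓ R := ⟨hAK hx.1, hx.2⟩
      rw [hcompl.disjoint.eq_bot, mem_bot] at this
      exact mem_bot.mpr (Subtype.ext this)
    · refine Set.eq_univ_of_forall fun x => ?_
      obtain ⟨a, ha, r, hr, he⟩ := mem_sup_of_normal_left.mp x.2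
      exact ⟨⟨a, mem_sup_left ha⟩, ha, ⟨r, mem_sup_right hr⟩, hr, Subtype.ext he⟩
  have hfpf' : ∀ r ∈ R.subgroupOf B', r ≠ 1 → ∀ k ∈ A.subgroupOf B', r * k = k * r → k = 1 :=
    fun r hr hr1 k hk h => Subtype.ext
      (hfpf r hr (fun h' => hr1 (Subtype.ext h')) k (hAK hk) (congrArg Subtype.val h))
  have hRcard : Nat.card (R.subgroupOf B') = Nat.card R :=
    Nat.card_congr (subgroupOfEquivOfLe (le_sup_right : R ≤ B')).toEquiv
  have hcop' : (Nat.card B').Coprime q := hcop.coprime_dvd_left B'.card_subgroup_dvd_card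
  -- `A` fixes nothing
  have hA0 : fixed θ A = ⊥ := by
    by_contra hne
    have hinv : ∀ b, ∀ v ∈ fixed θ A, θ b v ∈ fixed θ A := by
      intro b v hv a ha
      have hc : b⁻¹ * a * b ∈ A := by simpa using hAn.conj_mem a ha b⁻¹
      calc θ a (θ b v) = θ b (θ (b⁻¹ * a * b) v) := by
            rw [← MulAut.mul_apply, ← map_mul, ← MulAut.mul_apply, ← map_mul]
            congr 2; group
        _ = θ b v := by rw [hv _ hc]
    have h := FrobeniusRank.card_eq_pow (V := fixed θ A)
      (fun v => Subtype.ext (by simpa using hexp v)) (restrict θ (fixed θ A) hinv) hcop hcompl hfpf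
      fun v hv => by
        have : (v : V) ∈ fixed θ K := fun k hk => congrArg Subtype.val (hv k hk)
        rw [hK0, mem_bot] at this
        exact Subtype.ext this
    have e : Nat.card {v : fixed θ A // ∀ r ∈ R, restrict θ (fixed θ A) hinv r v = v} =
        Nat.card ↥(fixed θ A ⊓ fixed θ R) := Nat.card_congr
      { toFun := fun v => ⟨v.1.1, v.1.2, fun r hr => congrArg Subtype.val (v.2 r hr)⟩
        invFun := fun v => ⟨⟨v.1, v.2.1⟩, fun r hr => Subtype.ext (v.2.2 r hr)⟩
        left_inv := fun v => rfl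
        right_inv := fun v => rfl }
    rw [e] at h
    have hne' : fixed θ A ⊓ fixed θ R ≠ ⊥ := by
      intro h0
      rw [h0, card_bot, one_pow] at h
      exact hne (card_eq_one.mp h)
    rw [hsmall _ inf_le_right hne', ← hV] at h
    have htop : fixed θ A = ⊤ := eq_top_of_card_eq _ h
    exact hAN fun a ha => ⟨hAK ha, MonoidHom.mem_ker.mpr
      (MulEquiv.ext fun v => (htop ▸ mem_top v : v ∈ fixed θ A) a ha)⟩
  by_cases hRbot : fixed θ R = ⊥
  · intro x _
    have : Subsingleton V := (Nat.card_eq_one_iff_unique.mp (by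
      rw [hV, hRbot, card_bot, one_pow])).1
    exact MulEquiv.ext fun v => Subsingleton.elim _ _
  obtain ⟨v₀, hv₀, hv₀1⟩ : ∃ v ∈ fixed θ R, v ≠ 1 := by
    by_contra hno
    push Not at hno
    exact hRbot ((eq_bot_iff_forall _).mpr hno)
  -- the orbit of `v₀` generates
  set W := closure {w : V | ∃ a ∈ A, w = θ a v₀} with hWdef
  have hv₀W : v₀ ∈ W := subset_closure ⟨1, one_mem _, by rw [map_one, MulAut.one_apply]⟩
  have hgen : ∀ a ∈ A, θ a v₀ ∈ W := fun a ha => subset_closure ⟨a, ha, rfl⟩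
  have hWinv : ∀ b : B', ∀ w ∈ W, θ b w ∈ W := by
    intro b w hw
    induction hw using closure_induction with
    | mem w hw =>
      obtain ⟨a, ha, rfl⟩ := hw
      obtain ⟨a', ha', r, hr, he⟩ := mem_sup_of_normal_left.mp b.2
      have h2 : θ (b : B) (θ a v₀) = θ (a' * (r * a * r⁻¹)) v₀ := by
        rw [← he]
        conv_rhs => rw [map_mul, MulAut.mul_apply, map_mul, MulAut.mul_apply,
          mem_fixed.mp hv₀ r⁻¹ (inv_mem hr), map_mul, MulAut.mul_apply]
        rw [map_mul, MulAut.mul_apply]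
      rw [h2]
      exact hgen _ (mul_mem ha' (hAn.conj_mem a ha r))
    | one => rw [map_one]; exact one_mem _
    | mul x y _ _ hx hy => rw [map_mul]; exact mul_mem hx hy
    | inv x _ hx => rw [map_inv]; exact inv_mem hx
  have hWtop : W = ⊤ := by
    have h := FrobeniusRank.card_eq_pow (V := W) (fun v => Subtype.ext (by simpa using hexp v))
      (restrict (θ.comp B'.subtype) W hWinv) hcop' hcompl' hfpf' fun v hv => by
        have : (v : V) ∈ fixed θ A := fun a ha =>
          congrArg Subtype.val (hv ⟨a, mem_sup_left ha⟩ ha)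
        rw [hA0, mem_bot] at this
        exact Subtype.ext this
    have e : Nat.card {v : W // ∀ r ∈ R.subgroupOf B', restrict (θ.comp B'.subtype) W hWinv r v = v} =
        Nat.card ↥(W ⊓ fixed θ R) := Nat.card_congr
      { toFun := fun v => ⟨v.1.1, v.1.2, fun r hr =>
          congrArg Subtype.val (v.2 ⟨r, mem_sup_right hr⟩ hr)⟩
        invFun := fun v => ⟨⟨v.1, v.2.1⟩, fun r hr => Subtype.ext (v.2.2 r hr)⟩
        left_inv := fun v => rfl
        right_inv := fun v => rfl }
    rw [e, hRcard, hsmall _ inf_le_right (fun h0 => hv₀1 (mem_bot.mp (h0 ▸ ⟨hv₀W, hv₀⟩))), ← hV] at h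
    exact eq_top_of_card_eq _ h
  -- maps commuting with `A` are determined at `v₀`
  have hext : ∀ T T' : V →* V, (∀ a ∈ A, ∀ v, T (θ a v) = θ a (T v)) →
      (∀ a ∈ A, ∀ v, T' (θ a v) = θ a (T' v)) → T v₀ = T' v₀ → T = T' := by
    intro T T' hT hT' h0
    refine MonoidHom.eq_of_eqOn_dense hWtop ?_
    rintro w ⟨a, ha, rfl⟩
    rw [hT a ha, hT' a ha, h0]
  have hcommA : ∀ a ∈ A, ∀ k ∈ K, ∀ v, θ k (θ a v) = θ a (θ k v) := by
    intro a ha k hk v
    have h1 : θ (k * a) = θ (a * k) := by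
      have hker : θ ⁅a, k⁆ = 1 := MonoidHom.mem_ker.mp (hAcen a ha k hk).2
      calc θ (k * a) = θ ⁅a, k⁆ * θ (k * a) := by rw [hker, one_mul]
        _ = θ (a * k) := by rw [← map_mul]; congr 1; rw [commutatorElement_def]; group
    rw [← MulAut.mul_apply, ← map_mul, h1, map_mul, MulAut.mul_apply]
  have hrep : ∀ w : V, ∃ P : V →* V, P v₀ = w ∧ (∀ a ∈ A, ∀ v, P (θ a v) = θ a (P v)) ∧
      ∀ T : V →* V, (∀ a ∈ A, ∀ v, T (θ a v) = θ a (T v)) → ∀ v, T (P v) = P (T v) := by
    intro w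
    have hw : w ∈ W := hWtop ▸ mem_top w
    induction hw using closure_induction with
    | mem w hw =>
      obtain ⟨a, ha, rfl⟩ := hw
      exact ⟨(θ a).toMonoidHom, rfl, fun a' ha' v => hcommA a' ha' a (hAK ha) v,
        fun T hT v => hT a ha v⟩
    | one =>
      exact ⟨1, rfl, fun a _ v => (map_one (θ a)).symm, fun T _ v => by
        rw [MonoidHom.one_apply, MonoidHom.one_apply, map_one]⟩
    | mul x y _ _ hx hy =>
      obtain ⟨P, hP1, hP2, hP3⟩ := hx
      obtain ⟨Q, hQ1, hQ2, hQ3⟩ := hy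
      exact ⟨P * Q, by rw [MonoidHom.mul_apply, hP1, hQ1], fun a ha v => by
        simp only [MonoidHom.mul_apply, hP2 a ha, hQ2 a ha, map_mul], fun T hT v => by
        simp only [MonoidHom.mul_apply, map_mul, hP3 T hT, hQ3 T hT]⟩
    | inv x _ hx =>
      obtain ⟨P, hP1, hP2, hP3⟩ := hx
      exact ⟨P⁻¹, by rw [MonoidHom.inv_apply, hP1], fun a ha v => by
        simp only [MonoidHom.inv_apply, hP2 a ha, map_inv], fun T hT v => by
        simp only [MonoidHom.inv_apply, map_inv, hP3 T hT]⟩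
  intro x hx
  refine MonoidHom.mem_ker.mp ((?_ : ⁅K, K⁆ ≤ θ.ker) hx)
  rw [commutator_le]
  intro k hk l hl
  rw [MonoidHom.mem_ker, map_commutatorElement, commutatorElement_eq_one_iff_mul_comm]
  obtain ⟨P, hP1, hP2, hP3⟩ := hrep (θ l v₀)
  have hl' : (θ l).toMonoidHom = P :=
    hext _ _ (fun a ha v => hcommA a ha l hl v) hP2 hP1.symm
  refine MulEquiv.ext fun v => ?_
  rw [MulAut.mul_apply, MulAut.mul_apply]
  have h3 := hP3 (θ k).toMonoidHom (fun a ha v => hcommA a ha k hk v) v
  rw [← hl'] at h3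
  exact h3

/-- If the complement has cyclic fixed points, the derived subgroup of the kernel acts trivially. -/
theorem commutator_trivial (hcompl : IsComplement' K R)
    (hfpf : ∀ r ∈ R, r ≠ 1 → ∀ k ∈ K, r * k = k * r → k = 1) [Group.IsNilpotent K] :
    ∀ (n : ℕ) (M : Type v) [Group M] [Finite M] [Group.IsNilpotent M] (θ : B →* MulAut M),
      Nat.card M = n → (Nat.card B).Coprime (Nat.card M) → fixed θ K = ⊥ →
      IsCyclic (fixed θ R) → ∀ x ∈ ⁅K, K⁆, ∀ v, θ x v = v := by
  classical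
  intro n
  induction n using Nat.strong_induction_on with
  | _ n ih =>
  intro M _ _ _ θ hn hcop hK0 hcyc x hx v
  by_cases hM : Subsingleton M
  · exact Subsingleton.elim _ _
  haveI : Nontrivial M := not_subsingleton_iff_nontrivial.mp hM
  obtain ⟨q, hq, Z, hZn, hZc, hZinv, hZexp, hZ1, hqd⟩ := exists_layer θ
  haveI := hZn
  haveI := hZc
  haveI := hcyc
  haveI : Fact q.Prime := ⟨hq⟩
  letI : CommGroup Z := { (inferInstance : Group Z) with mul_comm := hZc.is_comm.comm }
  have hKq : fixed (quot θ Z hZinv) K = ⊥ := by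
    rw [eq_bot_iff]
    intro x hx
    obtain ⟨y, hy, rfl⟩ := exists_lift θ Z hZinv hcop K hx
    rw [hK0, mem_bot] at hy
    rw [hy, QuotientGroup.mk_one]
    exact one_mem _
  have hlt : Nat.card (M ⧸ Z) < n := by
    rw [← hn, card_eq_card_quotient_mul_card_subgroup Z]
    exact lt_mul_of_one_lt_right Nat.card_pos hZ1
  have hcycq : IsCyclic (fixed (quot θ Z hZinv) R) := by
    have hmap : (fixed θ R).map (QuotientGroup.mk' Z) = fixed (quot θ Z hZinv) R := by
      refine le_antisymm ?_ fun x hx => ?_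
      · rintro _ ⟨y, hy, rfl⟩ s hs
        rw [QuotientGroup.mk'_apply, quot_mk, hy s hs]
      · obtain ⟨y, hy, rfl⟩ := exists_lift θ Z hZinv hcop R hx
        exact ⟨y, hy, rfl⟩
    rw [← hmap]
    exact isCyclic_of_surjective _ ((QuotientGroup.mk' Z).subgroupMap_surjective (fixed θ R))
  have hq1 := ih _ hlt (M ⧸ Z) (quot θ Z hZinv) rfl
    (hcop.coprime_dvd_right (card_quotient_dvd_card Z)) hKq hcycq
  have hd : Nat.card (fixed (restrict θ Z hZinv) R) ≤ q := by
    let f : fixed (restrict θ Z hZinv) R →* fixed θ R :=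
      (Z.subtype.comp (fixed (restrict θ Z hZinv) R).subtype).codRestrict _
        fun z s hs => congrArg Subtype.val (z.2 s hs)
    have hf : Function.Injective f := fun a b h =>
      Subtype.ext (Subtype.ext (congrArg (fun w : fixed θ R => (w : M)) h))
    haveI : Fintype (fixed θ R) := Fintype.ofFinite _
    refine le_trans ?_ (IsCyclic.card_pow_eq_one_le (α := fixed θ R) (n := q) hq.pos)
    rw [← Fintype.card_coe, ← Nat.card_eq_fintype_card]
    refine Nat.card_le_card_of_injective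
      (fun z => ⟨f z, Finset.mem_filter.mpr ⟨Finset.mem_univ _,
        Subtype.ext ((SubgroupClass.coe_pow _ _).trans (hZexp _ z.1.2))⟩⟩)
      fun a b h => hf (congrArg Subtype.val h)
  have hq2 := commutator_le_ker (V := Z) (q := q)
    (fun z => Subtype.ext (by simpa using hZexp z z.2)) (restrict θ Z hZinv)
    (hcop.coprime_dvd_right hqd) hcompl hfpf (by
      rw [eq_bot_iff]
      intro z hz
      have : (z : M) ∈ fixed θ K := fun k hk => congrArg Subtype.val (hz k hk)
      rw [hK0, mem_bot] at this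
      exact mem_bot.mpr (Subtype.ext this)) hd
  letI : MulDistribMulAction ↥(⁅K, K⁆ : Subgroup B) M :=
    MulDistribMulAction.compHom M (θ.comp (⁅K, K⁆ : Subgroup B).subtype)
  exact Cfsg.Agent.Lib.Coprime.Action.smul_eq_of_series (A := ↥(⁅K, K⁆ : Subgroup B)) (G := M) (N := Z)
    ((hcop.coprime_dvd_left (card_subgroup_dvd_card _)).coprime_dvd_right Z.card_subgroup_dvd_card)
    (fun a z hz => show θ a z = z by have h2 := hq2 a a.2; have h3 := DFunLike.congr_fun h2 (⟨z, hz⟩ : Z); exact congrArg Subtype.val h3)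
    (fun a g => QuotientGroup.eq.mp ((quot_mk θ Z hZinv a g).symm.trans
      (hq1 a a.2 g)).symm) ⟨x, hx⟩ v

end Cfsg.Agent.Lib.OddLocal.FrobeniusAction
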