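import Mathlib
import Cfsg.Agent.Lib.OddLocal.FrobeniusAction
import Cfsg.Agent.S0033

/-!
Frobenius groups acting on nilpotent subgroups, in an ambient group.
-/

set_option autoImplicit false

universe u

namespace Cfsg.Agent.Lib.OddLocal.FrobeniusAmbient

open Subgroup
open scoped commutatorElement Pointwise

variable {X : Type u} [Group X] [Finite X] {K R M : Subgroup X}

omit [Finite X] in
theorem normal_subgroupOf_sup (hRK : R ≤ normalizer (K : Set X)) :
    (K.subgroupOf (K ⊔ R)).Normal :=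
  normal_subgroupOf_of_le_normalizer (sup_le le_normalizer hRK)

omit [Finite X] in
theorem isComplement'_subgroupOf (hKR : K ⊓ R = ⊥) (hRK : R ≤ normalizer (K : Set X)) :
    IsComplement' (K.subgroupOf (K ⊔ R)) (R.subgroupOf (K ⊔ R)) := by
  refine isComplement'_of_disjoint_and_mul_eq_univ ?_ ?_
  · rw [disjoint_iff, eq_bot_iff]
    intro x hx
    have : (x : X) ∈ K ⊓ R := ⟨hx.1, hx.2⟩
    rw [hKR, mem_bot] at this
    exact mem_bot.mpr (Subtype.ext this)
  · refine Set.eq_univ_of_forall fun x => ?_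
    have hx : (x : X) ∈ (R : Set X) * (K : Set X) := by
      have hcoe := coe_mul_of_left_le_normalizer_right R K hRK
      rw [sup_comm] at hcoe
      exact hcoe ▸ (x.2 : (x : X) ∈ ((K ⊔ R : Subgroup X) : Set X))
    obtain ⟨r, hr, k, hk, he⟩ := hx
    refine ⟨⟨r * k * r⁻¹, mem_sup_left ((mem_normalizer_iff.mp (hRK hr) k).mp hk)⟩,
      (mem_normalizer_iff.mp (hRK hr) k).mp hk, ⟨r, mem_sup_right hr⟩, hr, Subtype.ext ?_⟩
    simpa using he

omit [Finite X] in
theorem fpf_subgroupOf (hfrob : ∀ r ∈ R, r ≠ 1 → K ⊓ centralizer ({r} : Set X) = ⊥) :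
    ∀ r ∈ R.subgroupOf (K ⊔ R), r ≠ 1 → ∀ k ∈ K.subgroupOf (K ⊔ R), r * k = k * r → k = 1 := by
  intro r hr hr1 k hk h
  have : (k : X) ∈ K ⊓ centralizer ({(r : X)} : Set X) :=
    ⟨hk, mem_centralizer_singleton_iff.mpr (congrArg Subtype.val h).symm⟩
  rw [hfrob r hr (fun h' => hr1 (Subtype.ext h')), mem_bot] at this
  exact Subtype.ext this

/-- The kernel is nilpotent. -/
theorem isNilpotent_kernel (hK1 : K ≠ ⊥) (hR1 : R ≠ ⊥) (hRK : R ≤ normalizer (K : Set X))
    (hfrob : ∀ r ∈ R, r ≠ 1 → K ⊓ centralizer ({r} : Set X) = ⊥) :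
    Group.IsNilpotent (K.subgroupOf (K ⊔ R)) := by
  haveI := normal_subgroupOf_sup hRK
  obtain ⟨p, hp, hpd⟩ := Nat.exists_prime_and_dvd (mt card_eq_one.mp hR1)
  haveI : Fact p.Prime := ⟨hp⟩
  obtain ⟨r, hr⟩ := exists_prime_orderOf_dvd_card' (G := R) p hpd
  have hr1 : (r : X) ≠ 1 := fun h => hp.ne_one (by
    rw [← hr, ← Subgroup.orderOf_coe, h, orderOf_one])
  let r' : ↥(K ⊔ R) := ⟨r, mem_sup_right r.2⟩
  let φ : MulAut (K.subgroupOf (K ⊔ R)) := MulAut.conjNormal r'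
  have hfix : ∀ k : K.subgroupOf (K ⊔ R), φ k = k → k = 1 := by
    intro k hk
    have h1 : (r : X) * (k.1 : X) * (r : X)⁻¹ = (k.1 : X) := by
      have := congrArg (fun z : K.subgroupOf (K ⊔ R) => ((z : ↥(K ⊔ R)) : X)) hk
      simpa [φ, r'] using this
    have h2 : (k.1 : X) ∈ K ⊓ centralizer ({(r : X)} : Set X) :=
      ⟨k.2, mem_centralizer_singleton_iff.mpr (mul_inv_eq_iff_eq_mul.mp h1).symm⟩
    rw [hfrob r r.2 hr1, mem_bot] at h2
    exact Subtype.ext (Subtype.ext h2)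
  refine Cfsg.Agent.S0033.result φ (fun k => hfix k) p hp (orderOf_eq_prime ?_ fun h => ?_)
  · rw [← map_pow, show r' ^ p = 1 from Subtype.ext (by
      have := pow_orderOf_eq_one (r : X)
      rw [Subgroup.orderOf_coe, hr] at this
      simpa [r'] using this), map_one]
  · refine hK1 (le_bot_iff.mp fun k hk => mem_bot.mpr ?_)
    have := hfix ⟨⟨k, mem_sup_left hk⟩, hk⟩ (by rw [h]; rfl)
    exact congrArg (fun z : K.subgroupOf (K ⊔ R) => ((z : ↥(K ⊔ R)) : X)) this

/-- The conjugation action of `K R` on `M`. -/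
noncomputable def act (hKM : K ≤ normalizer (M : Set X)) (hRM : R ≤ normalizer (M : Set X)) :
    ↥(K ⊔ R) →* MulAut M :=
  M.normalizerMonoidHom.comp (inclusion (sup_le hKM hRM))

theorem act_apply (hKM : K ≤ normalizer (M : Set X)) (hRM : R ≤ normalizer (M : Set X))
    (b : ↥(K ⊔ R)) (m : M) : ((act hKM hRM b m : M) : X) = (b : X) * m * (b : X)⁻¹ := rfl

theorem map_fixed (hKM : K ≤ normalizer (M : Set X)) (hRM : R ≤ normalizer (M : Set X))
    {S : Subgroup X} (hS : S ≤ K ⊔ R) :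
    (FrobeniusAction.fixed (act hKM hRM) (S.subgroupOf (K ⊔ R))).map M.subtype =
      M ⊓ centralizer (S : Set X) := by
  ext x
  constructor
  · rintro ⟨m, hm, rfl⟩
    refine ⟨m.2, mem_centralizer_iff.mpr fun s hs => ?_⟩
    have := congrArg Subtype.val (hm ⟨s, hS hs⟩ hs)
    rw [act_apply] at this
    exact mul_inv_eq_iff_eq_mul.mp this
  · rintro ⟨hxM, hxC⟩
    refine ⟨⟨x, hxM⟩, fun s hs => Subtype.ext ?_, rfl⟩
    rw [act_apply]
    exact mul_inv_eq_iff_eq_mul.mpr (mem_centralizer_iff.mp hxC s hs)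

theorem fixed_kernel (hKM : K ≤ normalizer (M : Set X)) (hRM : R ≤ normalizer (M : Set X))
    (hCK : M ⊓ centralizer (K : Set X) = ⊥) :
    FrobeniusAction.fixed (act hKM hRM) (K.subgroupOf (K ⊔ R)) = ⊥ := by
  apply map_injective M.subtype_injective
  rw [map_fixed hKM hRM le_sup_left, hCK, Subgroup.map_bot]

/-- The order formula. -/
theorem card_eq_pow (hKR : K ⊓ R = ⊥) (hRK : R ≤ normalizer (K : Set X))
    (hfrob : ∀ r ∈ R, r ≠ 1 → K ⊓ centralizer ({r} : Set X) = ⊥) (hMn : Group.IsNilpotent M)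
    (hKM : K ≤ normalizer (M : Set X)) (hRM : R ≤ normalizer (M : Set X))
    (hcop : (Nat.card ↥(K ⊔ R)).Coprime (Nat.card M)) (hCK : M ⊓ centralizer (K : Set X) = ⊥) :
    Nat.card M = Nat.card ↥(M ⊓ centralizer (R : Set X)) ^ Nat.card R := by
  haveI := normal_subgroupOf_sup hRK
  haveI := hMn
  rw [← map_fixed hKM hRM le_sup_right, card_map_of_injective M.subtype_injective,
    ← Nat.card_congr (subgroupOfEquivOfLe (le_sup_right : R ≤ K ⊔ R)).toEquiv]
  exact FrobeniusAction.card_eq_pow (isComplement'_subgroupOf hKR hRK) (fpf_subgroupOf hfrob)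
    _ M (act hKM hRM) rfl hcop (fixed_kernel hKM hRM hCK)

/-- Cyclic fixed points of the complement. -/
theorem commutator_le_centralizer (hK1 : K ≠ ⊥) (hR1 : R ≠ ⊥) (hKR : K ⊓ R = ⊥)
    (hRK : R ≤ normalizer (K : Set X))
    (hfrob : ∀ r ∈ R, r ≠ 1 → K ⊓ centralizer ({r} : Set X) = ⊥) (hMn : Group.IsNilpotent M)
    (hKM : K ≤ normalizer (M : Set X)) (hRM : R ≤ normalizer (M : Set X))
    (hcop : (Nat.card ↥(K ⊔ R)).Coprime (Nat.card M)) (hCK : M ⊓ centralizer (K : Set X) = ⊥)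
    (hcyc : IsCyclic ↥(M ⊓ centralizer (R : Set X))) :
    ⁅K, K⁆ ≤ centralizer (M : Set X) := by
  haveI := normal_subgroupOf_sup hRK
  haveI := hMn
  haveI := isNilpotent_kernel hK1 hR1 hRK hfrob
  rw [← map_fixed hKM hRM le_sup_right] at hcyc
  haveI := hcyc
  have hcyc' : IsCyclic (FrobeniusAction.fixed (act hKM hRM) (R.subgroupOf (K ⊔ R))) :=
    isCyclic_of_surjective
      ((FrobeniusAction.fixed (act hKM hRM) (R.subgroupOf (K ⊔ R))).equivMapOfInjective M.subtype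
        M.subtype_injective).symm
      (MulEquiv.surjective _)
  have hmain := FrobeniusAction.commutator_trivial (isComplement'_subgroupOf hKR hRK)
    (fpf_subgroupOf hfrob) _ M (act hKM hRM) rfl hcop (fixed_kernel hKM hRM hCK) hcyc'
  intro x hx
  have hxB : x ∈ K ⊔ R := (le_sup_left : K ≤ K ⊔ R) ((le_normalizer_iff_commutator_le_left.mp
    le_normalizer) hx)
  refine mem_centralizer_iff.mpr fun m hm => ?_
  have hx' : (⟨x, hxB⟩ : ↥(K ⊔ R)) ∈ ⁅K.subgroupOf (K ⊔ R), K.subgroupOf (K ⊔ R)⁆ := by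
    refine (mem_map_iff_mem (K ⊔ R).subtype_injective).mp ?_
    rw [map_commutator, subgroupOf_map_subtype, inf_eq_left.mpr le_sup_left]
    exact hx
  have := congrArg Subtype.val (hmain _ hx' ⟨m, hm⟩)
  rw [act_apply] at this
  exact (mul_inv_eq_iff_eq_mul.mp this).symm

end Cfsg.Agent.Lib.OddLocal.FrobeniusAmbient
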