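import Mathlib
import Cfsg.Prelude.Def_OddOrderLocal

/-!
Elementary coprime fixed-point lemmas, proved with one trick: if `x * h * x⁻¹ = k * h` with `k`
fixed by `x` and `k` of order coprime to that of `x`, then `k = 1`.
-/

set_option autoImplicit false

namespace Cfsg.Agent.Lib.OddLocal.CoprimeFix

open Subgroup
open scoped commutatorElement

variable {G : Type*} [Group G]

/-- The fixed commutator trick. -/
theorem comm_of_fixed {x h k : G} (hk : x * h * x⁻¹ = k * h) (hfix : x * k = k * x)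
    (hcop : (orderOf x).Coprime (orderOf k)) : x * h = h * x := by
  have hiter : ∀ m : ℕ, x ^ m * h * (x ^ m)⁻¹ = k ^ m * h := by
    intro m
    induction m with
    | zero => simp
    | succ m ih =>
      have hc : Commute x (k ^ m) := (show Commute x k from hfix).pow_right m
      calc x ^ (m + 1) * h * (x ^ (m + 1))⁻¹ = x * (x ^ m * h * (x ^ m)⁻¹) * x⁻¹ := by
            rw [pow_succ', mul_inv_rev]; simp only [mul_assoc]
        _ = x * k ^ m * h * x⁻¹ := by rw [ih]; simp only [mul_assoc]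
        _ = k ^ m * (x * h * x⁻¹) := by rw [hc.eq]; simp only [mul_assoc]
        _ = k ^ (m + 1) * h := by rw [hk, pow_succ]; simp only [mul_assoc]
  have h1 : k ^ orderOf x = 1 := by
    have := hiter (orderOf x)
    rw [pow_orderOf_eq_one, one_mul, inv_one, mul_one] at this
    exact mul_eq_right.mp this.symm
  have hk1 : k = 1 := by
    rw [← orderOf_eq_one_iff]
    exact Nat.dvd_one.mp (hcop ▸ Nat.dvd_gcd (orderOf_dvd_of_pow_eq_one h1) dvd_rfl)
  rw [hk1, one_mul, mul_inv_eq_iff_eq_mul] at hk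
  exact hk

/-- An element stabilising a finite series of `H`, of order coprime to `|H|`, centralizes `H`. -/
theorem centralizes_of_series {H : Subgroup G} {n : ℕ} (c : Fin (n + 1) → Subgroup G)
    (hc0 : c 0 = H) (hcn : c (Fin.last n) = ⊥) (hle : ∀ i, c i ≤ H) {x : G}
    (hcop : (orderOf x).Coprime (Nat.card H))
    (htriv : ∀ i : Fin n, ∀ h ∈ c i.castSucc, x * h * x⁻¹ * h⁻¹ ∈ c i.succ) :
    ∀ h ∈ H, x * h = h * x := by
  suffices ∀ i : Fin (n + 1), ∀ h ∈ c i, x * h = h * x from hc0 ▸ this 0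
  intro i
  induction i using Fin.reverseInduction with
  | last =>
    intro h hh
    rw [hcn, mem_bot] at hh
    simp [hh]
  | cast i ih =>
    intro h hh
    have hk := htriv i h hh
    refine comm_of_fixed (k := x * h * x⁻¹ * h⁻¹) (by group) (ih _ hk) ?_
    exact hcop.coprime_dvd_right (orderOf_dvd_natCard H (hle _ hk))

/-- If `x` fixes a subgroup `C` elementwise and `h` normalizes `C`, then `[x, h]` centralizes `C`. -/
theorem comm_mem_centralizer {C : Subgroup G} {x h : G} (hx : x ∈ centralizer (C : Set G))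
    (hh : h ∈ normalizer (C : Set G)) : x * h * x⁻¹ * h⁻¹ ∈ centralizer (C : Set G) := by
  have hxN : x ∈ normalizer (C : Set G) := by
    rw [mem_normalizer_iff]
    intro c
    constructor
    · intro hc
      rwa [← mem_centralizer_iff.mp hx c hc, mul_inv_cancel_right]
    · intro hc
      have hcomm := mem_centralizer_iff.mp (inv_mem hx) _ hc
      have : c = x * c * x⁻¹ := by
        calc c = x⁻¹ * (x * c * x⁻¹) * x := by group
          _ = x * c * x⁻¹ * x⁻¹ * x := by rw [hcomm]
          _ = x * c * x⁻¹ := by group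
      rw [this]
      exact hc
  rw [mem_centralizer_iff]
  intro c hc
  have hc' : h⁻¹ * c * h ∈ C := (mem_normalizer_iff''.mp hh c).mp hc
  have h1 : x⁻¹ * (h⁻¹ * c * h) = (h⁻¹ * c * h) * x⁻¹ :=
    (mem_centralizer_iff.mp (inv_mem hx) _ hc').symm
  have h2 : c * x = x * c := mem_centralizer_iff.mp hx c hc
  calc c * (x * h * x⁻¹ * h⁻¹) = x * c * h * x⁻¹ * h⁻¹ := by
        rw [show c * (x * h * x⁻¹ * h⁻¹) = c * x * h * x⁻¹ * h⁻¹ by group, h2]
    _ = x * h * ((h⁻¹ * c * h) * x⁻¹) * h⁻¹ := by group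
    _ = x * h * (x⁻¹ * (h⁻¹ * c * h)) * h⁻¹ := by rw [h1]
    _ = x * h * x⁻¹ * h⁻¹ * c := by group

/-- If `x` has order coprime to the nilpotent group `H`, normalizes it, fixes `C ≤ H` elementwise
and fixes `C_H(C)` elementwise, then `x` centralizes `H`. -/
theorem centralizes_of_centralizer_fixed [Finite G] {H C : Subgroup G} (hH : Group.IsNilpotent H)
    (hCH : C ≤ H) {x : G} (hxH : x ∈ normalizer (H : Set G))
    (hcop : (orderOf x).Coprime (Nat.card H))
    (hmax : ∀ h ∈ H, x * h = h * x → h ∈ C) (hxC : x ∈ centralizer (C : Set G))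
    (hxCC : ∀ h ∈ H, h ∈ centralizer (C : Set G) → x * h = h * x) :
    ∀ h ∈ H, x * h = h * x := by
  have key : ∀ h ∈ H, h ∈ normalizer (C : Set G) → h ∈ C := by
    intro h hh hN
    refine hmax h hh (comm_of_fixed (k := x * h * x⁻¹ * h⁻¹) (by group) ?_ ?_)
    · exact hxCC _ (mul_mem ((mem_normalizer_iff.mp hxH h).mp hh) (inv_mem hh))
        (comm_mem_centralizer hxC hN)
    · exact hcop.coprime_dvd_right
        (orderOf_dvd_natCard H (mul_mem ((mem_normalizer_iff.mp hxH h).mp hh) (inv_mem hh)))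
  have : C.subgroupOf H = ⊤ := by
    refine normalizerCondition_iff_only_full_group_self_normalizing.mp
      (Group.normalizerCondition_of_isNilpotent) _ ?_
    refine le_antisymm ?_ le_normalizer
    intro h hh
    refine key h h.2 ?_
    rw [mem_normalizer_iff] at hh ⊢
    intro c
    constructor
    · intro hc
      exact (hh ⟨c, hCH hc⟩).mp hc
    · intro hc
      have h2 : c = (h : G)⁻¹ * ((h : G) * c * (h : G)⁻¹) * h := by group
      have hcH : c ∈ H := by
        rw [h2]
        exact mul_mem (mul_mem (inv_mem h.2) (hCH hc)) h.2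
      exact (hh ⟨c, hcH⟩).mpr hc
  rw [subgroupOf_eq_top] at this
  intro h hh
  exact (mem_centralizer_iff.mp hxC h (this hh)).symm

theorem pow_mul_comm_formula {h k d : G} (hd : h * k = d * k * h) (hdh : Commute d h)
    (hdk : Commute d k) (n : ℕ) : (k * h) ^ n = d ^ (n.choose 2) * (k ^ n * h ^ n) := by
  have hmove : ∀ n : ℕ, h ^ n * k = d ^ n * k * h ^ n := by
    intro n
    induction n with
    | zero => simp
    | succ n ih =>
      calc h ^ (n + 1) * k = h * (h ^ n * k) := by rw [pow_succ', mul_assoc]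
        _ = d ^ n * (h * k) * h ^ n := by
          rw [ih]; simp only [← mul_assoc]; rw [(hdh.pow_left n).symm.eq]
        _ = d ^ (n + 1) * k * h ^ (n + 1) := by
          rw [hd, pow_succ d, pow_succ' h]; simp only [mul_assoc]
  induction n with
  | zero => simp
  | succ n ih =>
    rw [pow_succ, ih, Nat.choose_succ_succ, Nat.choose_one_right, pow_add]
    calc d ^ n.choose 2 * (k ^ n * h ^ n) * (k * h)
        = d ^ n.choose 2 * (k ^ n * (h ^ n * k) * h) := by simp only [mul_assoc]
      _ = d ^ n.choose 2 * (k ^ n * d ^ n * k * (h ^ n * h)) := by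
        rw [hmove]; simp only [mul_assoc]
      _ = d ^ n.choose 2 * (d ^ n * (k ^ n * k) * (h ^ n * h)) := by
        rw [((hdk.pow_left n).pow_right n).symm.eq]; simp only [mul_assoc]
      _ = d ^ n * d ^ n.choose 2 * (k ^ (n + 1) * h ^ (n + 1)) := by
        rw [(Commute.pow_pow_self d n (n.choose 2)).eq, ← pow_succ k n, ← pow_succ h n]
        simp only [mul_assoc]

/-- For odd `p`, an element of order prime to `p` fixing every element of order `p` of a finite
`p`-group centralizes that group. -/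
theorem centralizes_of_omega {p : ℕ} [Fact p.Prime] [Finite G] (hp : p ≠ 2) {x : G}
    (hcop : (orderOf x).Coprime p) {Q : Subgroup G} (hQ : IsPGroup p Q)
    (hxQ : x ∈ normalizer (Q : Set G)) (hfix : ∀ h ∈ Q, orderOf h = p → x * h = h * x) :
    ∀ h ∈ Q, x * h = h * x := by
  suffices ∀ (N : ℕ) (Q : Subgroup G), Nat.card Q = N → IsPGroup p Q →
      x ∈ normalizer (Q : Set G) → (∀ h ∈ Q, orderOf h = p → x * h = h * x) →
      ∀ h ∈ Q, x * h = h * x from this _ Q rfl hQ hxQ hfix
  intro N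
  induction N using Nat.strong_induction_on with
  | _ N ih =>
  intro Q hN hQ hxQ hfix h hh
  rcases eq_or_ne Q ⊥ with hbot | hbot
  · rw [hbot, mem_bot] at hh
    simp [hh]
  have hlt : ∀ R : Subgroup G, R ≤ Q → R ≠ Q → x ∈ normalizer (R : Set G) →
      ∀ r ∈ R, x * r = r * x := fun R hle hne hxR =>
    ih (Nat.card R) (hN ▸ lt_of_le_of_ne (card_le_of_le hle)
      (fun he => hne (eq_of_le_of_card_ge hle he.ge))) R rfl (hQ.to_le hle) hxR
      (fun r hr => hfix r (hle hr))
  have hxQ' : ∀ y ∈ Q, x * y * x⁻¹ ∈ Q := fun y hy => (mem_normalizer_iff.mp hxQ y).mp hy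
  have hkQ : ∀ y ∈ Q, x * y * x⁻¹ * y⁻¹ ∈ Q := fun y hy => mul_mem (hxQ' y hy) (inv_mem hy)
  have hkcop : ∀ y ∈ Q, (orderOf x).Coprime (orderOf (x * y * x⁻¹ * y⁻¹)) := by
    intro y hy
    obtain ⟨m, hm⟩ := IsPGroup.iff_orderOf.mp hQ ⟨_, hkQ y hy⟩
    rw [Subgroup.orderOf_mk] at hm
    rw [hm]
    exact hcop.pow_right m
  -- the subgroup generated by the commutators with `x`
  let K : Subgroup G := closure {k | ∃ y ∈ Q, k = x * y * x⁻¹ * y⁻¹}
  have hKQ : K ≤ Q := (closure_le _).mpr (by rintro k ⟨y, hy, rfl⟩; exact hkQ y hy)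
  have hxK : x ∈ normalizer (K : Set G) := by
    have hle : K.map (MulAut.conj x).toMonoidHom ≤ K := by
      rw [MonoidHom.map_closure]
      refine closure_mono ?_
      rintro k ⟨_, ⟨y, hy, rfl⟩, rfl⟩
      refine ⟨x * y * x⁻¹, hxQ' y hy, ?_⟩
      simp [MulAut.conj_apply, mul_assoc]
    have heq : K.map (MulAut.conj x).toMonoidHom = K :=
      eq_of_le_of_card_ge hle (card_map_of_injective (MulAut.conj x).injective).ge
    rw [mem_normalizer_iff]
    intro y
    conv_rhs => rw [← heq]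
    constructor
    · intro hy
      exact ⟨y, hy, rfl⟩
    · rintro ⟨z, hz, he⟩
      rw [MulEquiv.coe_toMonoidHom, MulAut.conj_apply] at he
      exact (mul_left_cancel (mul_right_cancel he) : z = y) ▸ hz
  by_cases hK : K = Q
  swap
  · exact comm_of_fixed (k := x * h * x⁻¹ * h⁻¹) (by group)
      (hlt K hKQ hK hxK _ (subset_closure ⟨h, hh, rfl⟩)) (hkcop h hh)
  -- the Frattini subgroup of `Q`
  haveI : Group.IsNilpotent Q := hQ.isNilpotent
  haveI : Nontrivial Q := (nontrivial_iff_ne_bot Q).mpr hbot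
  let D : Subgroup G := (frattini Q).map Q.subtype
  have hDQ : D ≤ Q := map_subtype_le _
  have hDne : D ≠ Q := by
    intro he
    have htop : frattini Q = ⊤ := map_injective Q.subtype_injective
      (he.trans (by rw [← MonoidHom.range_eq_map, range_subtype]))
    exact bot_ne_top (α := Subgroup Q) (frattini_nongenerating (by rw [htop, bot_sup_eq]))
  have hmem : ∀ y : Q, ∀ z : Q, y ^ p ∈ frattini Q ∧ y * z * y⁻¹ * z⁻¹ ∈ frattini Q := by
    intro y z
    suffices ∀ M : Subgroup Q, IsCoatom M → y ^ p ∈ M ∧ y * z * y⁻¹ * z⁻¹ ∈ M by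
      refine ⟨?_, ?_⟩ <;> simp only [frattini, Order.radical, mem_iInf] <;> intro M hM
      exacts [(this M hM).1, (this M hM).2]
    intro M hM
    haveI hMn : M.Normal := Group.normalizerCondition_of_isNilpotent.normal_of_coatom M hM
    haveI : IsSimpleGroup (Q ⧸ M) := by
      haveI : Nontrivial (Q ⧸ M) := QuotientGroup.nontrivial_iff.mpr hM.1
      refine ⟨fun L hL => ?_⟩
      rcases hM.le_iff.mp (show M ≤ L.comap (QuotientGroup.mk' M) from
        fun m hm => by rw [mem_comap, QuotientGroup.mk'_apply, (QuotientGroup.eq_one_iff m).mpr hm];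
                       exact one_mem L) with h1 | h1
      · refine Or.inr ?_
        rw [eq_top_iff]
        intro w _
        obtain ⟨v, rfl⟩ := QuotientGroup.mk'_surjective M w
        exact (h1 ▸ mem_top v : v ∈ L.comap (QuotientGroup.mk' M))
      · refine Or.inl ((eq_bot_iff_forall L).mpr fun w hw => ?_)
        obtain ⟨v, rfl⟩ := QuotientGroup.mk'_surjective M w
        rw [QuotientGroup.mk'_apply, QuotientGroup.eq_one_iff, ← h1]
        exact hw
    have hcomm : ∀ a b : Q ⧸ M, a * b = b * a := by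
      have hcn : (center (Q ⧸ M)) ≠ ⊥ :=
        (nontrivial_iff_ne_bot _).mp (hQ.to_quotient M).center_nontrivial
      have htop := ((center (Q ⧸ M)).normal_of_characteristic.eq_bot_or_eq_top).resolve_left hcn
      intro a b
      exact (mem_center_iff.mp (htop ▸ mem_top a : a ∈ center (Q ⧸ M)) b).symm
    haveI : IsMulCommutative (Q ⧸ M) := ⟨⟨hcomm⟩⟩
    have hcard : Nat.card (Q ⧸ M) = p := by
      obtain ⟨m, hm⟩ := IsPGroup.iff_card.mp (hQ.to_quotient M)
      have hpr := Group.is_simple_iff_prime_card.mp (inferInstance : IsSimpleGroup (Q ⧸ M))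
      rw [hm] at hpr ⊢
      rw [Nat.Prime.eq_one_of_pow hpr, pow_one]
    refine ⟨?_, ?_⟩
    · rw [← QuotientGroup.eq_one_iff, QuotientGroup.mk_pow, ← hcard]
      exact pow_card_eq_one'
    · rw [← QuotientGroup.eq_one_iff]
      simp only [QuotientGroup.mk_mul, QuotientGroup.mk_inv]
      rw [hcomm (y : Q ⧸ M) (z : Q ⧸ M), mul_assoc (z : Q ⧸ M), mul_inv_cancel, mul_one,
        mul_inv_cancel]
  have hxD : x ∈ normalizer (D : Set G) := by
    have hQN : (frattini Q).map Q.subtype ≤ Q := map_subtype_le _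
    let e : Q ≃* Q :=
      { toFun := fun y => ⟨x * y * x⁻¹, hxQ' y y.2⟩
        invFun := fun y => ⟨x⁻¹ * y * x, (mem_normalizer_iff''.mp hxQ y).mp y.2⟩
        left_inv := fun y => by ext; simp [mul_assoc]
        right_inv := fun y => by ext; simp [mul_assoc]
        map_mul' := fun y z => by ext; simp [mul_assoc] }
    have hchar := characteristic_iff_comap_eq.mp (frattini_characteristic (G := Q)) e
    rw [mem_normalizer_iff]
    intro y
    constructor
    · rintro ⟨w, hw, rfl⟩
      refine ⟨e w, ?_, rfl⟩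
      rw [← hchar] at hw
      exact hw
    · rintro ⟨w, hw, hwy⟩
      have hwy' : (w : G) = x * y * x⁻¹ := hwy
      refine ⟨e.symm w, ?_, ?_⟩
      · rw [← hchar]
        change e (e.symm w) ∈ frattini Q
        rw [e.apply_symm_apply]
        exact hw
      · change x⁻¹ * (w : G) * x = y
        rw [hwy']
        simp [mul_assoc]
  have hDfix := hlt D hDQ hDne hxD
  have hxDc : x ∈ centralizer (D : Set G) := mem_centralizer_iff.mpr fun d hd => (hDfix d hd).symm
  have hQND : ∀ y ∈ Q, y ∈ normalizer (D : Set G) := by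
    intro y hy
    rw [mem_normalizer_iff]
    intro d
    constructor
    · rintro ⟨w, hw, rfl⟩
      exact ⟨⟨y, hy⟩ * w * ⟨y, hy⟩⁻¹, (inferInstance : (frattini Q).Normal).conj_mem w hw _, rfl⟩
    · rintro ⟨w, hw, hwy⟩
      have hwy' : (w : G) = y * d * y⁻¹ := hwy
      refine ⟨⟨y, hy⟩⁻¹ * w * ⟨y, hy⟩, ?_, ?_⟩
      · simpa using (inferInstance : (frattini Q).Normal).conj_mem w hw ⟨y, hy⟩⁻¹
      · change y⁻¹ * (w : G) * y = d
        rw [hwy']
        simp [mul_assoc]
  have hDcent : ∀ y ∈ Q, y ∈ centralizer (D : Set G) := by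
    have : K ≤ centralizer (D : Set G) := (closure_le _).mpr (by
      rintro k ⟨y, hy, rfl⟩
      exact comm_mem_centralizer hxDc (hQND y hy))
    rwa [hK] at this
  -- the commutator `k = [x, h]` has order dividing `p`
  obtain ⟨k, hk⟩ : ∃ k, k = x * h * x⁻¹ * h⁻¹ := ⟨_, rfl⟩
  have hkmem : k ∈ Q := hk ▸ hkQ h hh
  obtain ⟨d, hd⟩ : ∃ d, d = h * k * h⁻¹ * k⁻¹ := ⟨_, rfl⟩
  have hdD : d ∈ D := ⟨⟨h, hh⟩ * ⟨k, hkmem⟩ * ⟨h, hh⟩⁻¹ * ⟨k, hkmem⟩⁻¹,
    (hmem _ _).2, by simp [hd]⟩
  have hhpD : h ^ p ∈ D := ⟨⟨h, hh⟩ ^ p, (hmem _ ⟨k, hkmem⟩).1, by simp⟩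
  have hdh : Commute d h := (mem_centralizer_iff.mp (hDcent h hh) d hdD)
  have hdk : Commute d k := (mem_centralizer_iff.mp (hDcent k hkmem) d hdD)
  have hhk : h * k = d * k * h := by rw [hd]; group
  have hdp : d ^ p = 1 := by
    have h1 : k * h * k⁻¹ = d⁻¹ * h := by rw [hd]; group
    have h2 : (k * h * k⁻¹) ^ p = k * h ^ p * k⁻¹ := by rw [conj_pow]
    rw [h1, (hdh.inv_left).mul_pow, ← mem_centralizer_iff.mp (hDcent k hkmem) _ hhpD,
      mul_inv_cancel_right, mul_eq_right, inv_pow, inv_eq_one] at h2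
    exact h2
  have hpp := (Fact.out : p.Prime)
  have hformula := pow_mul_comm_formula hhk hdh hdk p
  have hkh : k * h = x * h * x⁻¹ := by rw [hk]; group
  obtain ⟨c, hc⟩ := hpp.dvd_choose_self two_ne_zero (lt_of_le_of_ne hpp.two_le (Ne.symm hp))
  rw [hc, pow_mul, hdp, one_pow, one_mul, hkh, conj_pow, hDfix _ hhpD, mul_inv_cancel_right,
    eq_comm, mul_eq_right] at hformula
  refine comm_of_fixed (k := k) hkh.symm ?_ (hk ▸ hkcop h hh)
  rcases (Nat.dvd_prime hpp).mp (orderOf_dvd_of_pow_eq_one hformula) with h1 | h1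
  · rw [orderOf_eq_one_iff] at h1
    simp [h1]
  · exact hfix k hkmem h1

end Cfsg.Agent.Lib.OddLocal.CoprimeFix
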