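import Cfsg.Agent.Lib.OddLocal.PLengthAbelian
import Cfsg.Agent.Lib.OddLocal.CoprimeFix
import Cfsg.Agent.Lib.PGroups.Frattini
import Cfsg.Agent.Lib.Coprime.Commutator
import Cfsg.Agent.S3736

/-!
# The key lemma for BG 3.7

`centralizes` : for odd primes, a `p`-group `P` with a fixed point free operator `x` of prime order
centralizes a `q`-group `Q` acting faithfully on an elementary abelian `p`-group, if `x` has cyclic
fixed points on both.
-/

set_option autoImplicit false
set_option linter.unusedSectionVars false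
set_option linter.style.haveILetI false

namespace Cfsg.Agent.Lib.OddLocal.PLengthKey

open Subgroup
open Cfsg.Agent.Lib
open scoped commutatorElement

universe u

variable {G : Type u} [Group G] [Finite G]

theorem mem_of_pow_mem {A : Type*} [Group A] {H : Subgroup A} {a : A} {m : ℕ}
    (h : a ^ m ∈ H) (hm : m.Coprime (orderOf a)) : a ∈ H := by
  obtain ⟨k, hk⟩ := exists_pow_eq_self_of_coprime hm
  rw [← hk]
  exact pow_mem h k

theorem card_coprime_of_isPGroup {A B : Type*} [Group A] [Finite A] [Group B] [Finite B] {p q : ℕ}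
    [hp : Fact p.Prime] [hq : Fact q.Prime] (hpq : p ≠ q) (hA : IsPGroup p A) (hB : IsPGroup q B) :
    (Nat.card A).Coprime (Nat.card B) := by
  obtain ⟨k, hk⟩ := IsPGroup.iff_card.mp hA
  obtain ⟨l, hl⟩ := IsPGroup.iff_card.mp hB
  rw [hk, hl]
  exact Nat.Coprime.pow k l ((Nat.coprime_primes hp.out hq.out).2 hpq)

theorem mem_centralizer_of_conj {X : Subgroup G} {v : G}
    (h : ∀ a ∈ X, a * v * a⁻¹ = v) : v ∈ centralizer (X : Set G) :=
  mem_centralizer_iff.2 fun a ha => mul_inv_eq_iff_eq_mul.1 (h a ha)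

theorem pow_mul_class_two {q : ℕ} [hq : Fact q.Prime] (hq2 : q ≠ 2) {a b : G}
    (hda : Commute ⁅b, a⁆ a) (hdb : Commute ⁅b, a⁆ b) (hd : ⁅b, a⁆ ^ q = 1) :
    (a * b) ^ q = a ^ q * b ^ q := by
  rw [CoprimeFix.pow_mul_comm_formula (d := ⁅b, a⁆) (by rw [commutatorElement_def]; group) hdb hda]
  obtain ⟨m, hm⟩ := hq.out.dvd_choose_self (k := 2) (by norm_num)
    (lt_of_le_of_ne hq.out.two_le hq2.symm)
  rw [hm, pow_mul, hd, one_pow, one_mul]

/-- The nonabelian case, centre with trivial fixed points. -/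
theorem module_step {p q r : ℕ} [Fact p.Prime] [hq : Fact q.Prime] [hr : Fact r.Prime] (hpq : p ≠ q)
    {x : G} (hxr : x ^ r = 1) (V Q Z : Subgroup G) (hV : Cfsg.IsElementaryAbelian p V)
    (hQ : IsPGroup q Q) (hZQ : Z ≤ Q) (hZc : Q ≤ centralizer (Z : Set G))
    (hxV : x ∈ normalizer (V : Set G)) (hxZ : x ∈ normalizer (Z : Set G))
    (hQV : Q ≤ normalizer (V : Set G))
    (hcyc : ∀ a ∈ V ⊓ centralizer (zpowers x : Set G), ∀ b ∈ V ⊓ centralizer (zpowers x : Set G),
      a ≠ 1 → b ∈ zpowers a)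
    (hfpf : ∀ z ∈ Z, x * z * x⁻¹ = z → z = 1) :
    ⁅Q, Q⁆ ≤ centralizer ((⁅V, Z⁆ : Subgroup G) : Set G) := by
  classical
  set U := ⁅V, Z⁆ with hU
  have hUV : U ≤ V := Coprime.commutator_le_of_le_normalizer (hZQ.trans hQV)
  have hVp : IsPGroup p V := fun v => ⟨1, by rw [pow_one]; exact Subtype.ext (hV.2 _ v.2)⟩
  have hUc : IsMulCommutative U := ⟨⟨fun a b => Subtype.ext (congrArg Subtype.val
    (hV.1.is_comm.comm (⟨a, hUV a.2⟩ : V) ⟨b, hUV b.2⟩) : (a : G) * b = b * a)⟩⟩
  letI : CommGroup U := { U.toGroup with mul_comm := hUc.is_comm.comm }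
  have hQZ : Q ≤ normalizer (Z : Set G) := fun a ha => mem_normalizer_iff.2 fun z =>
    ⟨fun hz => by rwa [← mem_centralizer_iff.1 (hZc ha) z hz, mul_inv_cancel_right], fun hz => by
      have h1 := mem_centralizer_iff.1 (hZc (inv_mem ha)) _ hz
      have : z = a * z * a⁻¹ := by
        calc z = a⁻¹ * (a * z * a⁻¹) * a := by group
          _ = a * z * a⁻¹ := by rw [← h1]; group
      exact this ▸ hz⟩
  have hQU : Q ≤ normalizer (U : Set G) := fun a ha => commutator_normalized (hQV ha) (hQZ ha)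
  have hxU : x ∈ normalizer (U : Set G) := commutator_normalized hxV hxZ
  let θ : Q →* MulAut U := U.normalizerMonoidHom.comp (inclusion hQU)
  obtain ⟨σ, hσr, hσ⟩ := Shult.exists_aut hxr hxU
  obtain ⟨α, hαr, hα⟩ := Shult.exists_aut hxr hxZ
  have hfix1 : V ⊓ centralizer (Z : Set G) ⊓ U = ⊥ :=
    haveI := hV.1
    Coprime.centralizer_inf_commutator_eq_bot (hZQ.trans hQV)
      (card_coprime_of_isPGroup hpq.symm (hQ.to_le hZQ) hVp)
  -- a generator of the fixed points
  obtain ⟨c, hc, hgen⟩ : ∃ c ∈ U, ∀ v ∈ U, x * v * x⁻¹ = v → v ∈ zpowers c := by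
    by_cases h : ∀ v ∈ U, x * v * x⁻¹ = v → v = 1
    · exact ⟨1, one_mem U, fun v hv hv' => by rw [h v hv hv']; exact one_mem _⟩
    · push Not at h
      obtain ⟨c, hc, hc1, hc2⟩ := h
      exact ⟨c, hc, fun v hv hv' => hcyc c ⟨hUV hc, Shult.mem_centralizer_zpowers hc1⟩ v
        ⟨hUV hv, Shult.mem_centralizer_zpowers hv'⟩ hc2⟩
  let c' : U := ⟨c, hc⟩
  let S : Set U := Set.range fun z : Z => θ ⟨z, hZQ z.2⟩ c'
  have hS : closure S = ⊤ := by
    refine (eq_top_iff' _).2 fun v => ?_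
    have hinv : ∀ z : Z, ∀ m ∈ closure S, θ ⟨z, hZQ z.2⟩ m ∈ closure S := by
      intro z m hm
      have : closure S ≤ (closure S).comap (θ ⟨z, hZQ z.2⟩).toMonoidHom := by
        rw [closure_le]
        rintro _ ⟨z', rfl⟩
        refine subset_closure ⟨z * z', ?_⟩
        show θ ⟨(z : G) * z', _⟩ c' = θ ⟨z, hZQ z.2⟩ (θ ⟨z', hZQ z'.2⟩ c')
        rw [← MulAut.mul_apply, ← map_mul]
        rfl
      exact this hm
    have hc0 : c' ∈ closure S := subset_closure ⟨1, by
      show θ ⟨((1 : Z) : G), _⟩ c' = c'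
      rw [show (⟨((1 : Z) : G), hZQ (one_mem Z)⟩ : Q) = 1 from rfl, map_one, MulAut.one_apply]⟩
    have h := pow_card_mem (θ.comp (inclusion hZQ)) σ α hr.out hσr hαr
      (fun y a => Subtype.ext (by
        show (σ (θ (inclusion hZQ y) a) : G) = (θ (inclusion hZQ (α y)) (σ a) : G)
        rw [hσ]
        show x * ((y : G) * a * (y : G)⁻¹) * x⁻¹ = (α y : G) * (σ a : G) * (α y : G)⁻¹
        rw [hσ, hα]
        group))
      (fun y hy => Subtype.ext (hfpf y y.2 ((hα y).symm.trans (congrArg Subtype.val hy))))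
      (closure S) (fun y m hm => hinv y m hm)
      (fun a ha => by
        obtain ⟨k, hk⟩ := mem_zpowers_iff.1 (hgen a a.2
          ((hσ a).symm.trans (congrArg Subtype.val ha)))
        rw [show a = c' ^ k from Subtype.ext (by rw [← hk]; simp [c'])]
        exact (closure S).zpow_mem hc0 k)
      (fun a ha => by
        have : (a : G) ∈ V ⊓ centralizer (Z : Set G) ⊓ U :=
          ⟨⟨hUV a.2, mem_centralizer_of_conj fun z hz => congrArg Subtype.val (ha ⟨z, hz⟩)⟩, a.2⟩
        rw [hfix1, mem_bot] at this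
        rw [show a = 1 from Subtype.ext this]
        exact one_mem _) v
    exact mem_of_pow_mem h ((card_coprime_of_isPGroup hpq.symm (hQ.to_le hZQ)
      (hVp.to_le hUV)).coprime_dvd_right (orderOf_dvd_natCard v))
  -- every element of `Q` acts as a combination of `Z`
  have hcomm : ∀ (z : Z) (a : Q) (u : U),
      θ a (θ ⟨z, hZQ z.2⟩ u) = θ ⟨z, hZQ z.2⟩ (θ a u) := fun z a u => by
    rw [← MulAut.mul_apply, ← map_mul, ← MulAut.mul_apply, ← map_mul]
    congr 2
    exact Subtype.ext (mem_centralizer_iff.1 (hZc a.2) z z.2).symm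
  have hex : ∀ v : U, ∃ f : U →* U, f c' = v ∧ ∀ (a : Q) (u : U), f (θ a u) = θ a (f u) := by
    intro v
    have hv : v ∈ closure S := hS ▸ mem_top v
    induction hv using closure_induction with
    | mem y hy =>
        obtain ⟨z, rfl⟩ := hy
        exact ⟨(θ ⟨z, hZQ z.2⟩).toMonoidHom, rfl, fun a u => (hcomm z a u).symm⟩
    | one => exact ⟨1, rfl, fun a u => (map_one (θ a)).symm⟩
    | mul y z _ _ hy hz =>
        obtain ⟨f, hf, hf'⟩ := hy
        obtain ⟨g, hg, hg'⟩ := hz
        exact ⟨f * g, by rw [MonoidHom.mul_apply, hf, hg], fun a u => by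
          rw [MonoidHom.mul_apply, MonoidHom.mul_apply, hf', hg', map_mul]⟩
    | inv y _ hy =>
        obtain ⟨f, hf, hf'⟩ := hy
        exact ⟨f⁻¹, by rw [MonoidHom.inv_apply, hf], fun a u => by
          rw [MonoidHom.inv_apply, MonoidHom.inv_apply, hf', map_inv]⟩
  have hmain : ∀ (a b : Q) (u : U), θ a (θ b u) = θ b (θ a u) := by
    intro a b u
    obtain ⟨f, hf, hf'⟩ := hex (θ b c')
    have heq : (θ b).toMonoidHom = f := by
      refine MonoidHom.eq_of_eqOn_top ?_
      rw [← hS]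
      refine MonoidHom.eqOn_closure ?_
      rintro _ ⟨z, rfl⟩
      show θ b (θ ⟨z, hZQ z.2⟩ c') = f (θ ⟨z, hZQ z.2⟩ c')
      rw [hcomm, hf', hf]
    have hb : ∀ u, θ b u = f u := fun u => DFunLike.congr_fun heq u
    rw [hb, hb, hf']
  rw [commutator_le]
  intro a ha b hb
  refine mem_centralizer_iff.2 fun u hu => ?_
  have h1 := congrArg Subtype.val (hmain ⟨a, ha⟩ ⟨b, hb⟩ ⟨(b * a)⁻¹ * u * (b * a), by
    have := (mem_normalizer_iff.1 (inv_mem (mul_mem (hQU hb) (hQU ha))) u).1 hu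
    simpa using this⟩)
  change a * (b * ((b * a)⁻¹ * u * (b * a)) * b⁻¹) * a⁻¹ =
    b * (a * ((b * a)⁻¹ * u * (b * a)) * a⁻¹) * b⁻¹ at h1
  symm
  calc ⁅a, b⁆ * u = a * (b * ((b * a)⁻¹ * u * (b * a)) * b⁻¹) * a⁻¹ * ⁅a, b⁆ := by
        rw [commutatorElement_def]; group
    _ = u * ⁅a, b⁆ := by rw [h1]; group

/-- The nonabelian case, fixed points inside the derived group. -/
theorem abelianization_step {p q r : ℕ} [Fact p.Prime] [hq : Fact q.Prime] [hr : Fact r.Prime]
    (hpq : p ≠ q) (hqr : q ≠ r) {x : G} (hxr : x ^ r = 1) (Q P : Subgroup G)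
    (hQ : IsPGroup q Q) (hP : IsPGroup p P)
    (hxQ : x ∈ normalizer (Q : Set G)) (hxP : x ∈ normalizer (P : Set G))
    (hPQ : P ≤ normalizer (Q : Set G))
    (hfix : Q ⊓ centralizer (zpowers x : Set G) ≤ ⁅Q, Q⁆)
    (hfpf : ∀ g ∈ P, x * g * x⁻¹ = g → g = 1) : ⁅Q, P⁆ ≤ ⁅Q, Q⁆ := by
  classical
  let ψ : normalizer (Q : Set G) →* MulAut (Abelianization Q) :=
    { toFun := fun n => (Q.normalizerMonoidHom n).abelianizationCongr
      map_one' := by rw [map_one]; exact abelianizationCongr_refl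
      map_mul' := fun m n => by
        ext a
        obtain ⟨a, rfl⟩ := QuotientGroup.mk'_surjective _ a
        rw [map_mul]
        rfl }
  obtain ⟨α, hαr, hα⟩ := Shult.exists_aut hxr hxP
  let M : Subgroup (Abelianization Q) :=
    { carrier := {a | ∀ g : P, ψ (inclusion hPQ g) a = a}
      one_mem' := fun g => map_one _
      mul_mem' := fun {a b} ha hb g => by rw [map_mul, ha g, hb g]
      inv_mem' := fun {a} ha g => by rw [map_inv, ha g] }
  have hof : ∀ (a : Q), (Abelianization.of a = 1) → (a : G) ∈ ⁅Q, Q⁆ := fun a ha => by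
    rw [← map_subtype_commutator]
    exact mem_map_of_mem _ ((QuotientGroup.eq_one_iff a).1 ha)
  have hM : ∀ a : Abelianization Q, a ∈ M := by
    intro a
    have h := pow_card_mem (ψ.comp (inclusion hPQ)) (ψ ⟨x, hxQ⟩) α hr.out
      (by rw [← map_pow, show (⟨x, hxQ⟩ : normalizer (Q : Set G)) ^ r = 1 from Subtype.ext hxr,
        map_one]) hαr
      (fun y b => by
        show ψ _ (ψ _ b) = ψ _ (ψ _ b)
        rw [← MulAut.mul_apply, ← map_mul, ← MulAut.mul_apply, ← map_mul]
        congr 2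
        refine Subtype.ext ?_
        show x * (y : G) = (α y : G) * x
        rw [hα, inv_mul_cancel_right])
      (fun y hy => Subtype.ext (hfpf y y.2 ((hα y).symm.trans (congrArg Subtype.val hy))))
      M (fun y m hm => by
        show ψ _ m ∈ M
        rw [hm y]
        exact hm)
      (fun b hb => by
        obtain ⟨b, rfl⟩ := QuotientGroup.mk'_surjective _ b
        suffices h : Abelianization.of b = 1 by
          show Abelianization.of b ∈ M
          rw [h]
          exact one_mem M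
        have hcop : (Nat.card (zpowers x)).Coprime (Nat.card (⁅Q, Q⁆ : Subgroup G)) := by
          rw [Nat.card_zpowers]
          refine (Nat.Coprime.coprime_dvd_left (orderOf_dvd_of_pow_eq_one hxr) ?_)
          obtain ⟨k, hk⟩ := IsPGroup.iff_card.mp (hQ.to_le (commutator_le_self Q))
          rw [hk]
          exact Nat.Coprime.pow_right k ((Nat.coprime_primes hr.out hq.out).2 hqr.symm)
        have hpow : ∀ a ∈ zpowers x, (b : G)⁻¹ * (a * b * a⁻¹) ∈ ⁅Q, Q⁆ := by
          intro a ha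
          obtain ⟨n, rfl⟩ := mem_zpowers_iff.1 ha
          have hxn : x ^ n ∈ normalizer (Q : Set G) := (normalizer (Q : Set G)).zpow_mem hxQ n
          have h1 : ψ ⟨x ^ n, hxn⟩ (Abelianization.of b) = Abelianization.of b := by
            have hst : (⟨x, hxQ⟩ : normalizer (Q : Set G)) ∈
                (MulAction.stabilizer (MulAut (Abelianization Q)) (Abelianization.of b)).comap ψ :=
              hb
            exact zpow_mem hst n
          have h2 : Abelianization.of (b⁻¹ * Q.normalizerMonoidHom ⟨x ^ n, hxn⟩ b) = 1 := by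
            rw [map_mul, map_inv, inv_mul_eq_one]
            exact h1.symm
          exact hof _ h2
        obtain ⟨n, hn, hbn⟩ := Coprime.exists_mul_fixed
          (zpowers_le.2 (commutator_normalized hxQ hxQ)) hcop
          (Or.inl inferInstance) hpow
        refine (QuotientGroup.eq_one_iff b).2 ?_
        have : (b : G) ∈ (commutator Q).map Q.subtype := by
          rw [map_subtype_commutator]
          have h3 := hfix ⟨mul_mem b.2 (commutator_le_self Q hn), hbn⟩
          simpa using mul_mem h3 (inv_mem hn)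
        obtain ⟨b', hb', he⟩ := this
        rwa [← Subtype.ext he])
      (fun b hb y => hb y) a
    refine mem_of_pow_mem h ?_
    obtain ⟨b, rfl⟩ := QuotientGroup.mk'_surjective _ a
    exact (card_coprime_of_isPGroup hpq hP hQ).coprime_dvd_right
      ((orderOf_map_dvd _ b).trans (orderOf_dvd_natCard b))
  rw [commutator_le]
  intro a ha g hg
  have h1 := hM (Abelianization.of ⟨a, ha⟩) ⟨g, hg⟩
  have h2 : Abelianization.of (⟨a, ha⟩ * (Q.normalizerMonoidHom ⟨g, hPQ hg⟩ ⟨a, ha⟩)⁻¹) = 1 := by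
    rw [map_mul, map_inv, mul_inv_eq_one]
    exact h1.symm
  have h3 := hof _ h2
  have e : ((⟨a, ha⟩ : Q) * (Q.normalizerMonoidHom ⟨g, hPQ hg⟩ ⟨a, ha⟩)⁻¹ : G) = ⁅a, g⁆ := by
    show a * (g * a * g⁻¹)⁻¹ = _
    rw [commutatorElement_def]; group
  rw [← e]
  exact h3

/-- The key lemma. -/
theorem centralizes {p q r : ℕ} [hp : Fact p.Prime] [hq : Fact q.Prime] [hr : Fact r.Prime]
    (hpq : p ≠ q) (hpr : p ≠ r) (hqr : q ≠ r) (hp2 : p ≠ 2) (hq2 : q ≠ 2) (hr2 : r ≠ 2)
    {x : G} (hxr : x ^ r = 1) (V Q P : Subgroup G) (hV : Cfsg.IsElementaryAbelian p V)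
    (hQ : IsPGroup q Q) (hP : IsPGroup p P)
    (hxV : x ∈ normalizer (V : Set G)) (hxQ : x ∈ normalizer (Q : Set G))
    (hxP : x ∈ normalizer (P : Set G)) (hQV : Q ≤ normalizer (V : Set G))
    (hPV : P ≤ normalizer (V : Set G)) (hPQ : P ≤ normalizer (Q : Set G))
    (hfaith : Q ⊓ centralizer (V : Set G) = ⊥)
    (hcyc : ∀ a ∈ V ⊓ centralizer (zpowers x : Set G), ∀ b ∈ V ⊓ centralizer (zpowers x : Set G),
      a ≠ 1 → b ∈ zpowers a)
    (hcycQ : IsCyclic ↥(Q ⊓ centralizer (zpowers x : Set G)))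
    (hfpf : ∀ g ∈ P, x * g * x⁻¹ = g → g = 1) : P ≤ centralizer (Q : Set G) := by
  classical
  by_contra hnot
  obtain ⟨R, ⟨hRQ, hxR, hPR, hRnot⟩, hmin⟩ := wellFounded_lt.has_min
    {R : Subgroup G | R ≤ Q ∧ x ∈ normalizer (R : Set G) ∧ P ≤ normalizer (R : Set G) ∧
      ¬ P ≤ centralizer (R : Set G)} ⟨Q, le_rfl, hxQ, hPQ, hnot⟩
  have hR : IsPGroup q R := hQ.to_le hRQ
  have hsmall : ∀ S : Subgroup G, S < R → x ∈ normalizer (S : Set G) →
      P ≤ normalizer (S : Set G) → ⁅S, P⁆ = ⊥ := fun S hS hxS hPS => by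
    rw [commutator_comm, commutator_eq_bot_iff_le_centralizer]
    by_contra h
    exact hmin S ⟨hS.le.trans hRQ, hxS, hPS, h⟩ hS
  have hR1 : R ≠ ⊥ := by
    rintro rfl
    exact hRnot fun g _ => mem_centralizer_iff.2 fun y hy => by rw [(mem_bot.1 hy : y = 1)]; simp
  -- `⁅R, P⁆ = R`
  have hRP : ⁅R, P⁆ = R := by
    by_contra h
    have hlt : ⁅R, P⁆ < R := lt_of_le_of_ne (Coprime.commutator_le_of_le_normalizer hPR) h
    have h1 := hsmall _ hlt (commutator_normalized hxR hxP)
      (fun g hg => commutator_normalized (hPR hg) (le_normalizer hg))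
    exact hRnot (Coprime.le_centralizer_of_commutator_commutator
      (card_coprime_of_isPGroup hpq hP (hR.to_le hlt.le)) h1)
  -- the Frattini subgroup is central
  haveI : Nontrivial R := (Subgroup.nontrivial_iff_ne_bot R).2 hR1
  set Φ := (frattini R).map R.subtype with hΦdef
  have hΦlt : Φ < R := by
    refine lt_of_le_of_ne (map_subtype_le _) fun h => ?_
    have h' : frattini R = ⊤ := map_injective R.subtype_injective
      (h.trans (by rw [← MonoidHom.range_eq_map, range_subtype]))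
    haveI := hR.isNilpotent
    obtain ⟨M, hM, -⟩ := (eq_top_or_exists_le_coatom (⊥ : Subgroup R)).resolve_left bot_ne_top
    exact hM.1 (top_le_iff.1 (h' ▸ (frattini_le_coatom hM : frattini R ≤ M)))
  have hΦinv : ∀ g : G, g ∈ normalizer (R : Set G) → g ∈ normalizer (Φ : Set G) := fun g hg =>
    S3736.char_map_invariant (zpowers_le.2 hg) (frattini R) (mem_zpowers g)
  have hΦP : ⁅Φ, P⁆ = ⊥ := hsmall _ hΦlt (hΦinv x hxR) fun g hg => hΦinv g (hPR hg)
  have hΦR : ⁅R, Φ⁆ = ⊥ := by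
    have h1 : ⁅⁅P, Φ⁆, R⁆ = ⊥ := by rw [commutator_comm P Φ, hΦP, commutator_bot_left]
    have h2 : ⁅⁅Φ, R⁆, P⁆ = ⊥ := by
      refine le_bot_iff.1 ((commutator_mono ?_ le_rfl).trans hΦP.le)
      exact Coprime.commutator_le_of_le_normalizer fun g hg => hΦinv g (le_normalizer hg)
    have h3 := commutator_commutator_eq_bot_of_rotate h1 h2
    rwa [hRP] at h3
  have hcent : ∀ a ∈ R, ∀ z ∈ Φ, Commute a z := fun a ha z hz =>
    commutatorElement_eq_one_iff_mul_comm.1
      (mem_bot.1 (hΦR ▸ commutator_mem_commutator ha hz))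
  have hPfix : ∀ g ∈ P, ∀ z ∈ Φ, g * z * g⁻¹ = z := fun g hg z hz => by
    have h1 := commutatorElement_eq_one_iff_mul_comm.1
      (mem_bot.1 (hΦP ▸ commutator_mem_commutator hz hg))
    rw [← h1, mul_inv_cancel_right]
  have hcommΦ : ∀ a ∈ R, ∀ b ∈ R, ⁅a, b⁆ ∈ Φ := fun a ha b hb =>
    ⟨⁅(⟨a, ha⟩ : R), ⟨b, hb⟩⁆, PGroups.commutatorElement_mem_frattini hR _ _, rfl⟩
  have hpowΦ : ∀ a ∈ R, a ^ q ∈ Φ := fun a ha =>
    ⟨(⟨a, ha⟩ : R) ^ q, PGroups.pow_mem_frattini hR _, rfl⟩
  -- commutators have order dividing `q`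
  have hcq : ∀ a ∈ R, ∀ b ∈ R, ⁅a, b⁆ ^ q = 1 := by
    intro a ha b hb
    have hca : Commute ⁅a, b⁆ a := (hcent a ha _ (hcommΦ a ha b hb)).symm
    have h : ∀ n : ℕ, a ^ n * b = ⁅a, b⁆ ^ n * b * a ^ n := by
      intro n
      induction n with
      | zero => simp
      | succ n ih =>
          calc a ^ (n + 1) * b = a * (a ^ n * b) := by rw [pow_succ', mul_assoc]
            _ = ⁅a, b⁆ ^ n * (a * b) * a ^ n := by
              rw [ih]
              simp only [← mul_assoc]
              rw [(hca.pow_left n).symm.eq]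
            _ = ⁅a, b⁆ ^ n * (⁅a, b⁆ * b * a) * a ^ n := by
              rw [commutatorElement_def]; group
            _ = ⁅a, b⁆ ^ (n + 1) * b * a ^ (n + 1) := by
              rw [pow_succ, pow_succ']; simp only [mul_assoc]
    have h1 := h q
    rw [(hcent b hb _ (hpowΦ a ha)).symm.eq, mul_assoc] at h1
    exact right_eq_mul.1 h1
  have hmulq : ∀ a ∈ R, ∀ b ∈ R, (a * b) ^ q = a ^ q * b ^ q := fun a ha b hb =>
    pow_mul_class_two hq2 (hcent a ha _ (hcommΦ b hb a ha)).symm
      (hcent b hb _ (hcommΦ b hb a ha)).symm (hcq b hb a ha)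
  -- exponent `q`
  let E : Subgroup G :=
    { carrier := {a | a ∈ R ∧ a ^ q = 1}
      one_mem' := ⟨one_mem R, one_pow q⟩
      mul_mem' := fun {a b} ha hb => ⟨mul_mem ha.1 hb.1, by
        rw [hmulq a ha.1 b hb.1, ha.2, hb.2, one_mul]⟩
      inv_mem' := fun {a} ha => ⟨inv_mem ha.1, by rw [inv_pow, ha.2, inv_one]⟩ }
  have hexp : ∀ a ∈ R, a ^ q = 1 := by
    have hle : ⁅R, P⁆ ≤ E := by
      rw [commutator_le]
      intro a ha g hg
      have hb : g * a⁻¹ * g⁻¹ ∈ R := (mem_normalizer_iff.1 (hPR hg) _).1 (inv_mem ha)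
      have e : ⁅a, g⁆ = a * (g * a⁻¹ * g⁻¹) := by rw [commutatorElement_def]; group
      refine ⟨e ▸ mul_mem ha hb, ?_⟩
      rw [e, hmulq a ha _ hb, conj_pow, inv_pow, hPfix g hg _ (inv_mem (hpowΦ a ha)),
        mul_inv_cancel]
    rw [hRP] at hle
    exact fun a ha => (hle ha).2
  -- fixed points
  have hV0 : ⁅V, R⁆ ≤ V := Coprime.commutator_le_of_le_normalizer (hRQ.trans hQV)
  have hVp : IsPGroup p V := fun v => ⟨1, by rw [pow_one]; exact Subtype.ext (hV.2 _ v.2)⟩
  have hfix0 : ∀ S : Subgroup G, S ≤ R →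
      (V ⊓ centralizer (S : Set G)) ⊓ ⁅V, S⁆ = ⊥ := fun S hS => by
    haveI := hV.1
    exact Coprime.centralizer_inf_commutator_eq_bot ((hS.trans hRQ).trans hQV)
      (card_coprime_of_isPGroup hpq.symm (hR.to_le hS) hVp)
  have hfaithR : ∀ S : Subgroup G, S ≤ R → ⁅V, S⁆ = ⊥ → S = ⊥ := fun S hS h => by
    rw [commutator_comm, commutator_eq_bot_iff_le_centralizer] at h
    rw [eq_bot_iff, ← hfaith]
    exact le_inf (hS.trans hRQ) h
  by_cases hab : ⁅R, R⁆ = ⊥
  · -- the abelian case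
    have hVel : Cfsg.IsElementaryAbelian p (⁅V, R⁆ : Subgroup G) :=
      ⟨⟨⟨fun a b => Subtype.ext (congrArg Subtype.val
        (hV.1.is_comm.comm (⟨a, hV0 a.2⟩ : V) ⟨b, hV0 b.2⟩) : (a : G) * b = b * a)⟩⟩,
        fun a ha => hV.2 a (hV0 ha)⟩
    have h := abelian_case hpq hpr hp2 hr2 hxr ⁅V, R⁆ R P hVel hP hR
      (fun a ha b hb => commutatorElement_eq_one_iff_mul_comm.1
        (mem_bot.1 (hab ▸ commutator_mem_commutator ha hb))) hexp
      (commutator_normalized hxV hxR) hxR hxP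
      (fun g hg => commutator_normalized (hQV (hRQ hg)) (le_normalizer hg))
      (fun g hg => commutator_normalized (hPV hg) (hPR hg)) hPR
      (le_bot_iff.1 ((le_inf (inf_le_inf hV0 le_rfl) inf_le_left).trans (hfix0 R le_rfl).le)) hRP
      (fun a ha b hb => hcyc a ⟨hV0 ha.1, ha.2⟩ b ⟨hV0 hb.1, hb.2⟩) hfpf
    exact hR1 (hfaithR R le_rfl h)
  have hR' : ⁅R, R⁆ ≤ Φ := by
    rw [commutator_le]
    exact hcommΦ
  by_cases hfixZ : ∀ z ∈ ⁅R, R⁆, x * z * x⁻¹ = z → z = 1
  · -- the derived group has no fixed point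
    have hc := module_step hpq hxr V R ⁅R, R⁆ hV hR (commutator_le_self R)
      (fun a ha => mem_centralizer_iff.2 fun z hz => (hcent a ha z (hR' hz)).eq.symm)
      hxV (commutator_normalized hxR hxR) (hRQ.trans hQV) hcyc hfixZ
    refine hab (hfaithR _ (commutator_le_self R) (le_bot_iff.1 ?_))
    refine le_trans (le_inf (le_inf ?_ ?_) le_rfl) (hfix0 _ (commutator_le_self R)).le
    · exact Coprime.commutator_le_of_le_normalizer
        ((commutator_le_self R).trans (hRQ.trans hQV))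
    · exact le_centralizer_iff.1 hc
  · -- the fixed points lie in the derived group
    push Not at hfixZ
    obtain ⟨z, hz, hzx, hz1⟩ := hfixZ
    set C := R ⊓ centralizer (zpowers x : Set G) with hC
    haveI : IsCyclic C := by
      haveI := hcycQ
      exact isCyclic_of_injective (Subgroup.inclusion (inf_le_inf_right _ hRQ))
        (Subgroup.inclusion_injective _)
    have hzC : z ∈ C := ⟨commutator_le_self R hz, Shult.mem_centralizer_zpowers hzx⟩
    have hcard : Nat.card C = q := by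
      obtain ⟨g, hg⟩ := IsCyclic.exists_generator (α := C)
      have hd : orderOf g ∣ q := orderOf_dvd_of_pow_eq_one (Subtype.ext (hexp g g.2.1))
      rcases (Nat.dvd_prime hq.out).1 hd with h | h
      · exfalso
        obtain ⟨k, hk⟩ := mem_zpowers_iff.1 (hg ⟨z, hzC⟩)
        rw [orderOf_eq_one_iff.1 h, one_zpow] at hk
        exact hz1 (congrArg Subtype.val hk).symm
      · rwa [← orderOf_eq_card_of_forall_mem_zpowers hg]
    have hCle : C ≤ ⁅R, R⁆ := by
      haveI : Fact (Nat.card C).Prime := ⟨hcard ▸ hq.out⟩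
      rcases ((⁅R, R⁆ : Subgroup G).subgroupOf C).eq_bot_or_eq_top_of_prime_card with h | h
      · have hmem : (⟨z, hzC⟩ : C) ∈ (⁅R, R⁆ : Subgroup G).subgroupOf C := hz
        rw [h, mem_bot] at hmem
        exact absurd (congrArg Subtype.val hmem) hz1
      · exact subgroupOf_eq_top.1 h
    have h := abelianization_step hpq hqr hxr R P hR hP hxR hxP hPR hCle hfpf
    rw [hRP] at h
    exact hΦlt.not_ge (h.trans hR')

end Cfsg.Agent.Lib.OddLocal.PLengthKey
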