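import Mathlib
import Cfsg.Agent.Lib.Frobenius.Basic

/-!
Finite subgroups of odd order of `SL(2, F)` in odd characteristic `p`: all elements of order `p`
fix one and the same vector (a Dickson-style counting over the abelian TI centralizers).
-/

set_option autoImplicit false

namespace Cfsg.Agent.Lib.OddLocal.GL2Odd

open Subgroup Matrix
open scoped Pointwise

variable {F : Type*} [Field F]

/-- Cayley–Hamilton for `2 × 2` matrices of determinant one. -/
theorem mul_self_eq {M : Matrix (Fin 2) (Fin 2) F} (hd : M.det = 1) :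
    M * M = M.trace • M - 1 := by
  rw [det_fin_two] at hd
  ext i j
  fin_cases i <;> fin_cases j <;>
    (simp only [mul_apply, Fin.sum_univ_two, trace_fin_two, Matrix.sub_apply, Matrix.smul_apply,
      smul_eq_mul]
     simp [Matrix.one_apply]
     first | ring1 | linear_combination -hd | linear_combination hd)

theorem one_add_pow {R : Type*} [Ring R] {N : R} (hN : N * N = 0) (n : ℕ) :
    (1 + N) ^ n = 1 + (n : R) * N := by
  induction n with
  | zero => simp
  | succ n ih =>
    rw [pow_succ, ih, Nat.cast_succ, mul_add, mul_one, add_mul, one_mul, mul_assoc, hN, mul_zero,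
      add_mul (n : R) 1 N, one_mul, add_zero, add_assoc]

/-- The centralizer of a non-scalar `2 × 2` matrix consists of linear polynomials in it. -/
theorem exists_eq_of_commute {M N : Matrix (Fin 2) (Fin 2) F}
    (hM : ∀ c : F, M ≠ c • 1) (h : N * M = M * N) : ∃ a b : F, N = a • 1 + b • M := by
  have e00 := congrFun (congrFun h 0) 0
  have e01 := congrFun (congrFun h 0) 1
  have e10 := congrFun (congrFun h 1) 0
  simp only [mul_apply, Fin.sum_univ_two] at e00 e01 e10
  by_cases hq : M 0 1 = 0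
  · by_cases hr : M 1 0 = 0
    · have hne : M 0 0 - M 1 1 ≠ 0 := by
        intro he
        refine hM (M 0 0) ?_
        ext i j
        fin_cases i <;> fin_cases j <;> simp [hq, hr, sub_eq_zero.mp he]
      refine ⟨N 0 0 - (N 0 0 - N 1 1) / (M 0 0 - M 1 1) * M 0 0,
        (N 0 0 - N 1 1) / (M 0 0 - M 1 1), ?_⟩
      have h01 : N 0 1 = 0 := by
        rw [hq] at e01
        exact mul_left_cancel₀ hne (by linear_combination -e01)
      have h10 : N 1 0 = 0 := by
        rw [hr] at e10
        exact mul_left_cancel₀ hne (by linear_combination e10)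
      ext i j
      fin_cases i <;> fin_cases j <;> simp [hq, hr, h01, h10] <;> field_simp <;> ring
    · refine ⟨N 0 0 - N 1 0 / M 1 0 * M 0 0, N 1 0 / M 1 0, ?_⟩
      have h01 : N 0 1 = 0 := by
        rw [hq] at e00
        exact mul_right_cancel₀ hr (by linear_combination e00)
      ext i j
      fin_cases i <;> fin_cases j <;> simp [hq, h01] <;> field_simp
      first | linear_combination -e10 | linear_combination e10
  · refine ⟨N 0 0 - N 0 1 / M 0 1 * M 0 0, N 0 1 / M 0 1, ?_⟩
    ext i j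
    fin_cases i <;> fin_cases j <;> simp <;> field_simp
    all_goals first | linear_combination -e00 | linear_combination e00 |
      linear_combination -e01 | linear_combination e01

/-- A non-identity matrix fixing two independent vectors does not exist. -/
theorem fixed_mem_span {M : Matrix (Fin 2) (Fin 2) F} (hM : M ≠ 1) {v w : Fin 2 → F}
    (hv : v ≠ 0) (hMv : M *ᵥ v = v) (hMw : M *ᵥ w = w) : w ∈ Submodule.span F {v} := by
  by_contra hw
  have hli : LinearIndependent F ![v, w] := by
    rw [LinearIndependent.pair_iff' hv]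
    intro a ha
    exact hw (Submodule.mem_span_singleton.mpr ⟨a, ha⟩)
  let b := basisOfLinearIndependentOfCardEqFinrank hli (by simp)
  refine hM ((Matrix.toLin' (R := F) (n := Fin 2) (m := Fin 2)).injective (b.ext fun i => ?_))
  fin_cases i <;> simp [b, hMv, hMw]

variable (p : ℕ) [hp : Fact p.Prime] [CharP F p] (hp2 : p ≠ 2)

section Group

variable {X : Type*} [Group X] [Finite X] (hodd : Odd (Nat.card X))
  (φ : X →* Matrix (Fin 2) (Fin 2) F) (hinj : Function.Injective φ) (hdet : ∀ g, (φ g).det = 1)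

include hp2 in
omit hp in
theorem two_ne_zero' : (2 : F) ≠ 0 := Ring.two_ne_zero (by
  rw [ringChar.eq F p]; exact hp2)

include hp2 hodd hinj hdet

theorem eq_one_of_scalar {g : X} {c : F} (h : φ g = c • 1) : g = 1 := by
  have h2 := two_ne_zero' (F := F) p hp2
  apply hinj
  rw [map_one, h]
  have hd := hdet g
  rw [h, det_smul, det_one, mul_one, Fintype.card_fin, sq_eq_one_iff] at hd
  rcases hd with rfl | rfl
  · simp
  · exfalso
    have hpow := congrArg φ (pow_card_eq_one' (G := X) (x := g))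
    rw [map_pow, h, map_one, smul_pow, one_pow, hodd.neg_one_pow] at hpow
    have := congrFun (congrFun hpow 0) 0
    simp at this
    exact h2 (by linear_combination -this)

theorem not_scalar {g : X} (hg : g ≠ 1) (c : F) : φ g ≠ c • 1 := fun h =>
  hg (eq_one_of_scalar p hp2 hodd φ hinj hdet h)

theorem pow_eq_one_iff_trace {g : X} : g ^ p = 1 ↔ (φ g).trace = 2 := by
  have : CharP (Matrix (Fin 2) (Fin 2) F) p := inferInstance
  constructor
  · intro h
    have hpow : (φ g - 1) ^ p = 0 := by
      rw [sub_pow_char_of_commute p (Commute.one_right (φ g)), one_pow, ← map_pow, h, map_one, sub_self]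
    have hdet0 : (φ g - 1).det = 0 := by
      have := congrArg det hpow
      rw [det_pow, det_zero] at this
      exact pow_eq_zero_iff hp.out.ne_zero |>.mp this
    have hd := hdet g
    simp [det_fin_two] at hdet0 hd
    rw [trace_fin_two]
    linear_combination -hdet0 + hd
  · intro h
    apply hinj
    have hN : (φ g - 1) * (φ g - 1) = 0 := by
      have := mul_self_eq (hdet g)
      rw [h] at this
      rw [sub_mul, mul_sub, mul_one, one_mul, this]
      module
    have hp0 : (p : Matrix (Fin 2) (Fin 2) F) = 0 := CharP.cast_eq_zero _ p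
    rw [map_pow, map_one, show φ g = 1 + (φ g - 1) by abel, one_add_pow hN, hp0, zero_mul, add_zero]

theorem trace_ne_neg_two {g : X} : (φ g).trace ≠ -2 := by
  intro h
  have h2 := two_ne_zero' (F := F) p hp2
  have hN : (φ g + 1) * (φ g + 1) = 0 := by
    have := mul_self_eq (hdet g)
    rw [h] at this
    rw [add_mul, mul_add, mul_one, one_mul, this]
    module
  have hsq : φ (g * g) = 1 + ((-2 : F) • (φ g + 1)) := by
    rw [map_mul, mul_self_eq (hdet g), h]
    module
  have hp0 : (p : Matrix (Fin 2) (Fin 2) F) = 0 := CharP.cast_eq_zero _ p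
  have h1 : (g * g) ^ p = 1 := by
    apply hinj
    rw [map_pow, map_one, hsq, one_add_pow (by rw [smul_mul_smul_comm, hN, smul_zero]), hp0,
      zero_mul, add_zero]
  have hg : g ^ p = 1 := by
    have hdvd : orderOf g ∣ 2 * p := orderOf_dvd_of_pow_eq_one (by rw [pow_mul, pow_two, h1])
    have hcop : (orderOf g).Coprime 2 :=
      (Nat.coprime_two_right.mpr (hodd.of_dvd_nat (orderOf_dvd_natCard g)))
    exact orderOf_dvd_iff_pow_eq_one.mp (hcop.dvd_of_dvd_mul_left hdvd)
  rw [(pow_eq_one_iff_trace p hp2 hodd φ hinj hdet).mp hg] at h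
  exact mul_ne_zero h2 h2 (by linear_combination h)

theorem commute_trans {x y z : X} (hy : y ≠ 1) (hxy : x * y = y * x) (hzy : z * y = y * z) :
    x * z = z * x := by
  obtain ⟨a, b, hx⟩ := exists_eq_of_commute (not_scalar p hp2 hodd φ hinj hdet hy)
    (by rw [← map_mul, ← map_mul, hxy] : φ x * φ y = φ y * φ x)
  obtain ⟨c, d, hz⟩ := exists_eq_of_commute (not_scalar p hp2 hodd φ hinj hdet hy)
    (by rw [← map_mul, ← map_mul, hzy] : φ z * φ y = φ y * φ z)
  apply hinj
  rw [map_mul, map_mul, hx, hz]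
  simp only [mul_add, add_mul, smul_mul_assoc, mul_smul_comm, smul_smul, one_mul, mul_one]
  module

theorem centralizer_eq {x y : X} (hx : x ≠ 1) (hy : y ≠ 1) (h : x * y = y * x) :
    centralizer ({x} : Set X) = centralizer ({y} : Set X) := by
  ext z
  rw [mem_centralizer_singleton_iff, mem_centralizer_singleton_iff]
  exact ⟨fun hz => commute_trans p hp2 hodd φ hinj hdet hx hz h.symm,
    fun hz => commute_trans p hp2 hodd φ hinj hdet hy hz h⟩

/-- An element commuting with a non-identity element of order `p` has order dividing `p` and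
fixes the same vectors. -/
theorem of_commute_unipotent {x z : X} (hx : x ≠ 1) (hxp : x ^ p = 1) (h : z * x = x * z) :
    z ^ p = 1 ∧ ∀ v : Fin 2 → F, φ x *ᵥ v = v → φ z *ᵥ v = v := by
  have ht := (pow_eq_one_iff_trace p hp2 hodd φ hinj hdet).mp hxp
  obtain ⟨a, b, hz⟩ := exists_eq_of_commute (not_scalar p hp2 hodd φ hinj hdet hx)
    (by rw [← map_mul, ← map_mul, h] : φ z * φ x = φ x * φ z)
  have htz : (φ z).trace = 2 * (a + b) := by
    rw [hz, trace_add, trace_smul, trace_smul, trace_one, ht, Fintype.card_fin]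
    simp only [smul_eq_mul, Nat.cast_ofNat]; ring
  have hd : (a + b) ^ 2 = 1 := by
    have hdz := hdet z
    have hdx := hdet x
    rw [trace_fin_two] at ht
    rw [hz] at hdz
    simp [det_fin_two] at hdz hdx
    linear_combination hdz - b ^ 2 * hdx - a * b * ht
  rcases sq_eq_one_iff.mp hd with h1 | h1
  · refine ⟨(pow_eq_one_iff_trace p hp2 hodd φ hinj hdet).mpr (by rw [htz, h1, mul_one]), fun v hv => ?_⟩
    rw [hz, add_mulVec, smul_mulVec, smul_mulVec, one_mulVec, hv, ← add_smul, h1, one_smul]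
  · exact absurd (by rw [htz, h1, mul_neg, mul_one]) (trace_ne_neg_two p hp2 hodd φ hinj hdet (g := z))

/-- The centralizer of a non-identity element not of order `p` is self-normalizing. -/
theorem commute_of_normalizes {x g : X} (hx : x ^ p ≠ 1)
    (h : (g * x * g⁻¹) * x = x * (g * x * g⁻¹)) : g * x = x * g := by
  have hx1 : x ≠ 1 := fun he => hx (by rw [he, one_pow])
  obtain ⟨a, b, hab⟩ := exists_eq_of_commute (not_scalar p hp2 hodd φ hinj hdet hx1)
    (by rw [← map_mul, ← map_mul, h] : φ (g * x * g⁻¹) * φ x = φ x * φ (g * x * g⁻¹))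
  have htr : (φ (g * x * g⁻¹)).trace = (φ x).trace := by
    rw [map_mul, map_mul, trace_mul_comm, ← mul_assoc, ← map_mul, inv_mul_cancel, map_one, one_mul]
  obtain ⟨t, ht⟩ : ∃ t, t = (φ x).trace := ⟨_, rfl⟩
  have e1 : a * 2 + b * t = t := by
    rw [hab, trace_add, trace_smul, trace_smul, trace_one, Fintype.card_fin] at htr
    simp only [smul_eq_mul, Nat.cast_ofNat] at htr
    rw [ht]; exact htr
  have e2 : a ^ 2 + a * b * t + b ^ 2 = 1 := by
    have hd' := hdet (g * x * g⁻¹)
    have hdx := hdet x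
    rw [hab] at hd'
    rw [trace_fin_two] at ht
    simp [det_fin_two] at hd' hdx
    linear_combination hd' - b ^ 2 * hdx + a * b * ht
  have e3 : (t - 2) * (t + 2) * ((1 - b) * (1 + b)) = 0 := by
    first | linear_combination 4 * e2 - (a * 2 + b * t + t) * e1 | linear_combination -4 * e2 + (a * 2 + b * t + t) * e1
  have ht2 : t - 2 ≠ 0 := fun h0 =>
    hx ((pow_eq_one_iff_trace p hp2 hodd φ hinj hdet).mpr (ht ▸ sub_eq_zero.mp h0))
  have htm2 : t + 2 ≠ 0 := fun h0 =>
    trace_ne_neg_two p hp2 hodd φ hinj hdet (g := x) (ht ▸ eq_neg_of_add_eq_zero_left h0)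
  have h2 := two_ne_zero' (F := F) p hp2
  rcases mul_eq_zero.mp ((mul_eq_zero.mp e3).resolve_left (mul_ne_zero ht2 htm2)) with hb | hb
  · have hb1 : b = 1 := (sub_eq_zero.mp hb).symm
    have ha : a = 0 := mul_right_cancel₀ h2 (by rw [hb1] at e1; linear_combination e1)
    have : g * x * g⁻¹ = x := hinj (by rw [hab, hb1, ha]; simp)
    exact mul_inv_eq_iff_eq_mul.mp this
  · have hb1 : b = -1 := by linear_combination hb
    have ha : a = t := mul_right_cancel₀ h2 (by rw [hb1] at e1; linear_combination e1)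
    have hinv : g * x * g⁻¹ = x⁻¹ := by
      refine eq_inv_of_mul_eq_one_left (hinj ?_)
      rw [map_mul, map_one, hab, hb1, ha, ht, add_mul, smul_mul_assoc, smul_mul_assoc, one_mul,
        mul_self_eq (hdet x)]
      module
    have hc : Commute (g ^ 2) x := by
      refine mul_inv_eq_iff_eq_mul.mp ?_
      calc g ^ 2 * x * (g ^ 2)⁻¹ = g * (g * x * g⁻¹) * g⁻¹ := by
            rw [pow_two]; simp only [_root_.mul_inv_rev, mul_assoc]
        _ = (g * x * g⁻¹)⁻¹ := by rw [hinv]; nth_rewrite 2 [← hinv]; group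
        _ = x := by rw [hinv, inv_inv]
    obtain ⟨k, hk⟩ := exists_pow_eq_self_of_coprime (x := g) (n := 2)
      (Nat.coprime_two_left.mpr (hodd.of_dvd_nat (orderOf_dvd_natCard g)))
    have := hc.pow_left k
    rw [hk] at this
    exact this.eq

theorem isFrobeniusComplement_centralizer {x u : X} (hx : x ^ p ≠ 1) (hu : u ≠ 1) (hup : u ^ p = 1) :
    Cfsg.IsFrobeniusComplement (centralizer ({x} : Set X)) := by
  have hx1 : x ≠ 1 := fun he => hx (by rw [he, one_pow])
  rw [Cfsg.Agent.Lib.Frobenius.isFrobeniusComplement_iff]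
  refine ⟨fun h => hx1 ?_, fun h => hx ?_, fun g hg y hy hgy => ?_⟩
  · exact mem_bot.mp (h ▸ mem_centralizer_singleton_iff.mpr rfl)
  · have : u ∈ centralizer ({x} : Set X) := h ▸ mem_top u
    exact (of_commute_unipotent p hp2 hodd φ hinj hdet hu hup
      (mem_centralizer_singleton_iff.mp this).symm).1
  · by_contra hy1
    apply hg
    rw [mem_centralizer_singleton_iff] at hy hgy ⊢
    refine commute_of_normalizes p hp2 hodd φ hinj hdet hx ?_
    refine (commute_trans p hp2 hodd φ hinj hdet hy1 hy.symm ?_).symm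
    calc g * x * g⁻¹ * y = g * (x * (g⁻¹ * y * g)) * g⁻¹ := by group
      _ = y * (g * x * g⁻¹) := by rw [← hgy]; group

theorem two_thirds_le {A : Subgroup X} (hA : Cfsg.IsFrobeniusComplement A) :
    2 * Nat.card X ≤ 3 * (Cfsg.Agent.Lib.Frobenius.conjUnion A).ncard := by
  have h3 : 3 ≤ Nat.card A := by
    obtain ⟨k, hk⟩ := hodd.of_dvd_nat A.card_subgroup_dvd_card
    have := Cfsg.Agent.Lib.Frobenius.two_le_card hA
    omega
  rw [Cfsg.Agent.Lib.Frobenius.ncard_conjUnion hA, ← A.index_mul_card]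
  obtain ⟨k, hk⟩ := Nat.exists_eq_add_of_le h3
  rw [hk, show 3 + k - 1 = 2 + k by omega]
  nlinarith

/-- The normalizer of the unipotent centralizer is everything. -/
theorem centralizer_unipotent_normal {u : X} (hu : u ≠ 1) (hup : u ^ p = 1) :
    ∀ g : X, u * (g * u * g⁻¹) = (g * u * g⁻¹) * u := by
  classical
  obtain ⟨U, hU⟩ : ∃ U : Subgroup X, U = centralizer ({u} : Set X) := ⟨_, rfl⟩
  suffices htop : normalizer (U : Set X) = ⊤ by
    intro g
    have hg : g * u * g⁻¹ ∈ U :=
      (mem_normalizer_iff.mp (htop ▸ mem_top g : g ∈ normalizer (U : Set X)) u).mp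
        (hU ▸ mem_centralizer_singleton_iff.mpr rfl)
    rw [hU, mem_centralizer_singleton_iff] at hg
    exact hg.symm
  have huU : u ∈ U := hU ▸ mem_centralizer_singleton_iff.mpr rfl
  have hUp : ∀ z ∈ U, z ^ p = 1 := fun z hz =>
    (of_commute_unipotent p hp2 hodd φ hinj hdet hu hup (mem_centralizer_singleton_iff.mp (hU ▸ hz))).1
  have hUc : ∀ z ∈ U, z ≠ 1 → centralizer ({z} : Set X) = U := fun z hz hz1 => by
    rw [hU]
    exact centralizer_eq p hp2 hodd φ hinj hdet hz1 hu (mem_centralizer_singleton_iff.mp (hU ▸ hz))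
  -- Sylow subgroups are centralizers of their non-identity elements
  have hSyl : ∀ (P : Sylow p X) (z : X), z ∈ (P : Subgroup X) → z ≠ 1 →
      (P : Subgroup X) = centralizer ({z} : Set X) := by
    intro P z hz hz1
    have hzp : ∀ w ∈ centralizer ({z} : Set X), z ^ p = 1 → w ^ p = 1 := fun w hw h =>
      (of_commute_unipotent p hp2 hodd φ hinj hdet hz1 h (mem_centralizer_singleton_iff.mp hw)).1
    haveI : Nontrivial (P : Subgroup X) :=
      (nontrivial_iff_ne_bot _).mpr fun h => hz1 (mem_bot.mp (h ▸ hz))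
    obtain ⟨n, hn, hcard⟩ := (P.isPGroup'.to_subgroup (center (P : Subgroup X))).nontrivial_iff_card.mp
      P.isPGroup'.center_nontrivial
    obtain ⟨⟨c, hc⟩, hco⟩ := exists_prime_orderOf_dvd_card' (G := center (P : Subgroup X)) p
      (by rw [hcard]; exact dvd_pow_self p hn.ne')
    rw [Subgroup.orderOf_mk, ← Subgroup.orderOf_coe] at hco
    have hcp : (c : X) ^ p = 1 := orderOf_dvd_iff_pow_eq_one.mp hco.dvd
    have hc1 : (c : X) ≠ 1 := fun h => hp.out.ne_one (by rw [← hco, h, orderOf_one])
    have hPc : (P : Subgroup X) ≤ centralizer ({(c : X)} : Set X) := fun w hw =>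
      mem_centralizer_singleton_iff.mpr (congrArg Subtype.val (mem_center_iff.mp hc ⟨w, hw⟩))
    have hcp' : IsPGroup p (centralizer ({(c : X)} : Set X)) := fun w => ⟨1, Subtype.ext (by
      rw [pow_one]
      exact (of_commute_unipotent p hp2 hodd φ hinj hdet hc1 hcp
        (mem_centralizer_singleton_iff.mp w.2)).1)⟩
    rw [(P.3 hcp' hPc).symm]
    exact centralizer_eq p hp2 hodd φ hinj hdet hc1 hz1
      (mem_centralizer_singleton_iff.mp (hPc hz)).symm
  obtain ⟨P₀, hP₀⟩ : ∃ P : Sylow p X, (P : Subgroup X) = U := by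
    obtain ⟨P, hP⟩ := (IsPGroup.of_card (G := ↥(zpowers u)) (p := p) (n := 1) (by
      rw [Nat.card_zpowers, orderOf_eq_prime hup hu, pow_one])).exists_le_sylow
    exact ⟨P, hU ▸ hSyl P u (hP (mem_zpowers u)) hu⟩
  by_cases hss : ∀ x : X, x ^ p = 1
  · have : (⊤ : Subgroup X) ≤ U := by
      rw [← hP₀]
      exact (P₀.3 (fun x => ⟨1, Subtype.ext (by rw [pow_one]; exact hss x)⟩) le_top).le
    rw [top_le_iff] at this
    rw [this, normalizer_eq_top]
  push_neg at hss
  obtain ⟨x, hx⟩ := hss
  obtain ⟨A, hA⟩ : ∃ A : Subgroup X, A = centralizer ({x} : Set X) := ⟨_, rfl⟩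
  have hAF : Cfsg.IsFrobeniusComplement A :=
    hA ▸ isFrobeniusComplement_centralizer p hp2 hodd φ hinj hdet hx hu hup
  have hAc : ∀ z ∈ A, z ≠ 1 → centralizer ({z} : Set X) = A ∧ z ^ p ≠ 1 := by
    intro z hz hz1
    rw [hA, mem_centralizer_singleton_iff] at hz
    refine ⟨?_, fun h => hx ((of_commute_unipotent p hp2 hodd φ hinj hdet hz1 h hz.symm).1)⟩
    rw [hA]
    exact centralizer_eq p hp2 hodd φ hinj hdet hz1 (fun h => hx (by rw [h, one_pow])) hz
  -- semisimple elements lie in conjugates of `A`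
  have hcover : ∀ y : X, y ^ p ≠ 1 → y ∈ Cfsg.Agent.Lib.Frobenius.conjUnion A := by
    intro y hy
    by_contra hny
    have hy1 : y ≠ 1 := fun h => hy (by rw [h, one_pow])
    have hBF := isFrobeniusComplement_centralizer p hp2 hodd φ hinj hdet hy hu hup
    have hdisj : Disjoint (Cfsg.Agent.Lib.Frobenius.conjUnion (centralizer ({y} : Set X)))
        (Cfsg.Agent.Lib.Frobenius.conjUnion A) := by
      rw [Set.disjoint_left]
      rintro z ⟨hz1, g, hg⟩ ⟨-, k, hk⟩
      refine hny ⟨hy1, g⁻¹ * k, ?_⟩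
      have hw1 : k⁻¹ * z * k ≠ 1 := fun h => hz1 (by
        calc z = k * (k⁻¹ * z * k) * k⁻¹ := by group
          _ = 1 := by rw [h, mul_one, mul_inv_cancel])
      rw [← (hAc _ hk hw1).1, mem_centralizer_singleton_iff]
      rw [mem_centralizer_singleton_iff] at hg
      calc (g⁻¹ * k)⁻¹ * y * (g⁻¹ * k) * (k⁻¹ * z * k)
          = k⁻¹ * g * (y * (g⁻¹ * z * g)) * g⁻¹ * k := by group
        _ = k⁻¹ * z * k * ((g⁻¹ * k)⁻¹ * y * (g⁻¹ * k)) := by rw [← hg]; group
    have h1 := Set.ncard_union_eq hdisj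
    have h2 := Set.ncard_le_card (Cfsg.Agent.Lib.Frobenius.conjUnion (centralizer ({y} : Set X)) ∪
      Cfsg.Agent.Lib.Frobenius.conjUnion A)
    have h3 := two_thirds_le p hp2 hodd φ hinj hdet hAF
    have h4 := two_thirds_le p hp2 hodd φ hinj hdet hBF
    have h5 := Nat.card_pos (α := X)
    omega
  have hnotA : ∀ y : X, y ^ p = 1 → y ∉ Cfsg.Agent.Lib.Frobenius.conjUnion A := by
    rintro y hy ⟨hy1, g, hg⟩
    refine (hAc _ hg (fun h => hy1 ?_)).2 ?_
    · calc y = g * (g⁻¹ * y * g) * g⁻¹ := by group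
        _ = 1 := by rw [h, mul_one, mul_inv_cancel]
    · have := conj_pow (a := g⁻¹) (b := y) (i := p)
      rw [inv_inv] at this
      rw [this, hy, mul_one, inv_mul_cancel]
  by_cases hNU : ∀ y ∈ normalizer (U : Set X), y ^ p = 1
  · -- `U` would be a Frobenius complement
    exfalso
    have hNeq : normalizer (U : Set X) = U := by
      refine le_antisymm ?_ le_normalizer
      conv_rhs => rw [← hP₀]
      exact (P₀.3 (fun y => ⟨1, Subtype.ext (by rw [pow_one]; exact hNU y y.2)⟩)
        (by rw [hP₀]; exact le_normalizer)).le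
    have hUF : Cfsg.IsFrobeniusComplement U := by
      rw [Cfsg.Agent.Lib.Frobenius.isFrobeniusComplement_iff]
      refine ⟨fun h => hu (mem_bot.mp (h ▸ huU)), fun h => hx (hUp x (h ▸ mem_top x)),
        fun g hg z hz hgz => ?_⟩
      by_contra hz1
      apply hg
      rw [← hNeq, mem_normalizer_iff]
      have hz1' : g⁻¹ * z * g ≠ 1 := fun h => hz1 (by
        calc z = g * (g⁻¹ * z * g) * g⁻¹ := by group
          _ = 1 := by rw [h, mul_one, mul_inv_cancel])
      intro w
      constructor
      · intro hw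
        rw [← hUc z hz hz1, mem_centralizer_singleton_iff]
        rw [← hUc _ hgz hz1', mem_centralizer_singleton_iff] at hw
        calc g * w * g⁻¹ * z = g * (w * (g⁻¹ * z * g)) * g⁻¹ := by group
          _ = z * (g * w * g⁻¹) := by rw [hw]; group
      · intro hw
        rw [← hUc _ hgz hz1', mem_centralizer_singleton_iff]
        rw [← hUc z hz hz1, mem_centralizer_singleton_iff] at hw
        calc w * (g⁻¹ * z * g) = g⁻¹ * (g * w * g⁻¹ * z) * g := by group
          _ = g⁻¹ * z * g * w := by rw [hw]; group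
    have hdisj : Disjoint (Cfsg.Agent.Lib.Frobenius.conjUnion U)
        (Cfsg.Agent.Lib.Frobenius.conjUnion A) := by
      rw [Set.disjoint_left]
      rintro y ⟨hy1, g, hg⟩ hyA
      refine hnotA y ?_ hyA
      have h1 := hUp _ hg
      have := conj_pow (a := g⁻¹) (b := y) (i := p)
      rw [inv_inv] at this
      rw [this] at h1
      simpa [mul_assoc, inv_mul_eq_one, eq_comm] using h1
    have h1 := Set.ncard_union_eq hdisj
    have h2 := Set.ncard_le_card (Cfsg.Agent.Lib.Frobenius.conjUnion U ∪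
      Cfsg.Agent.Lib.Frobenius.conjUnion A)
    have h3 := two_thirds_le p hp2 hodd φ hinj hdet hAF
    have h4 := two_thirds_le p hp2 hodd φ hinj hdet hUF
    have h5 := Nat.card_pos (α := X)
    omega
  push_neg at hNU
  obtain ⟨y, hyN, hy⟩ := hNU
  -- a complement `T` of `U` in its normalizer
  haveI hUn : (U.subgroupOf (normalizer (U : Set X))).Normal := normal_in_normalizer
  have hUle : U ≤ normalizer (U : Set X) := le_normalizer
  have hcopU : (Nat.card (U.subgroupOf (normalizer (U : Set X)))).Coprime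
      (U.subgroupOf (normalizer (U : Set X))).index := by
    rw [Nat.card_congr (subgroupOfEquivOfLe hUle).toEquiv, ← hP₀]
    obtain ⟨n, hn⟩ := IsPGroup.iff_card.mp P₀.isPGroup'
    rw [hn]
    refine Nat.Coprime.pow_left n (hp.out.coprime_iff_not_dvd.mpr fun h => ?_)
    exact P₀.not_dvd_index (h.trans (relIndex_dvd_index_of_le (hP₀ ▸ hUle)))
  obtain ⟨T₀, hT₀⟩ := exists_right_complement'_of_coprime hcopU
  obtain ⟨T, hT⟩ : ∃ T : Subgroup X, T = T₀.map (normalizer (U : Set X)).subtype := ⟨_, rfl⟩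
  have hcardN : Nat.card ↥(normalizer (U : Set X)) = Nat.card U * Nat.card T := by
    rw [← hT₀.card_mul, hT, card_map_of_injective (normalizer (U : Set X)).subtype_injective,
      Nat.card_congr (subgroupOfEquivOfLe hUle).toEquiv]
  have hTU : ∀ z ∈ T, z ∈ U → z = 1 := by
    rintro _ hz hzU
    rw [hT] at hz
    obtain ⟨w, hw, rfl⟩ := hz
    have : w ∈ U.subgroupOf (normalizer (U : Set X)) ⊓ T₀ := ⟨mem_subgroupOf.mpr hzU, hw⟩
    rw [hT₀.disjoint.eq_bot, mem_bot] at this
    simp [this]
  have hTN : T ≤ normalizer (U : Set X) := hT ▸ map_subtype_le _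
  -- `T` is abelian: commutators of elements of the normalizer fix the vector
  obtain ⟨v, hv0, hv⟩ : ∃ v : Fin 2 → F, v ≠ 0 ∧ φ u *ᵥ v = v := by
    have hd : (φ u - 1).det = 0 := by
      have ht := (pow_eq_one_iff_trace p hp2 hodd φ hinj hdet).mp hup
      have hdu := hdet u
      rw [trace_fin_two] at ht
      simp [det_fin_two] at hdu ⊢
      linear_combination hdu - ht
    obtain ⟨v, hv0, hv⟩ := exists_mulVec_eq_zero_iff.mpr hd
    exact ⟨v, hv0, by rwa [sub_mulVec, one_mulVec, sub_eq_zero] at hv⟩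
  have hu1 : φ u ≠ 1 := fun h => hu (hinj (by rw [h, map_one]))
  have heig : ∀ z ∈ normalizer (U : Set X), ∃ c : F, φ z *ᵥ v = c • v := by
    intro z hz
    have hmem : z⁻¹ * u * z ∈ U := (mem_normalizer_iff''.mp hz u).mp huU
    have hfix := (of_commute_unipotent p hp2 hodd φ hinj hdet hu hup
      (mem_centralizer_singleton_iff.mp (hU ▸ hmem))).2 v hv
    have : φ u *ᵥ (φ z *ᵥ v) = φ z *ᵥ v := by
      conv_rhs => rw [← hfix]
      rw [mulVec_mulVec, mulVec_mulVec, ← map_mul, ← map_mul]
      congr 2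
      group
    obtain ⟨c, hc⟩ := Submodule.mem_span_singleton.mp (fixed_mem_span hu1 hv0 hv this)
    exact ⟨c, hc.symm⟩
  have hTab : ∀ a ∈ T, ∀ b ∈ T, a * b = b * a := by
    intro a ha b hb
    obtain ⟨k, hk⟩ : ∃ k, k = (b * a)⁻¹ * (a * b) := ⟨_, rfl⟩
    have hkT : k ∈ T := hk ▸ mul_mem (inv_mem (mul_mem hb ha)) (mul_mem ha hb)
    suffices k = 1 by
      rw [this] at hk
      exact (inv_mul_eq_one.mp hk.symm).symm
    obtain ⟨ca, hca⟩ := heig a (hTN ha)
    obtain ⟨cb, hcb⟩ := heig b (hTN hb)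
    have hkv : φ k *ᵥ v = v := by
      have : φ (a * b) *ᵥ v = φ (b * a) *ᵥ v := by
        rw [map_mul, map_mul, ← mulVec_mulVec, ← mulVec_mulVec, hca, hcb, mulVec_smul, mulVec_smul,
          hca, hcb, smul_smul, smul_smul, mul_comm]
      rw [hk, map_mul, ← mulVec_mulVec, this, mulVec_mulVec, ← map_mul, inv_mul_cancel, map_one,
        one_mulVec]
    by_contra hk1
    have hkp : k ^ p = 1 := by
      rw [pow_eq_one_iff_trace p hp2 hodd φ hinj hdet]
      have hd : (φ k - 1).det = 0 :=
        exists_mulVec_eq_zero_iff.mp ⟨v, hv0, by rw [sub_mulVec, one_mulVec, hkv, sub_self]⟩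
      have hdk := hdet k
      simp [det_fin_two] at hd hdk
      rw [trace_fin_two]
      linear_combination hdk - hd
    obtain ⟨n, hn⟩ := IsPGroup.iff_card.mp P₀.isPGroup'
    have hko : orderOf k = p := orderOf_eq_prime hkp hk1
    have h1 : p ∣ Nat.card T := hko ▸ orderOf_dvd_natCard T hkT
    have h2 : Nat.card T = (U.subgroupOf (normalizer (U : Set X))).index := by
      rw [hT, card_map_of_injective (normalizer (U : Set X)).subtype_injective]
      exact hT₀.symm.index_eq_card.symm
    refine P₀.not_dvd_index ((h2 ▸ h1).trans ?_)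
    exact relIndex_dvd_index_of_le (hP₀ ▸ hUle) |> fun h => by rw [hP₀]; rw [hP₀] at h; exact h
  obtain ⟨z, hzT, hz1⟩ : ∃ z ∈ T, z ≠ 1 := by
    by_contra hno
    push_neg at hno
    apply hy
    have hbot : T = ⊥ := (eq_bot_iff_forall T).mpr hno
    rw [hbot, card_bot, mul_one] at hcardN
    have := eq_of_le_of_card_ge hUle hcardN.le
    exact hUp y (this ▸ hyN)
  -- `|T|` divides `|A|`
  have hzss : z ^ p ≠ 1 := fun h => hz1 (hTU z hzT (by
    rw [← hP₀]
    have hz' : z ∈ normalizer ((P₀ : Subgroup X) : Set X) := hP₀ ▸ hTN hzT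
    have hsup := (IsPGroup.of_card (G := ↥(zpowers z)) (p := p) (n := 1)
      (by rw [Nat.card_zpowers, orderOf_eq_prime h hz1, pow_one])).to_sup_of_normal_right'
      P₀.isPGroup' (zpowers_le.mpr hz')
    exact (P₀.3 hsup le_sup_right).le (le_sup_left (a := zpowers z) (mem_zpowers z))))
  obtain ⟨-, k, hk⟩ := hcover z hzss
  have htA : Nat.card T ∣ Nat.card A := by
    have hle : T.map (MulAut.conj k⁻¹).toMonoidHom ≤ A := by
      rintro _ ⟨w, hw, rfl⟩
      have hzk : k⁻¹ * z * k ≠ 1 := fun h => hz1 (by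
        calc z = k * (k⁻¹ * z * k) * k⁻¹ := by group
          _ = 1 := by rw [h, mul_one, mul_inv_cancel])
      rw [← (hAc _ hk hzk).1, mem_centralizer_singleton_iff, MulEquiv.coe_toMonoidHom,
        MulAut.conj_apply, inv_inv]
      calc k⁻¹ * w * k * (k⁻¹ * z * k) = k⁻¹ * (w * z) * k := by group
        _ = k⁻¹ * z * k * (k⁻¹ * w * k) := by rw [hTab w hw z hzT]; group
    have h1 := card_dvd_of_le hle
    rwa [card_map_of_injective (MulAut.conj k⁻¹).injective] at h1
  -- counting elements of order `p`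
  have hcount : A.index = Nat.card (Sylow p X) * (Nat.card U - 1) + 1 := by
    have h1 : {y : X | y ^ p = 1} = (Cfsg.Agent.Lib.Frobenius.conjUnion A)ᶜ := by
      ext w
      exact ⟨hnotA w, fun hw => not_not.mp fun h => hw (hcover w h)⟩
    have h2 : {y : X | y ^ p = 1}.ncard = A.index := by
      rw [h1, ← Cfsg.Agent.Lib.Frobenius.frobeniusKernel_eq_compl, ← Nat.card_coe_set_eq]
      exact Cfsg.Agent.Lib.Frobenius.card_frobeniusKernel hAF
    let e : (Σ P : Sylow p X, {w : X // w ∈ (P : Subgroup X) ∧ w ≠ 1}) →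
        {w : X // w ^ p = 1 ∧ w ≠ 1} := fun s => ⟨s.2, by
      refine ⟨?_, s.2.2.2⟩
      obtain ⟨g, hg⟩ := MulAction.exists_smul_eq X P₀ s.1
      have hmem : (s.2 : X) ∈ MulAut.conj g • (P₀ : Subgroup X) := by
        rw [← Sylow.coe_subgroup_smul, hg]; exact s.2.2.1
      rw [Cfsg.Agent.Lib.Frobenius.mem_conj_smul, hP₀] at hmem
      have h3 := hUp _ hmem
      have := conj_pow (a := g⁻¹) (b := (s.2 : X)) (i := p)
      rw [inv_inv] at this
      rw [this] at h3
      simpa [mul_assoc, inv_mul_eq_one, eq_comm] using h3⟩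
    have hbij : Function.Bijective e := by
      constructor
      · rintro ⟨P, w, hw⟩ ⟨Q, w', hw'⟩ hee
        have hww : w = w' := congrArg Subtype.val hee
        subst hww
        have : P = Q := Sylow.ext (by rw [hSyl P w hw.1 hw.2, hSyl Q w hw'.1 hw.2])
        subst this
        rfl
      · rintro ⟨w, hw, hw1⟩
        obtain ⟨P, hP⟩ := (IsPGroup.of_card (G := ↥(zpowers w)) (p := p) (n := 1) (by
          rw [Nat.card_zpowers, orderOf_eq_prime hw hw1, pow_one])).exists_le_sylow
        exact ⟨⟨P, w, hP (mem_zpowers w), hw1⟩, rfl⟩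
    haveI : Fintype (Sylow p X) := Fintype.ofFinite _
    have h3 := Nat.card_congr (Equiv.ofBijective e hbij)
    rw [Nat.card_sigma] at h3
    have h4 : ∀ P : Sylow p X, Nat.card {w : X // w ∈ (P : Subgroup X) ∧ w ≠ 1} = Nat.card U - 1 := by
      intro P
      rw [← hP₀, show Nat.card (P₀ : Subgroup X) = Nat.card (P : Subgroup X) by
        rw [Sylow.card_eq_multiplicity, Sylow.card_eq_multiplicity],
        ← Cfsg.Agent.Lib.Frobenius.ncard_coe_diff_one (P : Subgroup X), ← Nat.card_coe_set_eq]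
      rfl
    simp only [h4, Finset.sum_const, Finset.card_univ, smul_eq_mul] at h3
    rw [← Nat.card_eq_fintype_card] at h3
    have h5 : {y : X | y ^ p = 1} = insert 1 {w : X | w ^ p = 1 ∧ w ≠ 1} := by
      ext w
      by_cases hw : w = 1 <;> simp [hw]
    rw [← h2, h5, Set.ncard_insert_of_notMem (by simp), ← Nat.card_coe_set_eq]
    exact congrArg (· + 1) h3.symm
  have hm : (normalizer (U : Set X)).index = Nat.card (Sylow p X) := by
    rw [← hP₀]; exact (P₀.card_eq_index_normalizer).symm
  obtain ⟨s, hs⟩ := htA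
  have htot1 := A.index_mul_card
  have htot2 := (normalizer (U : Set X)).index_mul_card
  rw [hm, hcardN] at htot2
  have hu3 : 2 ≤ Nat.card U := by
    rw [← Nat.succ_le_iff.trans Nat.lt_iff_add_one_le]
    exact one_lt_card_iff_ne_bot U |>.mpr fun h => hu (mem_bot.mp (h ▸ huU))
  have ht0 : 0 < Nat.card T := Nat.card_pos
  have key : A.index * s = Nat.card (Sylow p X) * Nat.card U := by
    apply Nat.eq_of_mul_eq_mul_right ht0
    calc A.index * s * Nat.card T = A.index * Nat.card A := by rw [hs]; ring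
      _ = _ := by rw [htot1, ← htot2]; ring
  rw [hcount] at key
  obtain ⟨w, hw⟩ := Nat.exists_eq_add_of_le hu3
  rw [hw, show 2 + w - 1 = 1 + w by omega] at key
  have hs1 : s = 1 := by
    rcases Nat.lt_or_ge s 2 with h | h
    · rcases Nat.eq_zero_or_pos s with h0 | h0
      · rw [h0, mul_zero] at hs; exact absurd hs Nat.card_pos.ne'
      · omega
    · have := Nat.mul_le_mul_left (Nat.card (Sylow p X) * (1 + w) + 1) h
      nlinarith [Nat.card_pos (α := Sylow p X)]
  rw [hs1, mul_one] at key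
  have hone : Nat.card (Sylow p X) = 1 := by nlinarith
  exact index_eq_one.mp (hm.trans hone)

/-- All elements of order `p` fix the same vector. -/
theorem unipotent_fix_common {u w : X} (hu : u ≠ 1) (hup : u ^ p = 1) (hw : w ^ p = 1)
    {v : Fin 2 → F} (hv : φ u *ᵥ v = v) : φ w *ᵥ v = v := by
  suffices hc : w * u = u * w from
    (of_commute_unipotent p hp2 hodd φ hinj hdet hu hup hc).2 v hv
  by_cases hw1 : w = 1
  · simp [hw1]
  -- all conjugates of `u` commute with it, and `w` is conjugate into the centralizer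
  have hn := centralizer_unipotent_normal p hp2 hodd φ hinj hdet hu hup
  obtain ⟨P, hP⟩ := (IsPGroup.of_card (G := ↥(zpowers u)) (p := p) (n := 1) (by
    rw [Nat.card_zpowers, orderOf_eq_prime hup hu, pow_one])).exists_le_sylow
  have hCp : IsPGroup p (centralizer ({u} : Set X)) := fun z => ⟨1, Subtype.ext (by
    rw [pow_one]
    exact (of_commute_unipotent p hp2 hodd φ hinj hdet hu hup
      (mem_centralizer_singleton_iff.mp z.2)).1)⟩
  haveI hCn : (centralizer ({u} : Set X)).Normal := by
    refine ⟨fun z hz g => ?_⟩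
    rw [mem_centralizer_singleton_iff] at hz ⊢
    have hgu : g * u * g⁻¹ ≠ 1 := fun h => hu (by
      calc u = g⁻¹ * (g * u * g⁻¹) * g := by group
        _ = 1 := by rw [h, mul_one, inv_mul_cancel])
    refine commute_trans p hp2 hodd φ hinj hdet hgu ?_ (hn g)
    calc g * z * g⁻¹ * (g * u * g⁻¹) = g * (z * u) * g⁻¹ := by group
      _ = g * u * g⁻¹ * (g * z * g⁻¹) := by rw [hz]; group
  have hsup := (IsPGroup.of_card (G := ↥(zpowers w)) (p := p) (n := 1) (by
    rw [Nat.card_zpowers, orderOf_eq_prime hw hw1, pow_one])).to_sup_of_normal_right hCp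
  -- the abelian normal `p`-subgroup absorbs `w`
  haveI : Nontrivial ↥(zpowers w ⊔ centralizer ({u} : Set X)) :=
    ⟨⟨⟨w, le_sup_left (a := zpowers w) (mem_zpowers w)⟩, 1, fun h => hw1 (congrArg Subtype.val h)⟩⟩
  obtain ⟨n, hn', hcard⟩ :=
    (hsup.to_subgroup (center ↥(zpowers w ⊔ centralizer ({u} : Set X)))).nontrivial_iff_card.mp
      hsup.center_nontrivial
  obtain ⟨⟨c, hc⟩, hco⟩ := exists_prime_orderOf_dvd_card'
    (G := center ↥(zpowers w ⊔ centralizer ({u} : Set X))) p
    (by rw [hcard]; exact dvd_pow_self p hn'.ne')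
  rw [Subgroup.orderOf_mk, ← Subgroup.orderOf_coe] at hco
  have hc1 : (c : X) ≠ 1 := fun h => hp.out.ne_one (by rw [← hco, h, orderOf_one])
  refine commute_trans p hp2 hodd φ hinj hdet hc1 ?_ ?_
  · exact congrArg Subtype.val (mem_center_iff.mp hc ⟨w, le_sup_left (a := zpowers w) (mem_zpowers w)⟩)
  · exact congrArg Subtype.val (mem_center_iff.mp hc
      ⟨u, le_sup_right (b := centralizer ({u} : Set X)) (mem_centralizer_singleton_iff.mpr rfl)⟩)

end Group

end Cfsg.Agent.Lib.OddLocal.GL2Odd
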