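import Mathlib
import Cfsg.Agent.Lib.OddLocal.GL2Odd
import Cfsg.Agent.S1463

/-!
Derived subgroups of solvable groups of odd order in `GL(2, F)`, `char F = p` odd, are `p`-groups.
-/

set_option autoImplicit false

namespace Cfsg.Agent.Lib.OddLocal.GL2Derived

open Subgroup Matrix
open scoped MatrixGroups commutatorElement

variable {F : Type*} [Field F] (p : ℕ) [hp : Fact p.Prime] [CharP F p]

/-- If `g` has odd order and sends a non-scalar `x` of determinant one (not of trace `±2`) into
its centralizer, then `g` commutes with `x`. -/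
theorem commute_of_conj_commute (hp2 : p ≠ 2) {x g : GL (Fin 2) F}
    (hns : ∀ c : F, (x : Matrix (Fin 2) (Fin 2) F) ≠ c • 1)
    (hdx : (x : Matrix (Fin 2) (Fin 2) F).det = 1)
    (ht2 : (x : Matrix (Fin 2) (Fin 2) F).trace ≠ 2) (htm2 : (x : Matrix (Fin 2) (Fin 2) F).trace ≠ -2)
    (hg : Odd (orderOf g)) (h : Commute (g * x * g⁻¹) x) : Commute g x := by
  have h2 : (2 : F) ≠ 0 := GL2Odd.two_ne_zero' p hp2
  set y := g * x * g⁻¹ with hy
  obtain ⟨a, b, hab⟩ := GL2Odd.exists_eq_of_commute hns
    (by rw [← Units.val_mul, ← Units.val_mul, h.eq] :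
      (y : Matrix (Fin 2) (Fin 2) F) * (x : Matrix (Fin 2) (Fin 2) F) =
        (x : Matrix (Fin 2) (Fin 2) F) * (y : Matrix (Fin 2) (Fin 2) F))
  obtain ⟨t, ht⟩ : ∃ t, t = (x : Matrix (Fin 2) (Fin 2) F).trace := ⟨_, rfl⟩
  have e1 : a * 2 + b * t = t := by
    have htr : (y : Matrix (Fin 2) (Fin 2) F).trace = (x : Matrix (Fin 2) (Fin 2) F).trace := by
      rw [hy, Units.val_mul, Units.val_mul]
      exact Matrix.trace_units_conj g _
    rw [hab, trace_add, trace_smul, trace_smul, trace_one, Fintype.card_fin] at htr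
    simp only [smul_eq_mul, Nat.cast_ofNat] at htr
    rw [ht]; exact htr
  have e2 : a ^ 2 + a * b * t + b ^ 2 = 1 := by
    have hd' : (y : Matrix (Fin 2) (Fin 2) F).det = 1 := by
      rw [hy, Units.val_mul, Units.val_mul, Matrix.det_units_conj, hdx]
    rw [hab] at hd'
    rw [trace_fin_two] at ht
    simp [det_fin_two] at hd'
    rw [det_fin_two] at hdx
    linear_combination hd' - b ^ 2 * hdx + a * b * ht
  have e3 : (t - 2) * (t + 2) * ((1 - b) * (1 + b)) = 0 := by
    first | linear_combination 4 * e2 - (a * 2 + b * t + t) * e1 |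
      linear_combination -4 * e2 + (a * 2 + b * t + t) * e1
  have ht2' : t - 2 ≠ 0 := fun h0 => ht2 (ht ▸ sub_eq_zero.mp h0)
  have htm2' : t + 2 ≠ 0 := fun h0 => htm2 (ht ▸ eq_neg_of_add_eq_zero_left h0)
  rcases mul_eq_zero.mp ((mul_eq_zero.mp e3).resolve_left (mul_ne_zero ht2' htm2')) with hb | hb
  · have hb1 : b = 1 := (sub_eq_zero.mp hb).symm
    have ha : a = 0 := mul_right_cancel₀ h2 (by rw [hb1] at e1; linear_combination e1)
    have : g * x * g⁻¹ = x := Units.ext (by rw [← hy, hab, hb1, ha]; simp)
    exact mul_inv_eq_iff_eq_mul.mp this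
  · have hb1 : b = -1 := by linear_combination hb
    have ha : a = t := mul_right_cancel₀ h2 (by rw [hb1] at e1; linear_combination e1)
    have hinv : g * x * g⁻¹ = x⁻¹ := by
      refine eq_inv_of_mul_eq_one_left (Units.ext ?_)
      rw [← hy, Units.val_mul, Units.val_one, hab, hb1, ha, ht, add_mul, smul_mul_assoc,
        smul_mul_assoc, one_mul, GL2Odd.mul_self_eq hdx]
      module
    have hc : Commute (g ^ 2) x := by
      refine mul_inv_eq_iff_eq_mul.mp ?_
      calc g ^ 2 * x * (g ^ 2)⁻¹ = g * (g * x * g⁻¹) * g⁻¹ := by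
            rw [pow_two]; simp only [_root_.mul_inv_rev, mul_assoc]
        _ = (g * x * g⁻¹)⁻¹ := by rw [hinv]; nth_rewrite 2 [← hinv]; group
        _ = x := by rw [hinv, inv_inv]
    obtain ⟨k, hk⟩ := exists_pow_eq_self_of_coprime (x := g) (n := 2)
      (Nat.coprime_two_left.mpr hg)
    have := hc.pow_left k
    rwa [hk] at this

omit hp [CharP F p] in
/-- A finite solvable group with transitive commuting in which no element moves a non-identity
element into another element of its centralizer is commutative. -/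
theorem commute_of_transitive {X : Type*} [Group X] [Group.IsSolvable X]
    (htrans : ∀ x y z : X, y ≠ 1 → Commute x y → Commute y z → Commute x z)
    (hnorm : ∀ x g : X, x ≠ 1 → Commute (g * x * g⁻¹) x → Commute g x) (a b : X) :
    Commute a b := by
  classical
  have hex : ∃ m, derivedSeries X m = ⊥ := Group.IsSolvable.solvable
  by_cases h : ∀ x : X, x = 1
  · rw [h a, h b]
  let n := Nat.find hex
  have hn : derivedSeries X n = ⊥ := Nat.find_spec hex
  obtain ⟨k, hk⟩ : ∃ k, n = k + 1 := by
    refine ⟨n - 1, (Nat.succ_pred_eq_of_ne_zero ?_).symm⟩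
    intro h0
    rw [h0, derivedSeries_zero] at hn
    exact h fun x => by simpa [hn] using (mem_top x)
  have hkne : derivedSeries X k ≠ ⊥ := fun he => by
    have := Nat.find_min hex (show k < n by omega)
    exact this he
  obtain ⟨x, hx, hx1⟩ : ∃ x ∈ derivedSeries X k, x ≠ 1 := by
    by_contra hno
    exact hkne ((eq_bot_iff_forall _).mpr fun y hy => by
      by_contra hy1; exact hno ⟨y, hy, hy1⟩)
  have hcen : ∀ g : X, Commute g x := by
    intro g
    refine hnorm x g hx1 ?_
    have hgx : g * x * g⁻¹ ∈ derivedSeries X k := (derivedSeries_normal X k).conj_mem x hx g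
    rw [hk, derivedSeries_succ] at hn
    exact (commutatorElement_eq_one_iff_mul_comm.mp
      (by simpa [hn] using commutator_mem_commutator hgx hx))
  exact htrans a x b hx1 (hcen a) (hcen b).symm

/-- The derived subgroup of a finite solvable subgroup of odd order of `GL(2, F)` consists of
`p`-elements of order at most `p`. -/
theorem commutator_pow_eq_one (hp2 : p ≠ 2) (H : Subgroup (GL (Fin 2) F)) [Finite H]
    [Group.IsSolvable H] (hodd : Odd (Nat.card H)) : ∀ c ∈ commutator H, c ^ p = 1 := by
  classical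
  let val : H →* Matrix (Fin 2) (Fin 2) F := (Units.coeHom _).comp H.subtype
  have hval : Function.Injective val := fun a b hab => Subtype.ext (Units.ext hab)
  let d : H →* F := Matrix.detMonoidHom.comp val
  let D : Subgroup H := d.ker
  have hcD : commutator H ≤ D := by
    rw [commutator_eq_closure, closure_le]
    rintro _ ⟨a, b, rfl⟩
    refine MonoidHom.mem_ker.mpr ?_
    have hab : d a * d b = d b * d a := mul_comm _ _
    rw [commutatorElement_def, map_mul, map_mul, map_mul, hab, mul_assoc (d b), ← map_mul,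
      mul_inv_cancel, map_one, mul_one, ← map_mul, mul_inv_cancel, map_one]
  let φ : D →* Matrix (Fin 2) (Fin 2) F := val.comp D.subtype
  have hinj : Function.Injective φ := fun a b hab => Subtype.ext (hval hab)
  have hdet : ∀ g, (φ g).det = 1 := fun g => MonoidHom.mem_ker.mp g.2
  have hoD : Odd (Nat.card D) := hodd.of_dvd_nat D.card_subgroup_dvd_card
  intro c hc
  by_cases hdvd : p ∣ Nat.card H
  · -- a common eigenvector, fixed by all commutators
    obtain ⟨v, hv0, hv⟩ : ∃ v : Fin 2 → F, v ≠ 0 ∧
        ∀ g ∈ H, (g : Matrix (Fin 2) (Fin 2) F) *ᵥ v ∈ Submodule.span F {v} := by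
      by_contra hno
      refine Cfsg.Agent.S1463.result p hp2 H hodd (fun v hv => ?_) hdvd
      by_contra hg
      exact hno ⟨v, hv, fun g hg' => by_contra fun h => hg ⟨g, hg', h⟩⟩
    have hχ : ∀ g : H, ∃ t : F, val g *ᵥ v = t • v := fun g => by
      obtain ⟨t, ht⟩ := Submodule.mem_span_singleton.mp (hv g.1 g.2)
      exact ⟨t, ht.symm⟩
    choose χ hχ using hχ
    have hχm : ∀ g h : H, χ (g * h) = χ g * χ h := by
      intro g h
      refine smul_left_injective F hv0 ?_
      simp only []
      rw [← hχ, map_mul, ← mulVec_mulVec, hχ, mulVec_smul, hχ, smul_smul, mul_comm]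
    have hχ1 : χ 1 = 1 := smul_left_injective F hv0 (by
      simp only []; rw [← hχ, map_one, one_mulVec, one_smul])
    let X : H →* F := { toFun := χ, map_one' := hχ1, map_mul' := hχm }
    have hcX : c ∈ X.ker := by
      refine (?_ : commutator H ≤ X.ker) hc
      rw [commutator_eq_closure, closure_le]
      rintro _ ⟨a, b, rfl⟩
      refine MonoidHom.mem_ker.mpr ?_
      have hab : X a * X b = X b * X a := mul_comm _ _
      rw [commutatorElement_def, map_mul, map_mul, map_mul, hab, mul_assoc (X b), ← map_mul,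
        mul_inv_cancel, map_one, mul_one, ← map_mul, mul_inv_cancel, map_one]
    let c' : D := ⟨c, hcD hc⟩
    have hfix : φ c' *ᵥ v = v := by
      have := hχ c
      rw [show χ c = 1 from MonoidHom.mem_ker.mp hcX, one_smul] at this
      exact this
    have hzero : (φ c' - 1).det = 0 :=
      Matrix.exists_mulVec_eq_zero_iff.mp ⟨v, hv0, by rw [sub_mulVec, one_mulVec, hfix, sub_self]⟩
    have htr : (φ c').trace = 2 := by
      have hd := hdet c'
      rw [trace_fin_two]
      simp [det_fin_two] at hd hzero
      linear_combination hd - hzero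
    exact congrArg Subtype.val ((GL2Odd.pow_eq_one_iff_trace p hp2 hoD φ hinj hdet).mpr htr)
  · -- the group is commutative
    have hpow : ∀ x : D, x ^ p = 1 → x = 1 := by
      intro x hx
      have hcop : (orderOf x).Coprime p := Nat.Coprime.coprime_dvd_left
        ((orderOf_dvd_natCard x).trans D.card_subgroup_dvd_card)
        ((hp.out.coprime_iff_not_dvd.mpr hdvd).symm)
      exact orderOf_eq_one_iff.mp (Nat.eq_one_of_dvd_coprimes hcop dvd_rfl
        (orderOf_dvd_iff_pow_eq_one.mpr hx))
    have hDcomm : ∀ a b : D, Commute a b := by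
      have : Group.IsSolvable D := inferInstance
      refine commute_of_transitive (fun x y z hy hxy hyz =>
        GL2Odd.commute_trans p hp2 hoD φ hinj hdet hy hxy hyz.symm) (fun x g hx h =>
        GL2Odd.commute_of_normalizes p hp2 hoD φ hinj hdet (fun h' => hx (hpow x h')) h)
    have hcomm : ∀ a b : H, a * b = b * a := by
      by_cases hD : ∀ x : D, x = 1
      · intro a b
        have hab : d a * d b = d b * d a := mul_comm _ _
        have hmem : ⁅a, b⁆ ∈ D := hcD (by
          rw [commutator_eq_closure]; exact subset_closure ⟨a, b, rfl⟩)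
        exact commutatorElement_eq_one_iff_mul_comm.mp (congrArg Subtype.val (hD ⟨_, hmem⟩))
      obtain ⟨x, hx⟩ := not_forall.mp hD
      have hns : ∀ t : F, φ x ≠ t • 1 := GL2Odd.not_scalar p hp2 hoD φ hinj hdet hx
      have hcx : ∀ g : H, Commute g.1 (x.1.1 : GL (Fin 2) F) := by
        intro g
        refine commute_of_conj_commute p hp2 hns (hdet x)
          (fun h => hx (hpow x ((GL2Odd.pow_eq_one_iff_trace p hp2 hoD φ hinj hdet).mpr h)))
          (GL2Odd.trace_ne_neg_two p hp2 hoD φ hinj hdet (g := x)) ?_ ?_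
        · rw [Subgroup.orderOf_coe]
          exact hodd.of_dvd_nat (orderOf_dvd_natCard g)
        · have := hDcomm ⟨g * x.1 * g⁻¹, (MonoidHom.normal_ker d).conj_mem _ x.2 g⟩ x
          exact congrArg Subtype.val (congrArg Subtype.val this.eq)
      have hpoly : ∀ g : H, ∃ a b : F, val g = a • 1 + b • φ x := fun g =>
        GL2Odd.exists_eq_of_commute hns (congrArg Units.val (hcx g).eq)
      intro a b
      obtain ⟨a1, a2, ha⟩ := hpoly a
      obtain ⟨b1, b2, hb⟩ := hpoly b
      apply hval
      rw [map_mul, map_mul, ha, hb]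
      simp only [mul_add, add_mul, smul_mul_assoc, mul_smul_comm, smul_smul, one_mul, mul_one]
      module
    have hbot : commutator H ≤ ⊥ := by
      rw [commutator_eq_closure, closure_le]
      rintro _ ⟨a, b, rfl⟩
      exact mem_bot.mpr (commutatorElement_eq_one_iff_mul_comm.mpr (hcomm a b))
    rw [mem_bot.mp (hbot hc), one_pow]

end Cfsg.Agent.Lib.OddLocal.GL2Derived
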