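import Mathlib
import Cfsg.Prelude.Def_OddOrderLocal
import Cfsg.Agent.Lib.OddLocal.CoprimeFix
import Cfsg.Agent.Lib.OddLocal.GL2Derived
import Cfsg.Agent.Lib.Transfer.Critical
import Cfsg.Agent.Lib.Balance.OddInvariant
import Cfsg.Agent.Lib.OddOrder.Rank

/-!
Automorphisms of order prime to `p` of narrow `p`-groups (`p` odd): they are controlled by their
action on the elementary abelian sections of order at most `p²` that are invariant under the
normalizer.
-/

set_option autoImplicit false

universe u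

namespace Cfsg.Agent.Lib.OddLocal.NarrowAut

open Subgroup
open scoped MatrixGroups commutatorElement

variable {p : ℕ} [hp : Fact p.Prime]

/-- An elementary abelian group of order `p²` has its automorphisms inside `GL(2, p)`. -/
theorem exists_mulAut_embedding {Q : Type*} [CommGroup Q] [Finite Q] (hexp : ∀ q : Q, q ^ p = 1)
    (hcard : Nat.card Q = p ^ 2) :
    ∃ ι : MulAut Q →* GL (Fin 2) (ZMod p), Function.Injective ι := by
  haveI : Module (ZMod p) (Additive Q) := AddCommGroup.zmodModule fun x => by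
    exact congrArg Additive.ofMul (hexp x.toMul)
  haveI : Module.Finite (ZMod p) (Additive Q) := Module.Finite.of_finite
  have hc : Nat.card (Additive Q) = Nat.card (ZMod p) ^ Module.finrank (ZMod p) (Additive Q) :=
    Module.natCard_eq_pow_finrank
  rw [show Nat.card (Additive Q) = Nat.card Q from rfl, hcard, Nat.card_zmod] at hc
  let b := Module.finBasisOfFinrankEq (ZMod p) (Additive Q)
    (Nat.pow_right_injective hp.out.two_le hc).symm
  let e : MulAut Q →* Module.End (ZMod p) (Additive Q) :=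
    { toFun := fun φ => AddMonoidHom.toZModLinearMap p
        (MonoidHom.toAdditive (φ.toMonoidHom : Q →* Q))
      map_one' := by ext x; rfl
      map_mul' := fun φ ψ => by ext x; rfl }
  have he : Function.Injective e := fun φ ψ h =>
    MulEquiv.ext fun x => LinearMap.congr_fun h (Additive.ofMul x)
  let E : MulAut Q →* Matrix (Fin 2) (Fin 2) (ZMod p) :=
    (LinearMap.toMatrixAlgEquiv b).toMulEquiv.toMonoidHom.comp e
  refine ⟨E.toHomUnits, fun φ ψ h => he ?_⟩
  exact (LinearMap.toMatrixAlgEquiv b).injective (congrArg Units.val h)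

/-- Automorphisms of a group of order `1` or `p` commute. -/
theorem mulAut_commute {Q : Type*} [Group Q] [Finite Q] (hcard : Nat.card Q = 1 ∨ Nat.card Q = p)
    (φ ψ : MulAut Q) : φ * ψ = ψ * φ := by
  rcases hcard with h | h
  · haveI : Subsingleton Q := (Nat.card_eq_one_iff_unique.mp h).1
    ext x; exact Subsingleton.elim _ _
  · haveI : IsCyclic Q := isCyclic_of_prime_card h
    apply (IsCyclic.mulAutMulEquiv Q).injective
    rw [map_mul, map_mul, mul_comm]

/-- The possible orders of a small elementary abelian group. -/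
theorem card_cases {Q : Type*} [Group Q] [Finite Q] (hexp : ∀ q : Q, q ^ p = 1)
    (hle : Nat.card Q ≤ p ^ 2) : Nat.card Q = 1 ∨ Nat.card Q = p ∨ Nat.card Q = p ^ 2 := by
  have hQ : IsPGroup p Q := fun q => ⟨1, by rw [pow_one]; exact hexp q⟩
  obtain ⟨n, hn⟩ := IsPGroup.iff_card.mp hQ
  rw [hn] at hle ⊢
  have : n ≤ 2 := (Nat.pow_le_pow_iff_right hp.out.one_lt).mp hle
  interval_cases n <;> simp

/-- A derived element of order prime to `p` of a solvable group of odd order acts trivially on a
small elementary abelian section. -/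
theorem small_trivial_of_derived (hp2 : p ≠ 2) {Q : Type*} [CommGroup Q] [Finite Q]
    (hexp : ∀ q : Q, q ^ p = 1) (hle : Nat.card Q ≤ p ^ 2) {A : Type*} [Group A] [Finite A]
    [Group.IsSolvable A] (hodd : Odd (Nat.card A)) (f : A →* MulAut Q) {c : A}
    (hc : c ∈ commutator A) (hcp : (orderOf c).Coprime p) : f c = 1 := by
  rcases card_cases hexp hle with h | h | h
  rotate_right 1
  · obtain ⟨ι, hι⟩ := exists_mulAut_embedding hexp h
    let g := (ι.comp f).rangeRestrict
    have hg : Function.Surjective g := MonoidHom.rangeRestrict_surjective _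
    haveI : Group.IsSolvable (ι.comp f).range := Group.isSolvable_of_surjective hg
    have hoddR : Odd (Nat.card (ι.comp f).range) :=
      hodd.of_dvd_nat (card_dvd_of_surjective g hg)
    have hgc : g c ∈ commutator (ι.comp f).range := by
      refine (?_ : commutator A ≤ (commutator (ι.comp f).range).comap g) hc
      rw [commutator_eq_closure, closure_le]
      rintro _ ⟨a, b, rfl⟩
      rw [SetLike.mem_coe, mem_comap, map_commutatorElement, commutator_eq_closure]
      exact subset_closure ⟨g a, g b, rfl⟩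
    have hpow := GL2Derived.commutator_pow_eq_one p hp2 _ hoddR _ hgc
    have h1 : g c = 1 := orderOf_eq_one_iff.mp (Nat.eq_one_of_dvd_coprimes hcp
      (orderOf_map_dvd g c) (orderOf_dvd_iff_pow_eq_one.mpr hpow))
    exact hι ((congrArg Subtype.val h1).trans (map_one ι).symm)
  all_goals
    refine MonoidHom.mem_ker.mp ((?_ : commutator A ≤ f.ker) hc)
    rw [commutator_eq_closure, closure_le]
    rintro _ ⟨a, b, rfl⟩
    rw [SetLike.mem_coe, MonoidHom.mem_ker, map_commutatorElement,
      commutatorElement_eq_one_iff_mul_comm]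
    exact mulAut_commute (p := p) (by simp [h]) _ _

/-- Prime orders of automorphisms of small elementary abelian groups. -/
theorem prime_dvd_mulAut {Q : Type*} [CommGroup Q] [Finite Q] (hexp : ∀ q : Q, q ^ p = 1)
    (hle : Nat.card Q ≤ p ^ 2) {φ : MulAut Q} (hq : (orderOf φ).Prime) (hqp : orderOf φ ≠ p) :
    orderOf φ ∣ (p - 1) * (p + 1) := by
  rcases card_cases hexp hle with h | h | h
  · haveI : Subsingleton Q := (Nat.card_eq_one_iff_unique.mp h).1
    have : φ = 1 := MulEquiv.ext fun x => Subsingleton.elim _ _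
    rw [this, orderOf_one] at hq
    exact absurd hq Nat.not_prime_one
  · haveI : IsCyclic Q := isCyclic_of_prime_card h
    rw [← MulEquiv.orderOf_eq (IsCyclic.mulAutMulEquiv Q)]
    refine dvd_mul_of_dvd_left ?_ _
    have hd := orderOf_dvd_natCard (IsCyclic.mulAutMulEquiv Q φ)
    rw [Nat.card_eq_fintype_card (α := (ZMod (Nat.card Q))ˣ)] at hd
    haveI : NeZero (Nat.card Q) := ⟨Nat.card_pos.ne'⟩
    have htot : (Nat.card Q).totient = p - 1 := by rw [h, Nat.totient_prime hp.out]
    rwa [ZMod.card_units_eq_totient, htot] at hd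
  · obtain ⟨ι, hι⟩ := exists_mulAut_embedding hexp h
    have hd := orderOf_dvd_natCard (ι φ)
    rw [orderOf_injective ι hι, Matrix.card_GL_field, Fin.prod_univ_two, ZMod.card] at hd
    have e1 : p ^ 2 - p ^ ((0 : Fin 2) : ℕ) = (p - 1) * (p + 1) := by
      rw [mul_comm, ← Nat.sq_sub_sq, one_pow]; simp
    have e2 : p ^ 2 - p ^ ((1 : Fin 2) : ℕ) = p * (p - 1) := by
      rw [Nat.mul_sub, mul_one, ← pow_two]; simp
    rw [e1, e2] at hd
    rcases hq.dvd_mul.mp hd with h1 | h1
    · exact h1
    · rcases hq.dvd_mul.mp h1 with h2 | h2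
      · exact absurd ((Nat.prime_dvd_prime_iff_eq hq hp.out).mp h2) hqp
      · exact dvd_mul_of_dvd_left h2 _

variable {G : Type u} [Group G]

/-- The action on a normalized section as a homomorphism into its automorphism group. -/
theorem exists_sectionHom [Finite G] {A M N : Subgroup G} (hNM : N ≤ M)
    (hAM : A ≤ normalizer (M : Set G)) (hAN : A ≤ normalizer (N : Set G))
    (hMN : ⁅M, M⁆ ≤ N) (hexp : ∀ m ∈ M, m ^ p ∈ N) :
    ∃ (Q : Type u) (_ : CommGroup Q) (f : A →* MulAut Q), Finite Q ∧ (∀ q : Q, q ^ p = 1) ∧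
      Nat.card Q = N.relIndex M ∧ ∀ a : A, f a = 1 → ∀ m ∈ M, ⁅(a : G), m⁆ ∈ N := by
  let X : Subgroup G := normalizer (M : Set G) ⊓ normalizer (N : Set G)
  have hMX : M ≤ X := by
    refine le_inf le_normalizer fun m hm => ?_
    rw [mem_normalizer_iff]
    intro n
    have key : ∀ {m : G}, m ∈ M → ∀ n ∈ N, m * n * m⁻¹ ∈ N := fun {m} hm n hn => by
      rw [show m * n * m⁻¹ = ⁅m, n⁆ * n by simp [commutatorElement_def]]
      exact mul_mem (hMN (commutator_mem_commutator hm (hNM hn))) hn
    refine ⟨key hm n, fun h => ?_⟩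
    have := key (inv_mem hm) _ h
    rwa [show m⁻¹ * (m * n * m⁻¹) * (m⁻¹)⁻¹ = n by group] at this
  haveI hNn : (N.subgroupOf X).Normal := normal_subgroupOf_of_le_normalizer inf_le_right
  haveI hMn : (M.subgroupOf X).Normal := normal_subgroupOf_of_le_normalizer inf_le_left
  let π := QuotientGroup.mk' (N.subgroupOf X)
  let Q := (M.subgroupOf X).map π
  haveI : Q.Normal := hMn.map π (QuotientGroup.mk'_surjective _)
  have hQc : ∀ a b : Q, a * b = b * a := by
    rintro ⟨_, a, ha, rfl⟩ ⟨_, b, hb, rfl⟩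
    apply Subtype.ext
    change π a * π b = π b * π a
    rw [← commutatorElement_eq_one_iff_mul_comm, ← map_commutatorElement]
    exact (QuotientGroup.eq_one_iff _).mpr (hMN (commutator_mem_commutator ha hb))
  letI : CommGroup Q := { (inferInstance : Group Q) with mul_comm := hQc }
  refine ⟨Q, inferInstance, (MulAut.conjNormal.comp π).comp (inclusion (le_inf hAM hAN)),
    inferInstance, ?_, ?_, ?_⟩
  · rintro ⟨_, a, ha, rfl⟩
    apply Subtype.ext
    change π a ^ p = 1
    rw [← map_pow]
    exact (QuotientGroup.eq_one_iff _).mpr (hexp _ ha)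
  · rw [← Subgroup.relIndex_ker (M.subgroupOf X) π, QuotientGroup.ker_mk',
      relIndex_subgroupOf hMX]
  · intro a ha m hm
    have h1 := DFunLike.congr_fun ha ⟨π ⟨m, hMX hm⟩, mem_map_of_mem π hm⟩
    have h2 := congrArg Subtype.val h1
    simp only [MonoidHom.comp_apply, MulAut.conjNormal_apply, MulAut.one_apply] at h2
    rw [← mul_inv_eq_one] at h2
    simp only [← map_inv, ← map_mul] at h2
    exact mem_subgroupOf.mp ((QuotientGroup.eq_one_iff _).mp h2)

/-- Fibre bound for `v ↦ ⁅v, r⁆`. -/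
theorem card_le_centralizer_mul [Finite G] {V W : Subgroup G} {r : G}
    (h : ∀ v ∈ V, ⁅v, r⁆ ∈ W) :
    Nat.card V ≤ Nat.card ↥(V ⊓ centralizer ({r} : Set G)) * Nat.card W := by
  have hC : Nat.card ↥((centralizer ({r} : Set G)).subgroupOf V) =
      Nat.card ↥(V ⊓ centralizer ({r} : Set G)) := by
    rw [← inf_subgroupOf_left]
    exact Nat.card_congr (subgroupOfEquivOfLe inf_le_left).toEquiv
  rw [card_eq_card_quotient_mul_card_subgroup ((centralizer ({r} : Set G)).subgroupOf V), hC,
    mul_comm]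
  refine Nat.mul_le_mul_left _ ?_
  let F : V ⧸ (centralizer ({r} : Set G)).subgroupOf V → W :=
    Quotient.lift (fun v : V => (⟨⁅(v : G), r⁆, h v v.2⟩ : W)) fun a b hab => by
      have hc := mem_centralizer_singleton_iff.mp
        (mem_subgroupOf.mp (QuotientGroup.leftRel_apply.mp hab))
      apply Subtype.ext
      change ⁅(a : G), r⁆ = ⁅(b : G), r⁆
      simp only [commutatorElement_def]
      congr 1
      simp only [Subgroup.coe_mul, Subgroup.coe_inv] at hc
      calc (a : G) * r * (a : G)⁻¹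
          = a * (r * ((a : G)⁻¹ * b)) * (b : G)⁻¹ := by group
        _ = a * (((a : G)⁻¹ * b) * r) * (b : G)⁻¹ := by rw [hc]
        _ = b * r * (b : G)⁻¹ := by group
  refine Nat.card_le_card_of_injective F ?_
  intro x y hab
  induction x using QuotientGroup.induction_on with | _ a
  induction y using QuotientGroup.induction_on with | _ b
  refine QuotientGroup.eq.mpr ?_
  have hab' : ⁅(a : G), r⁆ = ⁅(b : G), r⁆ := congrArg Subtype.val hab
  simp only [commutatorElement_def, mul_left_inj] at hab'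
  rw [mem_subgroupOf, mem_centralizer_singleton_iff]
  simp only [Subgroup.coe_mul, Subgroup.coe_inv]
  calc (a : G)⁻¹ * b * r = (a : G)⁻¹ * ((b : G) * r * (b : G)⁻¹) * b := by group
    _ = (a : G)⁻¹ * ((a : G) * r * (a : G)⁻¹) * b := by rw [hab']
    _ = r * ((a : G)⁻¹ * b) := by group

/-- In a narrow group of rank above two the elements of order `p` commuting with the distinguished
element number at most `p²`. -/
theorem exists_narrow_element [Finite G] {R : Subgroup G} (hn : Cfsg.IsNarrow p R)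
    (hr : ¬ Cfsg.PRankLE p 2 R) :
    ∃ r ∈ R, r ^ p = 1 ∧ ∀ S : Subgroup G, S ≤ R → (∀ s ∈ S, s ^ p = 1 ∧ Commute r s) →
      Nat.card S ≤ p ^ 2 := by
  classical
  obtain ⟨R₀, R₁, h0, hcyc, -, hcomm, hsup⟩ := hn.resolve_left hr
  haveI : Nontrivial R₀ := Finite.one_lt_card_iff_nontrivial.mp (h0 ▸ hp.out.one_lt)
  obtain ⟨r, hr1⟩ := exists_ne (1 : R₀)
  have hgen : ∀ a : R₀, a ∈ zpowers r := fun a =>
    mem_zpowers_of_prime_card h0 hr1
  have hpow0 : ∀ a ∈ R₀, a ^ p = 1 := fun a ha => by
    have := pow_card_eq_one' (G := R₀) (x := ⟨a, ha⟩)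
    rw [h0] at this
    exact congrArg Subtype.val this
  refine ⟨r.1.1, r.1.2, congrArg Subtype.val (hpow0 r.1 r.2), fun S hS hSr => ?_⟩
  haveI : Fintype R₁ := Fintype.ofFinite _
  let K : Finset R₁ := Finset.univ.filter fun b => b ^ p = 1
  have key : ∀ s : S, ∃ ab : R₀ × K, (ab.1.1 * ab.2.1.1 : R).1 = s := by
    intro s
    let s' : R := ⟨s, hS s.2⟩
    have hmem : s' ∈ centralizer (R₀ : Set R) := by
      rw [mem_centralizer_iff]
      intro a ha
      obtain ⟨k, hk⟩ := mem_zpowers_iff.mp (hgen ⟨a, ha⟩)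
      have hc : Commute r.1 s' := Subtype.ext (hSr s s.2).2.eq
      have := (hc.zpow_left k).eq
      rw [← SubgroupClass.coe_zpow, hk] at this
      exact this
    have hcc : ∀ (a : R₀) (b : R₁), Commute (R₀.subtype a) (R₁.subtype b) :=
      fun a b => hcomm a a.2 b b.2
    rw [← hsup, ← R₀.range_subtype, ← R₁.range_subtype,
      ← MonoidHom.noncommCoprod_range _ _ hcc] at hmem
    obtain ⟨⟨a, b⟩, hab⟩ := hmem
    rw [MonoidHom.noncommCoprod_apply] at hab
    refine ⟨(a, ⟨b, Finset.mem_filter.mpr ⟨Finset.mem_univ _, Subtype.ext ?_⟩⟩), congrArg Subtype.val hab⟩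
    have h1 : (a.1 * b.1) ^ p = 1 := by
      rw [show a.1 * b.1 = s' from hab]
      exact Subtype.ext (hSr s s.2).1
    rw [(show Commute a.1 b.1 from hcomm a a.2 b b.2).mul_pow, hpow0 a a.2, one_mul] at h1
    exact h1
  choose g hg using key
  have hK : Nat.card K ≤ p := by
    rw [Nat.card_eq_fintype_card, Fintype.card_coe]
    exact IsCyclic.card_pow_eq_one_le hp.out.pos
  calc Nat.card S ≤ Nat.card (R₀ × K) := Nat.card_le_card_of_injective g fun s t h =>
        Subtype.ext (by rw [← hg s, ← hg t, h])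
    _ = p * Nat.card K := by rw [Nat.card_prod, h0]
    _ ≤ p ^ 2 := by rw [pow_two]; exact Nat.mul_le_mul_left p hK

/-- If `N` normalizes `H` and `V`, it normalizes `⁅H, V⁆`. -/
theorem le_normalizer_commutator {H V : Subgroup G} {g : G} (hH : g ∈ normalizer (H : Set G))
    (hV : g ∈ normalizer (V : Set G)) : g ∈ normalizer ((⁅H, V⁆ : Subgroup G) : Set G) := by
  have key : ∀ {g : G}, g ∈ normalizer (H : Set G) → g ∈ normalizer (V : Set G) →
      ∀ x ∈ ⁅H, V⁆, g * x * g⁻¹ ∈ ⁅H, V⁆ := by
    intro g hH hV x hx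
    refine (?_ : ⁅H, V⁆ ≤ ⁅H, V⁆.comap (MulAut.conj g).toMonoidHom) hx
    rw [commutator_le]
    intro a ha b hb
    rw [mem_comap, map_commutatorElement]
    exact commutator_mem_commutator ((mem_normalizer_iff.mp hH a).mp ha)
      ((mem_normalizer_iff.mp hV b).mp hb)
  rw [mem_normalizer_iff]
  refine fun x => ⟨key hH hV x, fun h => ?_⟩
  have := key (inv_mem hH) (inv_mem hV) _ h
  rwa [show g⁻¹ * (g * x * g⁻¹) * (g⁻¹)⁻¹ = x by group] at this

/-- In a nilpotent group `V ≤ ⁅V, R⁆` forces `V = ⊥`. -/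
theorem eq_bot_of_le_commutator {R V : Subgroup G} [Group.IsNilpotent R] (hVR : V ≤ R)
    (h : V ≤ ⁅V, R⁆) : V = ⊥ := by
  obtain ⟨n, hn⟩ := (isNilpotent_iff_lowerCentralSeries R).mp inferInstance
  have key : ∀ n, V ≤ R.lowerCentralSeries n := by
    intro n
    induction n with
    | zero => simpa using hVR
    | succ n ih => exact h.trans (by rw [Subgroup.lowerCentralSeries_succ]; exact commutator_mono ih le_rfl)
  exact le_bot_iff.mp (hn ▸ key n)

/-- A subgroup contains its derived subgroup. -/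
theorem comm_le (U : Subgroup G) : ⁅U, U⁆ ≤ U :=
  le_normalizer_iff_commutator_le_left.mp le_normalizer

/-- An element trivial on the section `V / W` and fixing `W` fixes `V`. -/
theorem fix_of_section [Finite G] {R V W : Subgroup G} (hWR : W ≤ R) {c : G}
    (hcop : (orderOf c).Coprime (Nat.card R)) (hVW : ∀ v ∈ V, ⁅c, v⁆ ∈ W)
    (hW : ∀ w ∈ W, c * w = w * c) : ∀ v ∈ V, c * v = v * c := fun v hv =>
  CoprimeFix.comm_of_fixed (k := ⁅c, v⁆) (by rw [commutatorElement_def]; group) (hW _ (hVW v hv))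
    (hcop.coprime_dvd_right (orderOf_dvd_natCard R (hWR (hVW v hv))))

/-- If the commutators of `U` are central in `U`, an element trivial on `U / ⁅U, U⁆` fixes
`⁅U, U⁆`. -/
theorem fix_commutator {U : Subgroup G} (hclass : ∀ w ∈ ⁅U, U⁆, ∀ u ∈ U, Commute w u) {c : G}
    (h : ∀ u ∈ U, ⁅c, u⁆ ∈ ⁅U, U⁆) : ∀ w ∈ ⁅U, U⁆, c * w = w * c := by
  intro w hw
  refine (mem_centralizer_singleton_iff.mp
    ((?_ : ⁅U, U⁆ ≤ centralizer ({c} : Set G)) hw)).symm
  rw [commutator_le]
  intro u hu v hv
  rw [mem_centralizer_singleton_iff]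
  have hc : ∀ u ∈ U, c * u * c⁻¹ = ⁅c, u⁆ * u := fun u _ => by simp [commutatorElement_def]
  have habs : ∀ z u v : G, Commute z u → Commute z v → ⁅z * u, v⁆ = ⁅u, v⁆ := by
    intro z u v hzu hzv
    have h1 : Commute z (u * v * u⁻¹) := (hzu.mul_right hzv).mul_right hzu.inv_right
    calc ⁅z * u, v⁆ = z * (u * v * u⁻¹) * z⁻¹ * v⁻¹ := by rw [commutatorElement_def]; group
      _ = ⁅u, v⁆ := by rw [h1.eq]; simp [commutatorElement_def, mul_assoc]
  have key : c * ⁅u, v⁆ * c⁻¹ = ⁅u, v⁆ := by
    have hconj : c * ⁅u, v⁆ * c⁻¹ = ⁅c * u * c⁻¹, c * v * c⁻¹⁆ := by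
      simp only [commutatorElement_def]; group
    rw [hconj, hc u hu, hc v hv]
    rw [habs _ _ _ (hclass _ (h u hu) u hu)
      ((hclass _ (h u hu) _ (comm_le U (h v hv))).mul_right
        (hclass _ (h u hu) v hv))]
    rw [← commutatorElement_inv, habs _ _ _ (hclass _ (h v hv) v hv) (hclass _ (h v hv) u hu),
      commutatorElement_inv]
  exact (mul_inv_eq_iff_eq_mul.mp key).symm

/-- The bound `|U / U'| ≤ p²` for groups of exponent `p` and class two inside a narrow group,
with the elements centralizing the distinguished element available. -/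
theorem relIndex_commutator_le [Finite G] {U : Subgroup G}
    (hclass : ∀ w ∈ ⁅U, U⁆, ∀ u ∈ U, Commute w u) (hexp : ∀ u ∈ U, u ^ p = 1)
    (hab : IsMulCommutative U → Nat.card U ≤ p ^ 2)
    (hb : ¬ IsMulCommutative U → ∃ b ∈ U, Nat.card ↥(U ⊓ centralizer ({b} : Set G)) ≤ p ^ 2) :
    (⁅U, U⁆).relIndex U ≤ p ^ 2 := by
  by_cases hc : IsMulCommutative U
  · exact le_trans (Nat.le_of_dvd Nat.card_pos
      (relIndex_dvd_card ⁅U, U⁆ U)) (hab hc)
  · obtain ⟨b, hbU, hbc⟩ := hb hc
    have h1 := card_le_centralizer_mul (V := U) (W := ⁅U, U⁆) (r := b)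
      fun v hv => commutator_mem_commutator hv hbU
    have hW : ⁅U, U⁆ ≤ U := comm_le U
    have h2 : Nat.card ↥⁅U, U⁆ * (⁅U, U⁆).relIndex U = Nat.card U := by
      have := relIndex_mul_relIndex ⊥ ⁅U, U⁆ U bot_le hW
      rwa [relIndex_bot_left, relIndex_bot_left] at this
    refine le_trans (Nat.le_of_mul_le_mul_left ?_ (Nat.card_pos (α := ↥⁅U, U⁆))) hbc
    rw [h2, mul_comm]; exact h1

/-- In a `p`-group of rank at most two and exponent `p`, some centralizer has order at most `p²`. -/
theorem exists_small_centralizer [Finite G] {U : Subgroup G} (hexp : ∀ u ∈ U, u ^ p = 1)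
    (hr : ∀ E : Subgroup G, E ≤ U → IsMulCommutative E → Nat.card E ≤ p ^ 2)
    (hc : ¬ IsMulCommutative U) :
    ∃ b ∈ U, Nat.card ↥(U ⊓ centralizer ({b} : Set G)) ≤ p ^ 2 := by
  obtain ⟨b, hbU, hbZ⟩ : ∃ b ∈ U, ∃ u ∈ U, ¬ Commute b u := by
    by_contra hno
    exact hc ⟨⟨fun a b => Subtype.ext (by_contra fun h => hno ⟨a, a.2, b, b.2, h⟩)⟩⟩
  refine ⟨b, hbU, ?_⟩
  set C := U ⊓ centralizer ({b} : Set G) with hC
  have hCU : C ≤ U := hC ▸ inf_le_left
  by_cases hCab : IsMulCommutative C
  · exact hr C hCU hCab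
  exfalso
  have hCp : IsPGroup p C := fun x => ⟨1, Subtype.ext (by
    simpa using hexp _ (hCU x.2))⟩
  haveI : Nontrivial C := by
    by_contra hnt
    haveI := not_nontrivial_iff_subsingleton.mp hnt
    exact hCab ⟨⟨fun a b => Subsingleton.elim _ _⟩⟩
  -- `Z(U)` and the center of `C` both sit in `C`, and `b` generates the center of `C` modulo `Z(U)`
  let Z : Subgroup G := (Subgroup.center U).map U.subtype
  have hU : IsPGroup p U := fun x => ⟨1, Subtype.ext (by simpa using hexp _ x.2)⟩
  haveI : Nontrivial U := ⟨⟨⟨b, hbU⟩, 1, fun h => by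
    obtain ⟨u, -, hu⟩ := hbZ
    exact hu (by rw [show b = 1 from congrArg Subtype.val h]; exact Commute.one_left u)⟩⟩
  obtain ⟨z, hz, hz1⟩ : ∃ z : U, z ∈ Subgroup.center U ∧ z ≠ 1 := by
    haveI := hU.center_nontrivial
    obtain ⟨z, hz⟩ := exists_ne (1 : Subgroup.center U)
    exact ⟨z.1, z.2, fun h => hz (Subtype.ext h)⟩
  obtain ⟨x, hxC, y, hyC, hxy⟩ : ∃ x ∈ C, ∃ y ∈ C, ¬ Commute x y := by
    by_contra hno
    exact hCab ⟨⟨fun a b => Subtype.ext (by_contra fun h => hno ⟨a, a.2, b, b.2, h⟩)⟩⟩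
  -- the elementary abelian group generated by `z`, `b`, `x` is too large
  have hzc : ∀ u ∈ U, Commute (z : G) u := fun u hu => by
    have := Subgroup.mem_center_iff.mp hz ⟨u, hu⟩
    exact (congrArg Subtype.val this).symm
  have hbx : ∀ v ∈ C, Commute b v := fun v hv =>
    (mem_centralizer_singleton_iff.mp hv.2).symm
  let E : Subgroup G := closure {(z : G), b, x}
  have hEU : E ≤ U := (closure_le U).mpr (by
    rintro v (rfl | rfl | rfl)
    · exact z.2
    · exact hbU
    · exact hxC.1)
  haveI hEc : IsMulCommutative E := by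
    refine isMulCommutative_closure ?_
    rintro v (rfl | rfl | rfl) w (rfl | rfl | rfl)
    all_goals first
      | rfl
      | exact hzc _ hbU
      | exact hzc _ hxC.1
      | exact (hzc _ hbU).symm
      | exact (hzc _ hxC.1).symm
      | exact hbx _ hxC
      | exact (hbx _ hxC).symm
  -- successive strict inclusions
  let E₁ : Subgroup G := zpowers (z : G)
  let E₂ : Subgroup G := closure {(z : G), b}
  have h1 : ⊥ < E₁ := bot_lt_iff_ne_bot.mpr fun h => hz1 (Subtype.ext (zpowers_eq_bot.mp h))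
  have h2 : E₁ < E₂ := by
    refine lt_of_le_of_ne (zpowers_le.mpr (subset_closure (by simp))) fun h => ?_
    have hb' : b ∈ E₁ := h ▸ subset_closure (by simp)
    obtain ⟨k, hk⟩ := mem_zpowers_iff.mp hb'
    obtain ⟨u, huU, hu⟩ := hbZ
    exact hu (hk ▸ (hzc u huU).zpow_left k)
  have h3 : E₂ < E := by
    refine lt_of_le_of_ne (closure_mono (by intro v hv; simp at hv ⊢; tauto)) fun h => ?_
    have hx' : x ∈ E₂ := h ▸ subset_closure (by simp)
    refine hxy ((mem_centralizer_singleton_iff.mp
      ((?_ : E₂ ≤ centralizer ({y} : Set G)) hx')))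
    rw [closure_le]
    rintro v (rfl | rfl)
    · exact mem_centralizer_singleton_iff.mpr (hzc y hyC.1).eq
    · exact mem_centralizer_singleton_iff.mpr (hbx y hyC).eq
  have hE : IsPGroup p E := hU.to_le hEU
  have step : ∀ A B : Subgroup G, A < B → B ≤ E → p * Nat.card A ≤ Nat.card B := by
    intro A B hAB hBE
    have h := relIndex_mul_relIndex ⊥ A B bot_le hAB.le
    rw [relIndex_bot_left, relIndex_bot_left] at h
    rw [← h, mul_comm]
    refine Nat.mul_le_mul_left _ ?_
    haveI : (A.subgroupOf B).FiniteIndex := inferInstance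
    obtain ⟨n, hn⟩ := (hE.to_le hBE).index (A.subgroupOf B)
    rw [relIndex, hn]
    refine Nat.le_self_pow ?_ p
    rintro rfl
    rw [pow_zero] at hn
    exact hAB.not_ge (subgroupOf_eq_top.mp (index_eq_one.mp hn))
  have e1 := step ⊥ E₁ h1 (h2.le.trans h3.le)
  have e2 := step E₁ E₂ h2 h3.le
  have e3 := step E₂ E h3 le_rfl
  rw [card_bot, mul_one] at e1
  have e4 : p ^ 3 ≤ Nat.card E := by
    calc p ^ 3 = p * (p * p) := by ring
      _ ≤ p * (p * Nat.card E₁) := by gcongr
      _ ≤ p * Nat.card E₂ := by gcongr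
      _ ≤ Nat.card E := e3
  exact absurd (e4.trans (hr E hEU hEc)) (not_le.mpr (Nat.pow_lt_pow_right hp.out.one_lt (by norm_num)))

/-- **Reduction.** There is an invariant subgroup `U` of exponent `p` and class two such that an
element of order prime to `p` fixing `U` centralizes `R`. -/
theorem exists_reduction [Finite G] (hp2 : p ≠ 2) {R : Subgroup G} (hR : IsPGroup p R) :
    ∃ U : Subgroup G, U ≤ R ∧ (∀ u ∈ U, u ^ p = 1) ∧
      (∀ w ∈ ⁅U, U⁆, ∀ u ∈ U, Commute w u) ∧
      normalizer (R : Set G) ≤ normalizer (U : Set G) ∧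
      ∀ c ∈ normalizer (R : Set G), (orderOf c).Coprime p → (∀ u ∈ U, c * u = u * c) →
        c ∈ centralizer (R : Set G) := by
  haveI := hR.isNilpotent
  obtain ⟨H', hH'c, hH'self, -, hH'comm⟩ := Transfer.Critical.exists_critical hR
  haveI := hH'c
  let H : Subgroup G := H'.map R.subtype
  have hHR : H ≤ R := map_subtype_le _
  have hNH : normalizer (R : Set G) ≤ normalizer (H : Set G) :=
    Balance.le_normalizer_map_characteristic H'
  -- commutators of `H` are central in `H`
  have hcl : ∀ a ∈ H, ∀ b ∈ H, ∀ d ∈ H, Commute ⁅a, b⁆ d := by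
    rintro _ ⟨a, ha, rfl⟩ _ ⟨b, -, rfl⟩ _ ⟨d, hd, rfl⟩
    rw [← map_commutatorElement]
    exact (show Commute ⁅a, b⁆ d from (mem_centralizer_iff.mp (hH'comm a ha b).2 d hd).symm).map
      R.subtype
  have hpow : ∀ a ∈ H, ∀ b ∈ H, a ^ p = 1 → b ^ p = 1 → (a * b) ^ p = 1 := by
    intro a ha b hb hap hbp
    set d := ⁅b, a⁆ with hd
    have hdb : Commute d b := hcl b hb a ha b hb
    have hda : Commute d a := hcl b hb a ha a ha
    rw [CoprimeFix.pow_mul_comm_formula (d := d) (by rw [hd, commutatorElement_def]; group)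
      hdb hda, hap, hbp, one_mul, mul_one]
    have hdp : d ^ p = 1 := by
      have hmap : ∀ n : ℕ, b ^ n * a * (b ^ n)⁻¹ = d ^ n * a := by
        intro n
        induction n with
        | zero => simp
        | succ n ih =>
          calc b ^ (n + 1) * a * (b ^ (n + 1))⁻¹
              = b * (b ^ n * a * (b ^ n)⁻¹) * b⁻¹ := by
                rw [pow_succ', mul_inv_rev]; simp only [mul_assoc]
            _ = b * d ^ n * a * b⁻¹ := by rw [ih]; simp only [mul_assoc]
            _ = d ^ n * (b * a * b⁻¹) := by rw [(hdb.pow_left n).symm.eq]; simp only [mul_assoc]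
            _ = d ^ (n + 1) * a := by
              rw [pow_succ, mul_assoc (d ^ n), hd, commutatorElement_def]; group
      have := hmap p
      rw [hbp, one_mul, inv_one, mul_one] at this
      exact mul_right_cancel (b := a) (by rw [← this, one_mul])
    obtain ⟨k, hk⟩ : p ∣ p.choose 2 := hp.out.dvd_choose_self two_ne_zero
      (lt_of_le_of_ne hp.out.two_le (Ne.symm hp2))
    rw [hk, pow_mul, hdp, one_pow]
  let U : Subgroup G :=
    { carrier := {x | x ∈ H ∧ x ^ p = 1}
      one_mem' := ⟨one_mem H, one_pow p⟩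
      mul_mem' := fun {a b} ha hb => ⟨mul_mem ha.1 hb.1, hpow a ha.1 b hb.1 ha.2 hb.2⟩
      inv_mem' := fun {a} ha => ⟨inv_mem ha.1, by rw [inv_pow, ha.2, inv_one]⟩ }
  have hUmem : ∀ {x}, x ∈ U ↔ x ∈ H ∧ x ^ p = 1 := fun {x} => Iff.rfl
  have hUR : U ≤ R := fun x hx => hHR hx.1
  have hexp : ∀ u ∈ U, u ^ p = 1 := fun u hu => hu.2
  have hNU : normalizer (R : Set G) ≤ normalizer (U : Set G) := by
    intro g hg
    rw [mem_normalizer_iff]
    intro x
    rw [hUmem, hUmem, ← mem_normalizer_iff.mp (hNH hg) x, conj_pow, conj_eq_one_iff]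
  have hclass : ∀ w ∈ ⁅U, U⁆, ∀ u ∈ U, Commute w u := by
    intro w hw u hu
    refine mem_centralizer_singleton_iff.mp ((?_ : ⁅U, U⁆ ≤ centralizer ({u} : Set G)) hw)
    rw [commutator_le]
    exact fun a ha b hb => mem_centralizer_singleton_iff.mpr (hcl a ha.1 b hb.1 u hu.1).eq
  refine ⟨U, hUR, hexp, hclass, hNU, fun c hc hcp hfixU => ?_⟩
  have hcopR : (orderOf c).Coprime (Nat.card R) := by
    obtain ⟨n, hn'⟩ := IsPGroup.iff_card.mp hR
    rw [hn']; exact hcp.pow_right n
  have hfixH : ∀ h ∈ H, c * h = h * c :=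
    CoprimeFix.centralizes_of_omega hp2 hcp (hR.to_le hHR) (hNH hc) fun h hh ho =>
      hfixU h ⟨hh, ho ▸ pow_orderOf_eq_one h⟩
  have key := CoprimeFix.centralizes_of_centralizer_fixed (H := R)
    (C := R ⊓ centralizer ({c} : Set G)) inferInstance inf_le_left hc hcopR
    (fun h hh hch => ⟨hh, mem_centralizer_singleton_iff.mpr hch.symm⟩)
    (mem_centralizer_iff.mpr fun y hy => mem_centralizer_singleton_iff.mp hy.2)
    (fun h hh hhc => hfixH h (by
      refine ⟨⟨h, hh⟩, hH'self (mem_centralizer_iff.mpr fun y hy => Subtype.ext ?_), rfl⟩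
      exact mem_centralizer_iff.mp hhc _ ⟨y.2, mem_centralizer_singleton_iff.mpr
        (hfixH _ (mem_map_of_mem R.subtype hy)).symm⟩))
  exact mem_centralizer_iff.mpr fun y hy => (key y hy).symm

/-- **Main lemma.** An element of order prime to `p` normalizing a narrow `p`-group `R` and
trivial on all invariant elementary abelian sections of order at most `p²` centralizes `R`. -/
theorem centralizes_of_small_sections [Finite G] (hp2 : p ≠ 2) {R : Subgroup G}
    (hR : IsPGroup p R) (hn : Cfsg.IsNarrow p R) {c : G} (hc : c ∈ normalizer (R : Set G))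
    (hcp : (orderOf c).Coprime p)
    (htriv : ∀ M N : Subgroup G, N ≤ M → M ≤ R →
      normalizer (R : Set G) ≤ normalizer (M : Set G) →
      normalizer (R : Set G) ≤ normalizer (N : Set G) → ⁅M, M⁆ ≤ N → (∀ m ∈ M, m ^ p ∈ N) →
      N.relIndex M ≤ p ^ 2 → ∀ m ∈ M, ⁅c, m⁆ ∈ N) :
    c ∈ centralizer (R : Set G) := by
  haveI := hR.isNilpotent
  have hcopR : (orderOf c).Coprime (Nat.card R) := by
    obtain ⟨n, hn'⟩ := IsPGroup.iff_card.mp hR
    rw [hn']; exact hcp.pow_right n
  obtain ⟨U, hUR, hexp, hclass, hNU, hfin⟩ := exists_reduction hp2 hR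
  suffices hfixU : ∀ u ∈ U, c * u = u * c from hfin c hc hcp hfixU
  have hdone : (⁅U, U⁆).relIndex U ≤ p ^ 2 → ∀ u ∈ U, c * u = u * c := by
    intro hrel
    have hsec := htriv U ⁅U, U⁆ (comm_le U) hUR hNU
      (fun g hg => le_normalizer_commutator (hNU hg) (hNU hg)) le_rfl
      (fun m hm => by rw [hexp m hm]; exact one_mem _) hrel
    exact fix_of_section ((comm_le U).trans hUR) hcopR hsec
      (fix_commutator hclass hsec)
  by_cases hr : Cfsg.PRankLE p 2 R
  · have hr' : ∀ E : Subgroup G, E ≤ U → IsMulCommutative E → Nat.card E ≤ p ^ 2 := fun E hE hEc =>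
      OddOrder.Rank.prankLE_subgroup_iff.mp hr E (hE.trans hUR) ⟨hEc, fun x hx => hexp x (hE hx)⟩
    exact hdone (relIndex_commutator_le hclass hexp (hr' U le_rfl)
      (exists_small_centralizer hexp hr'))
  · obtain ⟨r, hrR, hrp, hrS⟩ := exists_narrow_element hn hr
    by_cases hrU : r ∈ U
    · have hC : Nat.card ↥(U ⊓ centralizer ({r} : Set G)) ≤ p ^ 2 :=
        hrS _ (inf_le_left.trans hUR) fun s hs =>
          ⟨hexp s hs.1, (mem_centralizer_singleton_iff.mp hs.2).symm⟩
      refine hdone (relIndex_commutator_le hclass hexp (fun hab => ?_) fun _ => ⟨r, hrU, hC⟩)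
      exact hrS U hUR fun s hs => ⟨hexp s hs,
        congrArg Subtype.val (hab.is_comm.comm ⟨r, hrU⟩ ⟨s, hs⟩)⟩
    · -- a chain with steps of order at most `p`
      have hCU : Nat.card ↥(U ⊓ centralizer ({r} : Set G)) ≤ p := by
        set C := U ⊓ centralizer ({r} : Set G) with hCdef
        set S := C ⊔ zpowers r with hSdef
        have hle : C ≤ U := hCdef ▸ inf_le_left
        have hSR : S ≤ R := sup_le (hle.trans hUR) (zpowers_le.mpr hrR)
        have hcr : ∀ s ∈ C, Commute r s := fun s hs =>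
          (mem_centralizer_singleton_iff.mp (hCdef ▸ hs : s ∈ U ⊓ centralizer _).2).symm
        have hSprop : ∀ s ∈ S, s ^ p = 1 ∧ Commute r s := by
          intro s hs
          have hnorm : C ≤ normalizer ((zpowers r : Subgroup G) : Set G) := fun a ha => by
            rw [mem_normalizer_iff]
            intro y
            have : ∀ y ∈ zpowers r, a * y * a⁻¹ = y := fun y hy => by
              obtain ⟨k, rfl⟩ := mem_zpowers_iff.mp hy
              rw [((hcr a ha).zpow_left k).symm.eq, mul_inv_cancel_right]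
            refine ⟨fun hy => by rwa [this y hy], fun hy => ?_⟩
            obtain ⟨k, hk⟩ := mem_zpowers_iff.mp hy
            refine mem_zpowers_iff.mpr ⟨k, ?_⟩
            calc r ^ k = a⁻¹ * (a * r ^ k) := by group
              _ = a⁻¹ * (r ^ k * a) := by rw [((hcr a ha).zpow_left k).symm.eq]
              _ = y := by rw [hk]; group
          rw [hSdef, ← SetLike.mem_coe, coe_mul_of_left_le_normalizer_right _ _ hnorm] at hs
          obtain ⟨a, ha, b, hb, rfl⟩ := hs
          obtain ⟨k, rfl⟩ := mem_zpowers_iff.mp hb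
          refine ⟨?_, (hcr a ha).mul_right ((Commute.refl r).zpow_right k)⟩
          rw [((hcr a ha).zpow_left k).symm.mul_pow, hexp a (hle ha), one_mul, ← zpow_natCast,
            ← zpow_mul, mul_comm, zpow_mul, zpow_natCast, hrp, one_zpow]
        have hS2 := hrS S hSR hSprop
        have hlt : C < S := lt_of_le_of_ne le_sup_left fun h =>
          hrU (hle (h ▸ (le_sup_right : zpowers r ≤ S) (mem_zpowers r)))
        have h := relIndex_mul_relIndex ⊥ C S bot_le hlt.le
        rw [relIndex_bot_left, relIndex_bot_left] at h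
        have hp_le : p ≤ C.relIndex S := by
          obtain ⟨n, hn'⟩ := (hR.to_le hSR).index (C.subgroupOf S)
          rw [relIndex, hn']
          refine Nat.le_self_pow ?_ p
          rintro rfl
          rw [pow_zero] at hn'
          exact hlt.not_ge (subgroupOf_eq_top.mp (index_eq_one.mp hn'))
        refine Nat.le_of_mul_le_mul_right ?_ hp.out.pos
        calc Nat.card C * p ≤ Nat.card C * C.relIndex S := Nat.mul_le_mul_left _ hp_le
          _ = Nat.card S := h
          _ ≤ p * p := by rw [← pow_two]; exact hS2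
      suffices ∀ (n : ℕ) (V : Subgroup G), Nat.card V = n → V ≤ U →
          normalizer (R : Set G) ≤ normalizer (V : Set G) → ∀ v ∈ V, c * v = v * c from
        this _ U rfl le_rfl hNU
      intro n
      induction n using Nat.strong_induction_on with
      | _ n ih =>
      intro V hVn hVU hNV v hv
      by_cases hV : V = ⊥
      · rw [hV, mem_bot] at hv
        rw [hv, mul_one, one_mul]
      set W := ⁅V, R⁆ with hW
      have hWV : W ≤ V := le_normalizer_iff_commutator_le_left.mp (le_normalizer.trans hNV)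
      have hWne : ¬ V ≤ W := fun h => hV (eq_bot_of_le_commutator (hVU.trans hUR) h)
      have hNW : normalizer (R : Set G) ≤ normalizer (W : Set G) :=
        fun g hg => le_normalizer_commutator (hNV hg) hg
      have hrel : W.relIndex V ≤ p ^ 2 := by
        have h1 := card_le_centralizer_mul (V := V) (W := W) (r := r)
          fun v hv => commutator_mem_commutator hv hrR
        have h2 := relIndex_mul_relIndex ⊥ W V bot_le hWV
        rw [relIndex_bot_left, relIndex_bot_left] at h2
        have h3 : Nat.card ↥(V ⊓ centralizer ({r} : Set G)) ≤ p :=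
          le_trans (card_le_of_le (inf_le_inf_right _ hVU)) hCU
        refine le_trans (Nat.le_of_mul_le_mul_left ?_ (Nat.card_pos (α := W)))
          (le_trans h3 (by nlinarith [hp.out.two_le]))
        rw [h2, mul_comm]; exact h1
      have hsec := htriv V W hWV (hVU.trans hUR) hNV hNW (commutator_mono le_rfl (hVU.trans hUR))
        (fun m hm => by rw [hexp m (hVU hm)]; exact one_mem _) hrel
      refine fix_of_section (hWV.trans (hVU.trans hUR)) hcopR hsec
        (fun w hw => ih (Nat.card W) ?_ W rfl (hWV.trans hVU) hNW w hw) v hv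
      rw [← hVn]
      exact lt_of_le_of_ne (card_le_of_le hWV) fun h => hWne (eq_of_le_of_card_ge hWV h.ge).ge

/-- A derived element of order prime to `p` of a solvable group of odd order acting on a narrow
`p`-group centralizes it. -/
theorem derived_centralizes [Finite G] (hp2 : p ≠ 2) {R A : Subgroup G} (hR : IsPGroup p R)
    (hn : Cfsg.IsNarrow p R) (hA : A ≤ normalizer (R : Set G)) [Group.IsSolvable A]
    (hodd : Odd (Nat.card A)) {c : G} (hc : c ∈ ⁅A, A⁆) (hcp : (orderOf c).Coprime p) :
    c ∈ centralizer (R : Set G) := by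
  obtain ⟨c', hc', rfl⟩ : c ∈ (commutator A).map A.subtype := by
    rwa [map_subtype_commutator]
  refine centralizes_of_small_sections hp2 hR hn (hA c'.2) hcp
    fun M N hNM _ hM hN hMN hexp hrel => ?_
  obtain ⟨Q, _, f, hQf, hQe, hQc, hf⟩ := exists_sectionHom hNM (hA.trans hM) (hA.trans hN) hMN hexp
  haveI := hQf
  exact hf c' (small_trivial_of_derived hp2 hQe (hQc ▸ hrel) hodd f hc'
    (by rwa [Subgroup.subtype_apply, Subgroup.orderOf_coe] at hcp))

/-- The prime orders of automorphisms of narrow `p`-groups other than `p` divide `p² - 1`. -/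
theorem prime_dvd_of_not_centralizes [Finite G] (hp2 : p ≠ 2) {R : Subgroup G}
    (hR : IsPGroup p R) (hn : Cfsg.IsNarrow p R) {a : G} (ha : a ∈ normalizer (R : Set G))
    (hq : (orderOf a).Prime) (hqp : orderOf a ≠ p) (hnc : a ∉ centralizer (R : Set G)) :
    orderOf a ∣ (p - 1) * (p + 1) := by
  by_contra hnd
  refine hnc (centralizes_of_small_sections hp2 hR hn ha ((Nat.coprime_primes hq hp.out).mpr hqp)
    fun M N hNM _ hM hN hMN hexp hrel => ?_)
  have hle : zpowers a ≤ normalizer (R : Set G) := zpowers_le.mpr ha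
  obtain ⟨Q, _, f, hQf, hQe, hQc, hf⟩ := exists_sectionHom hNM (hle.trans hM) (hle.trans hN) hMN hexp
  haveI := hQf
  refine hf ⟨a, mem_zpowers a⟩ ?_
  by_contra h1
  have hd : orderOf (f ⟨a, mem_zpowers a⟩) = orderOf a :=
    ((Nat.dvd_prime hq).mp ((orderOf_map_dvd f _).trans (by rw [← Subgroup.orderOf_coe]))).resolve_left
      (fun h => h1 (orderOf_eq_one_iff.mp h))
  exact hnd (hd ▸ prime_dvd_mulAut hQe (hQc ▸ hrel) (hd ▸ hq) (hd ▸ hqp))

end Cfsg.Agent.Lib.OddLocal.NarrowAut
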