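import Mathlib
import Cfsg.Prelude.Def_OddOrderLocal
import Cfsg.Agent.Lib.OddLocal.NarrowAut
import Cfsg.Agent.Lib.Cores.Basic

/-!
A solvable group of odd order all whose cores `O_q` are narrow has its derived subgroup in the
Fitting subgroup.
-/

set_option autoImplicit false

universe u

namespace Cfsg.Agent.Lib.OddLocal.DerivedFitting

open Subgroup
open scoped commutatorElement

variable {G : Type u} [Group G] [Finite G]

/-- An element is in a subgroup as soon as all its powers of prime power order are. -/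
theorem mem_of_primePow_parts {H : Subgroup G} {y : G}
    (h : ∀ q : ℕ, q.Prime → ∀ z ∈ zpowers y, (∃ k, orderOf z = q ^ k) → z ∈ H) : y ∈ H := by
  have hd : Nat.card (zpowers y) ∣ Nat.card ↥(H ⊓ zpowers y) := by
    rw [Nat.dvd_iff_prime_pow_dvd_dvd]
    intro q k hq hdvd
    haveI : Fact q.Prime := ⟨hq⟩
    obtain ⟨Q, hQ⟩ := Sylow.exists_subgroup_card_pow_prime q hdvd
    have hle : Q.map (zpowers y).subtype ≤ H ⊓ zpowers y := by
      rintro _ ⟨z, hz, rfl⟩
      refine ⟨h q hq z.1 z.2 ?_, z.2⟩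
      obtain ⟨j, -, hj⟩ := (Nat.dvd_prime_pow hq).mp (hQ ▸ Q.orderOf_dvd_natCard hz)
      exact ⟨j, by rw [Subgroup.orderOf_coe, hj]⟩
    have := card_dvd_of_le hle
    rwa [card_map_of_injective (zpowers y).subtype_injective, hQ] at this
  have heq : H ⊓ zpowers y = zpowers y :=
    eq_of_le_of_card_ge inf_le_right (Nat.le_of_dvd Nat.card_pos hd)
  exact (heq.symm ▸ mem_zpowers y : y ∈ H ⊓ zpowers y).1

/-- A `q`-element of `F(G)` lies in `O_q(G)`. -/
theorem mem_pCore_of_mem_fitting {q : ℕ} [Fact q.Prime] {y : G}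
    (hy : y ∈ Cfsg.fittingSubgroup G) (hq : ∃ k, orderOf y = q ^ k) : y ∈ Cfsg.pCore q G := by
  set F := Cfsg.fittingSubgroup G with hF
  haveI : F.Normal := by rw [hF, Cores.fittingSubgroup_eq_iSup_pCore]; infer_instance
  haveI : Group.IsNilpotent F := Cores.fittingSubgroup_isNilpotent
  let P : Sylow q F := default
  haveI hPn : (P : Subgroup F).Normal :=
    Sylow.normal_of_normalizerCondition Group.normalizerCondition_of_isNilpotent P
  haveI : (P : Subgroup F).Characteristic := P.characteristic_of_normal hPn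
  haveI := Cores.normal_map_subtype F (P : Subgroup F)
  have hle : (P : Subgroup F).map F.subtype ≤ Cfsg.pCore q G :=
    Cores.le_pCore (P.isPGroup'.map _)
  obtain ⟨k, hk⟩ := hq
  have hyp : IsPGroup q (zpowers (⟨y, hy⟩ : F)) := IsPGroup.of_card (n := k) (by
    rw [Nat.card_zpowers, ← Subgroup.orderOf_coe]; exact hk)
  obtain ⟨Q, hQ⟩ := hyp.exists_le_sylow
  haveI := Sylow.unique_of_normal P hPn
  rw [Subsingleton.elim Q P] at hQ
  exact hle (mem_map_of_mem F.subtype (hQ (mem_zpowers _)))

/-- **Main theorem.** -/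
theorem commutator_le_fitting [Group.IsSolvable G] (hodd : Odd (Nat.card G))
    (hn : ∀ q : ℕ, q.Prime → q ≠ 2 → Cfsg.IsNarrow q ↥(Cfsg.pCore q G)) :
    commutator G ≤ Cfsg.fittingSubgroup G := by
  set F := Cfsg.fittingSubgroup G with hF
  -- derived elements of order prime to `q` centralize `O_q`
  have hfix : ∀ q : ℕ, q.Prime → ∀ c ∈ commutator G, (orderOf c).Coprime q →
      ∀ y ∈ Cfsg.pCore q G, Commute c y := by
    intro q hq c hc hcq y hy
    haveI : Fact q.Prime := ⟨hq⟩
    by_cases hq2 : q = 2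
    · obtain ⟨k, hk⟩ := IsPGroup.iff_card.mp (Cores.pCore_isPGroup (G := G) q)
      have h1 := (Cfsg.pCore q G).orderOf_dvd_natCard hy
      have h2 : (orderOf y).Coprime 2 :=
        Nat.coprime_two_right.mpr (hodd.of_dvd_nat (orderOf_dvd_natCard y))
      rw [hk, hq2] at h1
      rw [orderOf_eq_one_iff.mp (Nat.eq_one_of_dvd_coprimes (h2.pow_right k) dvd_rfl h1)]
      exact Commute.one_right c
    have htop : (⊤ : Subgroup G) ≤ normalizer (Cfsg.pCore q G : Set G) := by rw [normalizer_eq_top]
    have := NarrowAut.derived_centralizes hq2 (Cores.pCore_isPGroup q) (hn q hq hq2) htop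
      (by rw [card_top]; exact hodd) (_root_.commutator_def G ▸ hc) hcq
    exact (mem_centralizer_iff.mp this y hy).symm
  intro x hx
  refine mem_of_primePow_parts fun r hr x hxy hxr => ?_
  replace hx : x ∈ commutator G := zpowers_le.mpr hx hxy
  obtain ⟨k, hk⟩ := hxr
  haveI : Fact r.Prime := ⟨hr⟩
  -- the centralizer of the cores other than `O_r`
  let M : Subgroup G := commutator G ⊓
    ⨅ q : {q : ℕ // q.Prime ∧ q ≠ r}, centralizer ((Cfsg.pCore q.1 G : Subgroup G) : Set G)
  haveI : M.Normal := by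
    haveI : (⨅ q : {q : ℕ // q.Prime ∧ q ≠ r},
        centralizer ((Cfsg.pCore q.1 G : Subgroup G) : Set G)).Normal :=
      normal_iInf_normal fun q => Subgroup.normal_centralizer
    exact normal_inf_normal _ _
  have hxM : x ∈ M := by
    refine mem_inf.mpr ⟨hx, mem_iInf.mpr fun q => mem_centralizer_iff.mpr fun y hy => ?_⟩
    refine (hfix q.1 q.2.1 x hx ?_ y hy).eq.symm
    rw [hk]
    exact Nat.Coprime.pow_left k ((Nat.coprime_primes hr q.2.1).mpr (Ne.symm q.2.2))
  -- elements of order prime to `r` are central in `M`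
  have hcen : ∀ b ∈ M, (orderOf b).Coprime r → ∀ m ∈ M, Commute b m := by
    intro b hb hbr m hm
    have hbF : b ∈ F := by
      refine Cores.centralizer_fittingSubgroup_le (mem_centralizer_iff.mpr fun y hy => ?_)
      rw [SetLike.mem_coe, Cores.fittingSubgroup_eq_iSup_pCore] at hy
      refine (mem_centralizer_singleton_iff.mp ((?_ : _ ≤ centralizer ({b} : Set G)) hy))
      refine iSup_le fun q => ?_
      intro z hz
      rw [mem_centralizer_singleton_iff]
      by_cases hqr : (q : ℕ) = r
      · exact (hfix q q.2 b hb.1 (hqr ▸ hbr) z hz).eq.symm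
      · exact mem_centralizer_iff.mp (mem_iInf.mp hb.2 ⟨q, q.2, hqr⟩) z hz
    refine mem_centralizer_singleton_iff.mp (mem_of_primePow_parts fun q hq z hz hzq => ?_)
    haveI : Fact q.Prime := ⟨hq⟩
    rw [mem_centralizer_singleton_iff]
    by_cases hqr : q = r
    · obtain ⟨j, hj⟩ := hzq
      have hd : orderOf z ∣ orderOf b := by
        rw [← Nat.card_zpowers b]; exact (zpowers b).orderOf_dvd_natCard hz
      have : orderOf z = 1 := Nat.eq_one_of_dvd_coprimes (hbr.pow_right j) hd (by rw [hj, hqr])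
      rw [orderOf_eq_one_iff.mp this, one_mul, mul_one]
    · exact mem_centralizer_iff.mp (mem_iInf.mp hm.2 ⟨q, hq, hqr⟩) z
        (mem_pCore_of_mem_fitting (zpowers_le.mpr hbF hz) hzq)
  haveI : Group.IsNilpotent (M ⧸ Subgroup.center M) := by
    refine IsPGroup.isNilpotent (p := r) fun q => ?_
    induction q using QuotientGroup.induction_on with | _ m
    obtain ⟨a, e, he, hm⟩ := Nat.exists_eq_pow_mul_and_not_dvd (orderOf_pos m).ne' r hr.ne_one
    refine ⟨a, ?_⟩
    rw [← QuotientGroup.mk_pow, QuotientGroup.eq_one_iff, Subgroup.mem_center_iff]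
    intro m'
    refine Subtype.ext (hcen _ (m ^ r ^ a).2 ?_ m' m'.2).eq.symm
    rw [Subgroup.orderOf_coe, orderOf_pow' _ (pow_ne_zero _ hr.ne_zero), hm]
    rw [Nat.gcd_mul_right_left, Nat.mul_div_cancel_left _ (pow_pos hr.pos a)]
    exact (hr.coprime_iff_not_dvd.mpr he).symm
  exact Cores.le_fittingSubgroup (N := M) (Group.of_quotient_center_nilpotent inferInstance) hxM

end Cfsg.Agent.Lib.OddLocal.DerivedFitting
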