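import Mathlib
import Cfsg.Agent.Lib.OddLocal.GL2Odd

/-!
Two quadratic unipotent elements generating a group of odd order generate, in a finite ring of odd
prime characteristic `p`, a group of `p`-elements.
-/

set_option autoImplicit false

namespace Cfsg.Agent.Lib.OddLocal.QuadPair

open Matrix Subring

universe u

variable {E : Type u} [Ring E]

theorem mul_formula {a b z : E} (ha : a * a = 0) (hb : b * b = 0) (hz : a * b + b * a = z)
    (hc : ∀ e : E, z * e = e * z) {r₁ r₂ r₃ r₄ s₁ s₂ s₃ s₄ : E}
    (hs : ∀ s ∈ [s₁, s₂, s₃, s₄], ∀ e : E, s * e = e * s) :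
    (r₁ * a + r₂ * b + r₃ * (a * b) + r₄ * (b * a)) *
        (s₁ * a + s₂ * b + s₃ * (a * b) + s₄ * (b * a)) =
      z * (r₁ * s₄ + r₃ * s₁) * a + z * (r₂ * s₃ + r₄ * s₂) * b +
        (r₁ * s₂ + z * (r₃ * s₃)) * (a * b) + (r₂ * s₁ + z * (r₄ * s₄)) * (b * a) := by
  simp only [List.mem_cons, List.not_mem_nil, or_false, forall_eq_or_imp, forall_eq] at hs
  obtain ⟨h1, h2, h3, h4⟩ := hs
  have haba : a * (b * a) = z * a := by
    rw [hc, ← hz, mul_add, ← mul_assoc a a b, ha, zero_mul, zero_add]
  have hbab : b * (a * b) = z * b := by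
    rw [hc, ← hz, mul_add, ← mul_assoc b b a, hb, zero_mul, add_zero]
  have t1 : ∀ (s e f g : E), (∀ e : E, s * e = e * s) → g * e * (s * f) = g * s * (e * f) := by
    intro s e f g hs'
    rw [mul_assoc g e, ← mul_assoc e s f, ← hs' e, mul_assoc s e f, ← mul_assoc g s]
  have u1 : a * (a * b) = 0 := by rw [← mul_assoc, ha, zero_mul]
  have u2 : b * (b * a) = 0 := by rw [← mul_assoc, hb, zero_mul]
  have u3 : a * b * a = z * a := by rw [mul_assoc, haba]
  have u4 : a * b * b = 0 := by rw [mul_assoc, hb, mul_zero]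
  have u5 : a * b * (a * b) = z * (a * b) := by rw [← mul_assoc, u3, mul_assoc]
  have u6 : a * b * (b * a) = 0 := by rw [← mul_assoc, u4, zero_mul]
  have u7 : b * a * a = 0 := by rw [mul_assoc, ha, mul_zero]
  have u8 : b * a * b = z * b := by rw [mul_assoc, hbab]
  have u9 : b * a * (a * b) = 0 := by rw [← mul_assoc, u7, zero_mul]
  have u10 : b * a * (b * a) = z * (b * a) := by rw [← mul_assoc, u8, mul_assoc]
  simp only [add_mul, mul_add]
  rw [t1 s₁ a a r₁ h1, t1 s₂ a b r₁ h2, t1 s₃ a (a * b) r₁ h3, t1 s₄ a (b * a) r₁ h4,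
    t1 s₁ b a r₂ h1, t1 s₂ b b r₂ h2, t1 s₃ b (a * b) r₂ h3, t1 s₄ b (b * a) r₂ h4,
    t1 s₁ (a * b) a r₃ h1, t1 s₂ (a * b) b r₃ h2, t1 s₃ (a * b) (a * b) r₃ h3,
    t1 s₄ (a * b) (b * a) r₃ h4,
    t1 s₁ (b * a) a r₄ h1, t1 s₂ (b * a) b r₄ h2, t1 s₃ (b * a) (a * b) r₄ h3,
    t1 s₄ (b * a) (b * a) r₄ h4,
    ha, hb, haba, hbab, u1, u2, u3, u4, u5, u6, u7, u8, u9, u10]
  have hzr : ∀ r e : E, r * (z * e) = z * r * e := fun r e => by rw [← mul_assoc, ← hc r]
  simp only [mul_zero, hzr, mul_assoc, zero_add, add_zero]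
  abel

/-- The four "matrix units" built from `a` and `b`, with common multiplier `z`. -/
def unit (a b z : E) : Fin 2 → Fin 2 → E := ![![a * b, z * a], ![b, b * a]]

theorem unit_mul {a b z : E} (ha : a * a = 0) (hb : b * b = 0) (hz : a * b + b * a = z)
    (hc : ∀ e : E, z * e = e * z) (i j k l : Fin 2) :
    unit a b z i j * unit a b z k l = if j = k then z * unit a b z i l else 0 := by
  have haba : a * (b * a) = z * a := by
    rw [hc, ← hz, mul_add, ← mul_assoc a a b, ha, zero_mul, zero_add]
  have hbab : b * (a * b) = z * b := by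
    rw [hc, ← hz, mul_add, ← mul_assoc b b a, hb, zero_mul, add_zero]
  have l0 : ∀ e : E, a * (a * e) = 0 := fun e => by rw [← mul_assoc, ha, zero_mul]
  have l0' : ∀ e : E, b * (b * e) = 0 := fun e => by rw [← mul_assoc, hb, zero_mul]
  have l1 : ∀ e : E, a * (b * (a * e)) = z * (a * e) := fun e => by
    rw [← mul_assoc, ← mul_assoc, mul_assoc a b a, haba, mul_assoc]
  have l2 : ∀ e : E, b * (a * (b * e)) = z * (b * e) := fun e => by
    rw [← mul_assoc, ← mul_assoc, mul_assoc b a b, hbab, mul_assoc]
  have cz : ∀ x e : E, x * (z * e) = z * (x * e) := fun x e => by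
    rw [← mul_assoc, ← hc x, mul_assoc]
  fin_cases i <;> fin_cases j <;> fin_cases k <;> fin_cases l <;>
    simp [unit, mul_assoc, cz, ha, hb, l0, l0', l1, l2, haba, hbab]

/-- Trace form used to read off matrix entries. -/
def entry (a b z : E) (u : E) (i j : Fin 2) : E :=
  z * ∑ k : Fin 2, unit a b z k i * u * unit a b z j k

variable {a b z : E} (ha : a * a = 0) (hb : b * b = 0) (hz : a * b + b * a = z)
  (hc : ∀ e : E, z * e = e * z)

include ha hb hz hc

theorem entry_central (hgen : closure ({a, b} : Set E) = ⊤) (u : E) (i j : Fin 2) :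
    entry a b z u i j ∈ Subring.center E := by
  have cz : ∀ x e : E, x * (z * e) = z * (x * e) := fun x e => by
    rw [← mul_assoc, ← hc x, mul_assoc]
  -- the sum commutes with every unit
  have hsum : ∀ s t : Fin 2, unit a b z s t * (∑ k : Fin 2, unit a b z k i * u * unit a b z j k) =
      (∑ k : Fin 2, unit a b z k i * u * unit a b z j k) * unit a b z s t := by
    intro s t
    calc _ = z * (unit a b z s i * u * unit a b z j t) := by
          rw [Finset.mul_sum, Finset.sum_eq_single t]
          · rw [← mul_assoc, ← mul_assoc, unit_mul ha hb hz hc, if_pos rfl]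
            simp only [mul_assoc]
          · intro k _ hk
            rw [← mul_assoc, ← mul_assoc, unit_mul ha hb hz hc, if_neg (Ne.symm hk), zero_mul, zero_mul]
          · simp
      _ = _ := by
          rw [Finset.sum_mul, Finset.sum_eq_single s]
          · rw [mul_assoc (unit a b z s i * u), unit_mul ha hb hz hc, if_pos rfl, cz]
          · intro k _ hk
            rw [mul_assoc (unit a b z k i * u), unit_mul ha hb hz hc, if_neg hk, mul_zero]
          · simp
  rw [Subring.mem_center_iff]
  intro g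
  have hg : g ∈ closure ({a, b} : Set E) := hgen ▸ Subring.mem_top g
  induction hg using Subring.closure_induction with
  | mem x hx =>
    rcases hx with rfl | rfl
    · have h := hsum 0 1
      rw [show unit x b z 0 1 = z * x from rfl] at h
      rw [entry]
      calc _ = z * x * (∑ k : Fin 2, unit x b z k i * u * unit x b z j k) := by rw [cz, mul_assoc]
        _ = _ := by rw [h, cz, ← mul_assoc]
    · have h := hsum 1 0
      rw [show unit a x z 1 0 = x from rfl] at h
      rw [entry, cz, h, mul_assoc]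
  | zero => simp
  | one => simp
  | add x y _ _ hx hy => rw [add_mul, mul_add, hx, hy]
  | neg x _ hx => rw [neg_mul, mul_neg, hx]
  | mul x y _ _ hx hy => rw [mul_assoc, hy, ← mul_assoc, hx, mul_assoc]

theorem sum_unit : unit a b z 0 0 + unit a b z 1 1 = z := by
  simp [unit, hz]

theorem entry_mul (u v : E) (i l : Fin 2) :
    ∑ j : Fin 2, entry a b z u i j * entry a b z v j l = z ^ 3 * entry a b z (u * v) i l := by
  have cz : ∀ x e : E, x * (z * e) = z * (x * e) := fun x e => by
    rw [← mul_assoc, ← hc x, mul_assoc]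
  have key : ∀ j : Fin 2, (∑ k : Fin 2, unit a b z k i * u * unit a b z j k) *
      (∑ m : Fin 2, unit a b z m j * v * unit a b z l m) =
      z * ∑ k : Fin 2, unit a b z k i * u * unit a b z j j * v * unit a b z l k := by
    intro j
    rw [Finset.sum_mul, Finset.mul_sum]
    refine Finset.sum_congr rfl fun k _ => ?_
    rw [Finset.mul_sum, Finset.sum_eq_single k]
    · rw [mul_assoc (unit a b z k i * u), ← mul_assoc (unit a b z j k),
        ← mul_assoc (unit a b z j k), unit_mul ha hb hz hc, if_pos rfl]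
      simp only [mul_assoc, cz]
    · intro m _ hm
      rw [mul_assoc (unit a b z k i * u), ← mul_assoc (unit a b z j k),
        ← mul_assoc (unit a b z j k), unit_mul ha hb hz hc, if_neg (Ne.symm hm)]
      simp
    · simp
  have h1 : ∀ j : Fin 2, entry a b z u i j * entry a b z v j l =
      z ^ 3 * ∑ k : Fin 2, unit a b z k i * u * unit a b z j j * v * unit a b z l k := by
    intro j
    rw [entry, entry, mul_assoc, cz, key, pow_three]
    simp only [mul_assoc]
  simp only [h1, ← Finset.mul_sum]
  rw [Finset.sum_comm, entry, Finset.mul_sum (a := z)]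
  congr 1
  refine Finset.sum_congr rfl fun k _ => ?_
  rw [Fin.sum_univ_two, ← add_mul, ← add_mul, ← mul_add, sum_unit ha hb hz hc]
  simp only [mul_assoc, cz]

theorem entry_one (i l : Fin 2) : entry a b z 1 i l = if i = l then z ^ 3 else 0 := by
  simp only [entry, mul_one, unit_mul ha hb hz hc]
  by_cases h : i = l
  · subst h
    simp only [if_true, Fin.sum_univ_two, ← mul_add, sum_unit ha hb hz hc, pow_three]
  · simp [h]

omit ha hb hc

include ha hb hc in
theorem entry_a : entry a b z a 0 1 * z = z ^ 3 * z ∧ entry a b z a 0 0 * z = 0 ∧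
    entry a b z a 1 0 * z = 0 ∧ entry a b z a 1 1 * z = 0 := by
  have key : ∀ i j, entry a b z a i j * z =
      z * ∑ k : Fin 2, unit a b z k i * unit a b z 0 1 * unit a b z j k := by
    intro i j
    rw [entry, mul_assoc, Finset.sum_mul]
    congr 1
    refine Finset.sum_congr rfl fun k _ => ?_
    rw [show unit a b z 0 1 = z * a from rfl, ← hc]
    simp only [← mul_assoc]
    rw [hc (unit a b z k i)]
  simp only [key, unit_mul ha hb hz hc, Fin.isValue, ite_mul, zero_mul, mul_assoc, mul_ite, mul_zero,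
    one_ne_zero, zero_ne_one, ↓reduceIte, Finset.sum_const_zero, mul_zero, and_self, and_true,
    ← Finset.mul_sum, Fin.sum_univ_two, sum_unit ha hb hz hc]
  rw [pow_three]
  simp only [mul_assoc]

include ha hb hc in
theorem entry_b : entry a b z b 1 0 = z ^ 4 ∧ entry a b z b 0 0 = 0 ∧
    entry a b z b 0 1 = 0 ∧ entry a b z b 1 1 = 0 := by
  have key : ∀ i j, entry a b z b i j =
      z * ∑ k : Fin 2, unit a b z k i * unit a b z 1 0 * unit a b z j k := fun i j => rfl
  simp only [key, unit_mul ha hb hz hc, Fin.isValue, ite_mul, zero_mul, mul_assoc, mul_ite, mul_zero,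
    one_ne_zero, zero_ne_one, ↓reduceIte, Finset.sum_const_zero, mul_zero, and_self, and_true,
    ← Finset.mul_sum, Fin.sum_univ_two, sum_unit ha hb hz hc]
  rw [pow_succ', pow_three]

omit hz

theorem isPGroup_image_aux [Finite E] (p : ℕ) [Fact p.Prime] (hp2 : p ≠ 2) (hchar : (p : E) = 0)
    {a b : E} (ha : a * a = 0) (hb : b * b = 0) (hgen : Subring.closure ({a, b} : Set E) = ⊤)
    {L : Type*} [Group L] [Finite L] (hodd : Odd (Nat.card L)) {x y : L}
    (hL : Subgroup.closure ({x, y} : Set L) = ⊤) (ρ : L →* E) (hx : ρ x = 1 + a) (hy : ρ y = 1 + b) :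
    ∀ g : L, ∃ k : ℕ, ρ g ^ p ^ k = 1 := by
  obtain ⟨z, hz⟩ : ∃ z, a * b + b * a = z := ⟨_, rfl⟩
  have hc : ∀ e : E, z * e = e * z := by
    intro e
    have he : e ∈ Subring.closure ({a, b} : Set E) := hgen ▸ Subring.mem_top e
    induction he using Subring.closure_induction with
    | mem w hw =>
      rcases hw with rfl | rfl
      · rw [← hz, add_mul, mul_add, mul_assoc b, ha, mul_zero, add_zero, ← mul_assoc w w, ha,
          zero_mul, zero_add, mul_assoc]
      · rw [← hz, add_mul, mul_add, mul_assoc a, hb, mul_zero, zero_add, ← mul_assoc w w, hb,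
          zero_mul, add_zero, mul_assoc]
    | zero => simp
    | one => simp
    | add x y _ _ hx hy => rw [mul_add, add_mul, hx, hy]
    | neg x _ hx => rw [mul_neg, neg_mul, hx]
    | mul x y _ _ hx hy => rw [← mul_assoc, hx, mul_assoc, hy, mul_assoc]
  have hL' : ∀ g : L, g ∈ Submonoid.closure ({x, y} : Set L) := fun g => by
    rw [← Subgroup.closure_toSubmonoid_of_finite, hL]; trivial
  have hnil : IsNilpotent z := by
    by_contra hnn
    let zC : Subring.center E := ⟨z, Subring.mem_center_iff.mpr fun g => (hc g).symm⟩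
    have hnC : ¬ IsNilpotent zC := fun ⟨n, hn⟩ => hnn ⟨n, congrArg Subtype.val hn⟩
    rw [nilpotent_iff_mem_prime] at hnC
    push_neg at hnC
    obtain ⟨P, hP, hzP⟩ := hnC
    haveI := hP
    let K := FractionRing (Subring.center E ⧸ P)
    let f : Subring.center E →+* K :=
      (algebraMap (Subring.center E ⧸ P) K).comp (Ideal.Quotient.mk P)
    have hfz : f zC ≠ 0 := fun h => hzP (Ideal.Quotient.eq_zero_iff_mem.mp
      (IsFractionRing.injective (Subring.center E ⧸ P) K (by rw [map_zero]; exact h)))
    haveI : CharP K p := (CharP.charP_iff_prime_eq_zero Fact.out).mpr (by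
      rw [← map_natCast f, show (p : Subring.center E) = 0 from Subtype.ext (by push_cast; exact hchar),
        map_zero])
    let ent : E → Fin 2 → Fin 2 → Subring.center E := fun u i j =>
      ⟨entry a b z u i j, entry_central ha hb hz hc hgen u i j⟩
    let Ψ : E →* Matrix (Fin 2) (Fin 2) K :=
      { toFun := fun u => Matrix.of fun i j => f (ent u i j) / f zC ^ 3
        map_one' := by
          ext i j
          have : ent 1 i j = if i = j then zC ^ 3 else 0 := by
            apply Subtype.ext
            change entry a b z 1 i j = _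
            rw [entry_one ha hb hz hc]
            split_ifs <;> simp [zC]
          simp only [Matrix.of_apply, this, Matrix.one_apply]
          split_ifs <;> simp [hfz]
        map_mul' := by
          intro u v
          ext i l
          have h1 : ∑ j, ent u i j * ent v j l = zC ^ 3 * ent (u * v) i l := by
            apply Subtype.ext
            push_cast
            exact entry_mul ha hb hz hc u v i l
          have h2 := congrArg f h1
          simp only [map_sum, map_mul, map_pow] at h2
          simp only [Matrix.of_apply, Matrix.mul_apply, div_mul_div_comm, ← Finset.sum_div]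
          rw [h2, mul_div_mul_left _ _ (pow_ne_zero 3 hfz)] }
    have hscale : ∀ (u : E) (i j : Fin 2) (c : Subring.center E), entry a b z u i j * z = c * z →
        Ψ u i j = f c / f zC ^ 3 := by
      intro u i j c h
      have h1 : ent u i j * zC = c * zC := Subtype.ext h
      have h2 := congrArg f h1
      rw [map_mul, map_mul] at h2
      change f (ent u i j) / _ = _
      rw [mul_right_cancel₀ hfz h2]
    obtain ⟨a01, a00, a10, a11⟩ := entry_a ha hb hz hc
    obtain ⟨b10, b00, b01, b11⟩ := entry_b ha hb hz hc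
    have Ψ1 : ∀ i j, f (ent 1 i j) / f zC ^ 3 = (1 : Matrix (Fin 2) (Fin 2) K) i j := fun i j =>
      congrFun (congrFun Ψ.map_one i) j
    have hadd : ∀ u i j, Ψ (1 + u) i j = (1 : Matrix (Fin 2) (Fin 2) K) i j + Ψ u i j := by
      intro u i j
      have : ent (1 + u) i j = ent 1 i j + ent u i j := by
        apply Subtype.ext
        change entry a b z (1 + u) i j = entry a b z 1 i j + entry a b z u i j
        simp only [entry, mul_add, add_mul, Finset.sum_add_distrib]
      change f (ent (1 + u) i j) / _ = _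
      rw [this, map_add, add_div, Ψ1]
      rfl
    have hΨx : Ψ (ρ x) = !![1, 1; 0, 1] := by
      rw [hx]
      ext i j
      rw [hadd]
      fin_cases i <;> fin_cases j
      · simp [hscale a 0 0 0 (by simpa using a00)]
      · simp [hscale a 0 1 (zC ^ 3) (by simpa [zC] using a01), hfz]
      · simp [hscale a 1 0 0 (by simpa using a10)]
      · simp [hscale a 1 1 0 (by simpa using a11)]
    have hΨy : Ψ (ρ y) = !![1, 0; f zC, 1] := by
      rw [hy]
      ext i j
      rw [hadd]
      fin_cases i <;> fin_cases j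
      · simp [hscale b 0 0 0 (by simp [b00])]
      · simp [hscale b 0 1 0 (by simp [b01])]
      · simp [hscale b 1 0 (zC ^ 4) (by simp [b10, zC]), hfz, pow_succ']
      · simp [hscale b 1 1 0 (by simp [b11])]
    let θ := (Ψ.comp ρ).toHomUnits
    let φ : L ⧸ θ.ker →* Matrix (Fin 2) (Fin 2) K :=
      (Units.coeHom _).comp (QuotientGroup.kerLift θ)
    have hoX : Odd (Nat.card (L ⧸ θ.ker)) :=
      hodd.of_dvd_nat (Subgroup.card_quotient_dvd_card θ.ker)
    have hφ : ∀ g : L, φ (QuotientGroup.mk g) = Ψ (ρ g) := fun g => rfl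
    have hdetθ : ∀ g : L, (Ψ (ρ g)).det = 1 := by
      intro g
      induction hL' g using Submonoid.closure_induction with
      | mem w hw =>
        rcases hw with rfl | rfl
        · rw [hΨx]; simp [det_fin_two]
        · rw [hΨy]; simp [det_fin_two]
      | one => simp
      | mul x y _ _ hx hy => rw [map_mul, map_mul, det_mul, hx, hy, mul_one]
    have hdet : ∀ g, (φ g).det = 1 := by
      intro g
      obtain ⟨w, rfl⟩ := QuotientGroup.mk_surjective g
      exact hdetθ w
    have hu1 : (QuotientGroup.mk x : L ⧸ θ.ker) ≠ 1 := by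
      intro h
      have := congrArg φ h
      rw [map_one, hφ] at this
      rw [hΨx] at this
      simpa using congrFun (congrFun this 0) 1
    have hinj : Function.Injective φ := fun a b hab =>
      QuotientGroup.kerLift_injective θ (Units.ext hab)
    have hup : (QuotientGroup.mk x : L ⧸ θ.ker) ^ p = 1 := by
      rw [GL2Odd.pow_eq_one_iff_trace p hp2 hoX φ hinj hdet, hφ]
      rw [hΨx, trace_fin_two]; norm_num
    have hwp : (QuotientGroup.mk y : L ⧸ θ.ker) ^ p = 1 := by
      rw [GL2Odd.pow_eq_one_iff_trace p hp2 hoX φ hinj hdet, hφ]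
      rw [hΨy, trace_fin_two]; norm_num
    have hfix := GL2Odd.unipotent_fix_common p hp2 hoX φ hinj hdet hu1 hup hwp
      (v := ![1, 0]) (by
        rw [hφ]
        rw [hΨx]
        ext i; fin_cases i <;> simp [mulVec, dotProduct, Fin.sum_univ_two])
    rw [hφ] at hfix
    rw [hΨy] at hfix
    have := congrFun hfix 1
    simp [mulVec, dotProduct, Fin.sum_univ_two] at this
    exact hfz this
  -- every element is one plus a nilpotent element
  have hmem : ∀ g : L, ∃ r₁ r₂ r₃ r₄ : E, (∀ s ∈ [r₁, r₂, r₃, r₄], ∀ e : E, s * e = e * s) ∧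
      ρ g = 1 + (r₁ * a + r₂ * b + r₃ * (a * b) + r₄ * (b * a)) := by
    intro g
    induction hL' g using Submonoid.closure_induction with
    | mem w hw =>
      rcases hw with rfl | rfl
      · exact ⟨1, 0, 0, 0, by simp, by simp [hx]⟩
      · exact ⟨0, 1, 0, 0, by simp, by simp [hy]⟩
    | one => exact ⟨0, 0, 0, 0, by simp, by simp⟩
    | mul g h _ _ hg hh =>
      obtain ⟨r₁, r₂, r₃, r₄, hr, hg⟩ := hg
      obtain ⟨s₁, s₂, s₃, s₄, hs, hh⟩ := hh
      refine ⟨r₁ + s₁ + z * (r₁ * s₄ + r₃ * s₁), r₂ + s₂ + z * (r₂ * s₃ + r₄ * s₂),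
        r₃ + s₃ + (r₁ * s₂ + z * (r₃ * s₃)), r₄ + s₄ + (r₂ * s₁ + z * (r₄ * s₄)), ?_, ?_⟩
      · simp only [List.mem_cons, List.not_mem_nil, or_false, forall_eq_or_imp, forall_eq] at hr hs ⊢
        obtain ⟨hr1, hr2, hr3, hr4⟩ := hr
        obtain ⟨hs1, hs2, hs3, hs4⟩ := hs
        have hmul : ∀ {c d : E}, (∀ e, c * e = e * c) → (∀ e, d * e = e * d) →
            ∀ e : E, c * d * e = e * (c * d) := fun hc' hd e => by
          rw [mul_assoc, hd, ← mul_assoc, hc', mul_assoc]
        have hadd : ∀ {c d : E}, (∀ e, c * e = e * c) → (∀ e, d * e = e * d) →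
            ∀ e : E, (c + d) * e = e * (c + d) := fun hc' hd e => by
          rw [add_mul, mul_add, hc', hd]
        exact ⟨hadd (hadd hr1 hs1) (hmul hc (hadd (hmul hr1 hs4) (hmul hr3 hs1))),
          hadd (hadd hr2 hs2) (hmul hc (hadd (hmul hr2 hs3) (hmul hr4 hs2))),
          hadd (hadd hr3 hs3) (hadd (hmul hr1 hs2) (hmul hc (hmul hr3 hs3))),
          hadd (hadd hr4 hs4) (hadd (hmul hr2 hs1) (hmul hc (hmul hr4 hs4)))⟩
      · rw [map_mul, hg, hh, mul_add, mul_one, add_mul (1 : E), one_mul,
          mul_formula ha hb hz hc hs]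
        simp only [add_mul]
        abel
  intro g
  obtain ⟨r₁, r₂, r₃, r₄, hr, hg⟩ := hmem g
  obtain ⟨e, he⟩ : ∃ e, e = r₁ * a + r₂ * b + r₃ * (a * b) + r₄ * (b * a) := ⟨_, rfl⟩
  obtain ⟨f, hf⟩ : ∃ f, e * e = z * f := by
    simp only [List.mem_cons, List.not_mem_nil, or_false, forall_eq_or_imp, forall_eq] at hr
    refine ⟨(r₁ * r₄ + r₃ * r₁) * a + (r₂ * r₃ + r₄ * r₂) * b + r₃ * r₃ * (a * b) +
      r₄ * r₄ * (b * a) + r₁ * r₂, ?_⟩
    rw [he, mul_formula ha hb hz hc (by simpa using hr), ← hr.1 r₂]
    have : z * (r₁ * r₂) = r₁ * r₂ * (a * b) + r₁ * r₂ * (b * a) := by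
      rw [← mul_add, hz, hc]
    simp only [mul_add, add_mul, this, mul_assoc]
    abel
  obtain ⟨n, hn⟩ := hnil
  have he0 : e ^ (2 * n) = 0 := by
    rw [pow_mul, pow_two, hf, (show Commute z f from hc f).mul_pow, hn, zero_mul]
  refine ⟨2 * n, ?_⟩
  rw [hg, ← he]
  obtain ⟨r, hr'⟩ := (Commute.one_left e).exists_add_pow_prime_pow_eq (Fact.out : p.Prime) (2 * n)
  rw [hr', one_pow, hchar, zero_mul, zero_mul, zero_mul, add_zero,
    pow_eq_zero_of_le (le_of_lt (Nat.lt_pow_self (Fact.out : p.Prime).one_lt)) he0, add_zero]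

/-- Two quadratic unipotent elements generating a group of odd order generate `p`-elements. -/
theorem isPGroup_image [Finite E] (p : ℕ) [Fact p.Prime] (hp2 : p ≠ 2) (hchar : (p : E) = 0)
    {L : Type*} [Group L] [Finite L] (hodd : Odd (Nat.card L)) {x y : L}
    (hL : Subgroup.closure ({x, y} : Set L) = ⊤) (ρ : L →* E)
    (hx : (ρ x - 1) * (ρ x - 1) = 0) (hy : (ρ y - 1) * (ρ y - 1) = 0) :
    ∀ g : L, ∃ k : ℕ, ρ g ^ p ^ k = 1 := by
  let S : Subring E := Subring.closure {ρ x - 1, ρ y - 1}
  have hmem : ∀ g : L, ρ g ∈ S := by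
    intro g
    have hg : g ∈ Submonoid.closure ({x, y} : Set L) := by
      rw [← Subgroup.closure_toSubmonoid_of_finite, hL]; trivial
    induction hg using Submonoid.closure_induction with
    | mem w hw =>
      rw [show ρ w = (ρ w - 1) + 1 by abel]
      refine add_mem (Subring.subset_closure ?_) (one_mem _)
      rcases hw with rfl | rfl <;> simp
    | one => simp
    | mul g h _ _ hg hh => rw [map_mul]; exact mul_mem hg hh
  let a' : S := ⟨ρ x - 1, Subring.subset_closure (by simp)⟩
  let b' : S := ⟨ρ y - 1, Subring.subset_closure (by simp)⟩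
  have hgen : Subring.closure ({a', b'} : Set S) = ⊤ := by
    have : ({a', b'} : Set S) = Subtype.val ⁻¹' ({ρ x - 1, ρ y - 1} : Set E) := by
      ext w; simp [a', b', Subtype.ext_iff]
    rw [this, eq_top_iff]
    rintro ⟨w, hw⟩ -
    induction hw using Subring.closure_induction with
    | mem v hv => exact Subring.subset_closure hv
    | zero => exact Subring.zero_mem _
    | one => exact Subring.one_mem _
    | add v v' _ _ h h' => exact Subring.add_mem _ h h'
    | neg v _ h => exact Subring.neg_mem _ h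
    | mul v v' _ _ h h' => exact Subring.mul_mem _ h h' 
  intro g
  obtain ⟨k, hk⟩ := isPGroup_image_aux (E := S) (a := a') (b := b') p hp2
    (Subtype.ext (by push_cast; exact hchar))
    (Subtype.ext hx) (Subtype.ext hy) hgen hodd hL
    (ρ.codRestrict S hmem) (Subtype.ext (by simp [a'])) (Subtype.ext (by simp [b'])) g
  exact ⟨k, congrArg Subtype.val hk⟩

end Cfsg.Agent.Lib.OddLocal.QuadPair
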