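import Mathlib
import Cfsg.Prelude.Def_OddOrderLocal
import Cfsg.Agent.Lib.OddLocal.CoprimeFix
import Cfsg.Agent.Lib.OddLocal.QuadPair
import Cfsg.Agent.Lib.Involutions.BaerSuzuki
import Cfsg.Agent.Lib.PGroups.Frattini
import Cfsg.Agent.Lib.Cores.Basic

/-!
`p`-stability of finite groups of odd order (BG Appendix A): an element acting quadratically on a
normal `p`-subgroup `P` lies in `O_p(G / C_G(P))`.  No solvability is needed.
-/

set_option autoImplicit false

namespace Cfsg.Agent.Lib.OddLocal.PStable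

open Subgroup
open scoped IsMulCommutative commutatorElement

universe u

variable {G : Type u} [Group G] [Finite G]

/-- `x` acts quadratically on `P`: it fixes every `[x, u]`. -/
def IsQuad (x : G) (P : Subgroup G) : Prop :=
  ∀ u ∈ P, x * (x * u * x⁻¹ * u⁻¹) = (x * u * x⁻¹ * u⁻¹) * x

theorem isQuad_mono {x : G} {P Q : Subgroup G} (h : IsQuad x P) (hQ : Q ≤ P) : IsQuad x Q :=
  fun u hu => h u (hQ hu)

theorem isQuad_conj {x : G} {P : Subgroup G} [P.Normal] (h : IsQuad x P) (g : G) :
    IsQuad (g * x * g⁻¹) P := by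
  intro u hu
  have hu' : g⁻¹ * u * g ∈ P := by simpa using Normal.conj_mem inferInstance u hu g⁻¹
  have e : ∀ v : G, MulAut.conj g v = g * v * g⁻¹ := fun v => rfl
  have e2 : MulAut.conj g (g⁻¹ * u * g) = u := by rw [e]; group
  have := congrArg (MulAut.conj g) (h _ hu')
  simp only [map_mul (MulAut.conj g), map_inv (MulAut.conj g)] at this
  rw [← map_inv (MulAut.conj g) g, ← map_mul, ← map_mul, e2, e x] at this
  exact this

/-- Conjugation action on the Frattini quotient of a normal subgroup, as additive endomorphisms. -/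
def frattiniRep (P : Subgroup G) [P.Normal] :
    G →* AddMonoid.End (Additive (↥P ⧸ frattini ↥P)) where
  toFun g := MonoidHom.toAdditive
    (QuotientGroup.map (frattini ↥P) (frattini ↥P)
      ((MulAut.conjNormal g : MulAut ↥P).toMonoidHom)
      (frattini_le_comap_frattini_of_surjective (MulEquiv.surjective _)))
  map_one' := by
    refine DFunLike.ext _ _ fun v => ?_
    obtain ⟨w, rfl⟩ := Additive.ofMul.surjective v
    induction w using QuotientGroup.induction_on with
    | H w =>
      change Additive.ofMul ((MulAut.conjNormal (1 : G) w : ↥P) : ↥P ⧸ frattini ↥P) = _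
      rw [map_one]
      rfl
  map_mul' a b := by
    refine DFunLike.ext _ _ fun v => ?_
    obtain ⟨w, rfl⟩ := Additive.ofMul.surjective v
    induction w using QuotientGroup.induction_on with
    | H w => simp; rfl

theorem frattiniRep_apply (P : Subgroup G) [P.Normal] (g : G) (u : P) :
    frattiniRep P g (Additive.ofMul (u : ↥P ⧸ frattini ↥P)) =
      Additive.ofMul ((MulAut.conjNormal g u : ↥P) : ↥P ⧸ frattini ↥P) := rfl

variable {p : ℕ} [hp : Fact p.Prime]

/-- In a two-quadratic-generated subgroup, elements of order prime to `p` centralize `P`. -/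
theorem centralizes_of_quad_pair (hodd : Odd (Nat.card G)) (hp2 : p ≠ 2) {x y : G} :
    ∀ (P : Subgroup G) [P.Normal], IsPGroup p P → IsQuad x P → IsQuad y P →
      ∀ g ∈ closure ({x, y} : Set G), (orderOf g).Coprime p → ∀ u ∈ P, g * u = u * g := by
  suffices ∀ (N : ℕ) (P : Subgroup G) [P.Normal], Nat.card P = N → IsPGroup p P →
      IsQuad x P → IsQuad y P → ∀ g ∈ closure ({x, y} : Set G), (orderOf g).Coprime p →
      ∀ u ∈ P, g * u = u * g from fun P _ => this _ P rfl
  intro N
  induction N using Nat.strong_induction_on with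
  | _ N ih =>
  intro P _ hN hP hx hy g hg hcop u hu
  rcases eq_or_ne P ⊥ with hbot | hbot
  · rw [hbot, mem_bot] at hu
    simp [hu]
  haveI : Nontrivial P := (nontrivial_iff_ne_bot P).mpr hbot
  obtain ⟨Q, hQ⟩ : ∃ Q : Subgroup G, Q = (frattini ↥P).map P.subtype := ⟨_, rfl⟩
  haveI : Q.Normal := hQ ▸ ConjAct.normal_of_characteristic_of_normal
  have hQP : Q ≤ P := hQ ▸ map_subtype_le _
  have hQlt : Nat.card Q < N := by
    rw [← hN, hQ, card_map_of_injective P.subtype_injective]
    refine lt_of_le_of_ne (card_le_card_group _) fun he => ?_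
    have htop := eq_top_of_card_eq _ he
    exact bot_ne_top (α := Subgroup P) (frattini_nongenerating (by rw [htop, bot_sup_eq]))
  -- trivial action on the quotient
  have hkQ : g * u * g⁻¹ * u⁻¹ ∈ Q := by
    haveI : IsMulCommutative (↥P ⧸ frattini ↥P) := by
      have h := (Cfsg.Agent.Lib.PGroups.frattiniQuotient_elemAb hP).1
      exact ⟨⟨fun a b => congrArg Subtype.val (h.is_comm.comm ⟨a, mem_top a⟩ ⟨b, mem_top b⟩)⟩⟩
    haveI : Finite (AddMonoid.End (Additive (↥P ⧸ frattini ↥P))) :=
      Finite.of_injective (fun e => (e : Additive (↥P ⧸ frattini ↥P) → Additive (↥P ⧸ frattini ↥P)))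
        DFunLike.coe_injective
    let ρ : closure ({x, y} : Set G) →* AddMonoid.End (Additive (↥P ⧸ frattini ↥P)) :=
      (frattiniRep P).comp (closure ({x, y} : Set G)).subtype
    have hchar : (p : AddMonoid.End (Additive (↥P ⧸ frattini ↥P))) = 0 := by
      refine DFunLike.ext _ _ fun v => ?_
      rw [AddMonoid.End.natCast_apply]
      obtain ⟨w, rfl⟩ := Additive.ofMul.surjective v
      rw [← ofMul_pow, (Cfsg.Agent.Lib.PGroups.frattiniQuotient_elemAb hP).2 w (mem_top w)]
      rfl
    have hquad : ∀ z : G, IsQuad z P →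
        (frattiniRep P z - 1) * (frattiniRep P z - 1) = 0 := by
      intro z hz
      refine DFunLike.ext _ _ fun v => ?_
      obtain ⟨w, rfl⟩ := Additive.ofMul.surjective v
      induction w using QuotientGroup.induction_on with
      | H w =>
        have hd : ∀ a : ↥P, (frattiniRep P z - 1) (Additive.ofMul (a : ↥P ⧸ frattini ↥P)) =
            Additive.ofMul ((MulAut.conjNormal z a * a⁻¹ : ↥P) : ↥P ⧸ frattini ↥P) := by
          intro a
          change frattiniRep P z _ - (1 : AddMonoid.End _) _ = _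
          rw [frattiniRep_apply, AddMonoid.End.coe_one, id, ← ofMul_div, QuotientGroup.mk_mul,
            QuotientGroup.mk_inv, div_eq_mul_inv]
        change (frattiniRep P z - 1) ((frattiniRep P z - 1) _) = 0
        rw [hd, hd]
        have he : MulAut.conjNormal z (MulAut.conjNormal z w * w⁻¹) *
            (MulAut.conjNormal z w * w⁻¹)⁻¹ = 1 := by
          rw [mul_inv_eq_one]
          apply Subtype.ext
          rw [MulAut.conjNormal_apply]
          push_cast [MulAut.conjNormal_apply]
          rw [hz w w.2, mul_inv_cancel_right]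
        rw [he]
        rfl
    obtain ⟨k, hk⟩ := QuadPair.isPGroup_image p hp2 hchar
      (hodd.of_dvd_nat (card_subgroup_dvd_card _))
      (x := ⟨x, subset_closure (Or.inl rfl)⟩) (y := ⟨y, subset_closure (Or.inr rfl)⟩)
      (by
        refine Subgroup.map_injective (closure ({x, y} : Set G)).subtype_injective ?_
        rw [MonoidHom.map_closure, ← MonoidHom.range_eq_map, range_subtype, Set.image_pair]
        rfl)
      ρ (hquad x hx) (hquad y hy) ⟨g, hg⟩
    change frattiniRep P g ^ p ^ k = 1 at hk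
    have hone : frattiniRep P g = 1 := by
      have h1 : frattiniRep P g ^ orderOf g = 1 := by
        rw [← map_pow, pow_orderOf_eq_one, map_one]
      have h2 := orderOf_dvd_of_pow_eq_one hk
      have h3 := orderOf_dvd_of_pow_eq_one h1
      exact orderOf_eq_one_iff.mp (Nat.eq_one_of_dvd_coprimes (hcop.symm.pow_left k) h2 h3)
    have := DFunLike.congr_fun hone (Additive.ofMul (((⟨u, hu⟩ : ↥P) : ↥P ⧸ frattini ↥P)))
    rw [frattiniRep_apply, AddMonoid.End.coe_one, id, EmbeddingLike.apply_eq_iff_eq,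
      QuotientGroup.eq] at this
    rw [hQ]
    refine ⟨(⟨u, hu⟩ : ↥P) * ((MulAut.conjNormal g ⟨u, hu⟩)⁻¹ * ⟨u, hu⟩)⁻¹ * (⟨u, hu⟩ : ↥P)⁻¹,
      (inferInstance : (frattini ↥P).Normal).conj_mem _ (inv_mem this) _, ?_⟩
    simp [MulAut.conjNormal_apply, mul_assoc]
  -- coprime fixed commutator
  refine CoprimeFix.comm_of_fixed (k := g * u * g⁻¹ * u⁻¹) (by group)
    (ih _ hQlt Q rfl (hP.to_le hQP) (isQuad_mono hx hQP) (isQuad_mono hy hQP) g hg hcop _ hkQ) ?_
  obtain ⟨m, hm⟩ := IsPGroup.iff_orderOf.mp hP ⟨_, hQP hkQ⟩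
  rw [Subgroup.orderOf_mk] at hm
  rw [hm]
  exact hcop.pow_right m

/-- **`p`-stability** in groups of odd order. -/
theorem mem_pCore_of_quad (hodd : Odd (Nat.card G)) (hp2 : p ≠ 2) (P : Subgroup G) [P.Normal]
    (hP : IsPGroup p P) {x : G} (hx : IsQuad x P) :
    (QuotientGroup.mk' (centralizer (P : Set G))) x ∈ Cfsg.pCore p (G ⧸ centralizer (P : Set G)) := by
  classical
  let f := QuotientGroup.mk' (centralizer (P : Set G))
  have key : ∀ y : G, IsQuad y P → ∀ g ∈ closure ({x, y} : Set G), ∃ k : ℕ, f g ^ p ^ k = 1 := by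
    intro y hy g hg
    obtain ⟨j, r, hr, hjr⟩ := Nat.exists_eq_pow_mul_and_not_dvd (orderOf_pos g).ne' p hp.out.ne_one
    refine ⟨j, ?_⟩
    rw [← map_pow]
    refine (QuotientGroup.eq_one_iff _).mpr (mem_centralizer_iff.mpr fun u hu => ?_)
    refine (centralizes_of_quad_pair hodd hp2 P hP hx hy _ (pow_mem hg _) ?_ u hu).symm
    have h1 : orderOf (g ^ p ^ j) ∣ r := orderOf_dvd_of_pow_eq_one (by
      rw [← pow_mul, ← hjr, pow_orderOf_eq_one])
    exact (hp.out.coprime_iff_not_dvd.mpr hr).symm.coprime_dvd_left h1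
  have hxp : IsPGroup p (zpowers (f x)) := by
    obtain ⟨k, hk⟩ := key x hx x (subset_closure (Or.inl rfl))
    refine IsPGroup.of_card_dvd_pow (n := k) ?_
    rw [Nat.card_zpowers]
    exact orderOf_dvd_of_pow_eq_one hk
  obtain ⟨N, hNn, hNp, hxN⟩ := Cfsg.Agent.Lib.Involutions.BaerSuzuki.baer_suzuki_elem hxp (by
    intro gb
    obtain ⟨g, rfl⟩ := QuotientGroup.mk'_surjective (centralizer (P : Set G)) gb
    intro ⟨w, hw⟩
    have hw' : w ∈ (closure ({x, g * x * g⁻¹} : Set G)).map f := by
      rw [MonoidHom.map_closure, Set.image_pair]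
      simpa [f] using hw
    obtain ⟨w0, hw0, rfl⟩ := hw'
    obtain ⟨k, hk⟩ := key _ (isQuad_conj hx g) w0 hw0
    exact ⟨k, Subtype.ext (by rw [SubmonoidClass.coe_pow]; exact hk)⟩)
  exact (le_sSup (s := {N : Subgroup (G ⧸ centralizer (P : Set G)) | N.Normal ∧ IsPGroup p N})
    ⟨hNn, hNp⟩) hxN

theorem mem_pCore_of_quad' (hodd : Odd (Nat.card G)) (hp2 : p ≠ 2) (P C : Subgroup G) [P.Normal]
    [C.Normal] (hC : C = centralizer (P : Set G)) (hP : IsPGroup p P) {x : G} (hx : IsQuad x P) :
    (QuotientGroup.mk' C) x ∈ Cfsg.pCore p (G ⧸ C) := by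
  subst hC
  exact mem_pCore_of_quad hodd hp2 P hP hx

/-- If moreover `C_G(P)` is a `p`-group, a quadratic element lies in `O_p(G)`. -/
theorem mem_pCore_of_quad_of_centralizer (hodd : Odd (Nat.card G)) (hp2 : p ≠ 2) (P : Subgroup G)
    [P.Normal] (hP : IsPGroup p P) (hC : IsPGroup p (centralizer (P : Set G))) {x : G}
    (hx : IsQuad x P) : x ∈ Cfsg.pCore p G := by
  have h := mem_pCore_of_quad hodd hp2 P hP hx
  have hK : IsPGroup p ↥((Cfsg.pCore p (G ⧸ centralizer (P : Set G))).comap
      (QuotientGroup.mk' (centralizer (P : Set G)))) :=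
    (Cfsg.Agent.Lib.Cores.pCore_isPGroup p).comap_of_ker_isPGroup _
      (by rw [QuotientGroup.ker_mk']; exact hC)
  exact Cfsg.Agent.Lib.Cores.le_pCore (hN := Normal.comap inferInstance _) hK h

/-- An abelian subgroup normalized by `P` acts quadratically on `P`. -/
theorem isQuad_of_abelian {A P : Subgroup G} (hAc : IsMulCommutative A)
    (hPA : P ≤ normalizer (A : Set G)) {x : G} (hx : x ∈ A) : IsQuad x P := by
  intro u hu
  refine setLike_mul_comm hx ?_
  rw [show x * u * x⁻¹ * u⁻¹ = x * (u * x⁻¹ * u⁻¹) by group]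
  exact mul_mem hx ((mem_normalizer_iff.mp (hPA hu) x⁻¹).mp (inv_mem hx))

end Cfsg.Agent.Lib.OddLocal.PStable
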