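import Mathlib
import Cfsg.Prelude.Def_OddOrderLocal
import Cfsg.Agent.Lib.OddLocal.NarrowAut
import Cfsg.Agent.Lib.PGroups.UniqueInvolution

/-!
A `p`-group with an elementary abelian subgroup whose centralizer has rank at most two is narrow.
-/

set_option autoImplicit false

universe u

namespace Cfsg.Agent.Lib.OddLocal.NarrowRank

open Subgroup
open scoped commutatorElement

variable {P : Type u} [Group P] [Finite P] {p : ℕ} [hp : Fact p.Prime]

/-- A `p`-group with at most `p` elements `y` with `y ^ p = 1` in a subgroup is cyclic there. -/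
theorem isCyclic_of_card_le (hp2 : p ≠ 2) (hP : IsPGroup p P) {C S : Subgroup P}
    (hS : Nat.card S ≤ p) (h : ∀ y ∈ C, y ^ p = 1 → y ∈ S) : IsCyclic C := by
  refine PGroups.isCyclic_of_unique_prime hp2 (hP.to_subgroup C) fun a b ha hb => ?_
  have hmem : ∀ a : C, orderOf a = p → (a : P) ∈ S := fun a ha =>
    h a a.2 (by rw [← ha, ← Subgroup.orderOf_coe]; exact pow_orderOf_eq_one _)
  have hle : zpowers (a : P) ≤ S := zpowers_le.mpr (hmem a ha)
  have heq : zpowers (a : P) = S := eq_of_le_of_card_ge hle (by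
    rw [Nat.card_zpowers, Subgroup.orderOf_coe, ha]; exact hS)
  obtain ⟨k, hk⟩ := mem_zpowers_iff.mp (heq ▸ hmem b hb : (b : P) ∈ zpowers (a : P))
  exact mem_zpowers_iff.mpr ⟨k, Subtype.ext (by simpa using hk)⟩

/-- If the centralizer of some elementary abelian subgroup has rank at most two, the group is
narrow. -/
theorem isNarrow_of_centralizer (hp2 : p ≠ 2) (hP : IsPGroup p P) {E : Subgroup P}
    (hE : Cfsg.IsElementaryAbelian p E)
    (hC : Cfsg.PRankLE p 2 ↥(centralizer (E : Set P))) : Cfsg.IsNarrow p P := by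
  by_cases hr : Cfsg.PRankLE p 2 P
  · exact Or.inl hr
  haveI := hP.isNilpotent
  have hCle : ∀ A : Subgroup P, A ≤ centralizer (E : Set P) → Cfsg.IsElementaryAbelian p A →
      Nat.card A ≤ p ^ 2 := OddOrder.Rank.prankLE_subgroup_iff.mp hC
  obtain ⟨A, hA1, hA2, hA3⟩ : ∃ A : Subgroup P, IsMulCommutative A ∧ (∀ a ∈ A, a ^ p = 1) ∧
      p ^ 2 < Nat.card A := by
    simp only [Cfsg.PRankLE] at hr
    push Not at hr
    exact hr
  have hnc : ¬ IsCyclic P := by
    intro hc
    haveI : IsCyclic A := inferInstance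
    have h1 := Nat.le_of_dvd hp.out.pos (PGroups.elemAb_card_dvd_of_isCyclic (A := A) ⟨hA1, hA2⟩)
    exact absurd (h1.trans (Nat.le_self_pow two_ne_zero p)) (not_le.mpr hA3)
  obtain ⟨W, hWn, hWe, hWc⟩ := PGroups.exists_normal_elemAb_sq hp2 hP hnc
  haveI := hWn
  have hWne : W ≠ ⊥ := by
    rintro rfl
    rw [card_bot] at hWc
    exact absurd hWc (Nat.one_lt_pow two_ne_zero hp.out.one_lt).ne
  obtain ⟨Z, hZW, hZc, -, hZcard⟩ := PGroups.exists_central_card_prime hP W hWne
  have hzc : ∀ z ∈ Z, ∀ y : P, Commute z y := fun z hz y =>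
    (mem_center_iff.mp (hZc hz) y).symm
  -- a non-central element of `E`
  obtain ⟨x, hxE, hxnc⟩ : ∃ x ∈ E, x ∉ center P := by
    by_contra hno
    push Not at hno
    refine absurd (hCle A (fun a _ => mem_centralizer_iff.mpr fun e he =>
      (mem_center_iff.mp (hno e he) a).symm) ⟨hA1, hA2⟩) (not_le.mpr hA3)
  have hxp : x ^ p = 1 := hE.2 x hxE
  have hxZ : x ∉ Z := fun h => hxnc (hZc h)
  -- `E₀ = ⟨Z, x⟩`
  set C := centralizer ({x} : Set P) with hCdef
  have hgen : ∀ s : Set P, (∀ a ∈ s, ∀ b ∈ s, a * b = b * a) → (∀ a ∈ s, a ^ p = 1) →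
      s ⊆ centralizer (E : Set P) → Nat.card (closure s) ≤ p ^ 2 := fun s h1 h2 h3 =>
    hCle _ ((closure_le _).mpr h3) (PGroups.elemAb_closure h1 h2)
  have hZp : ∀ z ∈ Z, z ^ p = 1 := fun z hz => hWe.2 z (hZW hz)
  let E₀ : Subgroup P := closure ((Z : Set P) ∪ {x})
  have hZE : Z ≤ E₀ := fun z hz => subset_closure (Or.inl hz)
  have hxE₀ : x ∈ E₀ := subset_closure (Or.inr rfl)
  have hE₀e : Cfsg.IsElementaryAbelian p E₀ := PGroups.elemAb_closure (by
      rintro a (ha | rfl) b (hb | rfl)
      · exact (hzc a ha b).eq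
      · exact (hzc a ha b).eq
      · exact (hzc b hb a).symm.eq
      · rfl) (by
      rintro a (ha | rfl)
      · exact hZp a ha
      · exact hxp)
  have hE₀ge : p ^ 2 ≤ Nat.card E₀ := by
    have := PGroups.card_mul_le_card_of_mem hZE (PGroups.elemAb_isPGroup hE₀e) hxE₀ hxZ
    rw [hZcard, ← pow_two] at this
    exact this
  have hEcomm : ∀ a ∈ E, ∀ b ∈ E, a * b = b * a := fun a ha b hb =>
    congrArg Subtype.val (hE.1.is_comm.comm ⟨a, ha⟩ ⟨b, hb⟩)
  have hEE₀ : E ≤ E₀ := by
    intro e he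
    have hle : E₀ ≤ closure ((E : Set P) ∪ Z) := by
      refine (closure_le _).mpr ?_
      rintro a (ha | rfl)
      · exact subset_closure (Or.inr ha)
      · exact subset_closure (Or.inl hxE)
    have hcard := hgen ((E : Set P) ∪ Z) (by
        rintro a (ha | ha) b (hb | hb)
        · exact hEcomm a ha b hb
        · exact (hzc b hb a).symm.eq
        · exact (hzc a ha b).eq
        · exact (hzc a ha b).eq) (by
        rintro a (ha | ha)
        · exact hE.2 a ha
        · exact hZp a ha) (by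
        rintro a (ha | ha)
        · exact mem_centralizer_iff.mpr fun b hb => hEcomm b hb a ha
        · exact mem_centralizer_iff.mpr fun b _ => (hzc a ha b).symm.eq)
    rw [eq_of_le_of_card_ge hle (hcard.trans hE₀ge)]
    exact subset_closure (Or.inl he)
  have hCE : C ≤ centralizer (E : Set P) := by
    intro y hy
    refine mem_centralizer_iff.mpr fun e he => ?_
    refine mem_centralizer_singleton_iff.mp ((?_ : E₀ ≤ centralizer ({y} : Set P)) (hEE₀ he))
    rw [closure_le]
    rintro a (ha | rfl)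
    · exact mem_centralizer_singleton_iff.mpr (hzc a ha y).eq
    · exact mem_centralizer_singleton_iff.mpr (mem_centralizer_singleton_iff.mp hy).symm
  have hE₀C : E₀ ≤ C := fun a ha => mem_centralizer_singleton_iff.mpr
    (PGroups.elemAb_comm hE₀e ha hxE₀)
  -- all elements of order `p` of `C` lie in `E₀`
  have homega : ∀ y ∈ C, y ^ p = 1 → y ∈ E₀ := by
    intro y hy hyp
    have hxy := mem_centralizer_singleton_iff.mp hy
    have hle : E₀ ≤ closure ((E₀ : Set P) ∪ {y}) := fun a ha => subset_closure (Or.inl ha)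
    have hyc : ∀ a ∈ E₀, a * y = y * a := fun a ha => by
      refine mem_centralizer_singleton_iff.mp ((?_ : E₀ ≤ centralizer ({y} : Set P)) ha)
      rw [closure_le]
      rintro b (hb | rfl)
      · exact mem_centralizer_singleton_iff.mpr (hzc b hb y).eq
      · exact mem_centralizer_singleton_iff.mpr hxy.symm
    have hcard := hgen ((E₀ : Set P) ∪ {y}) (by
        rintro a (ha | rfl) b (hb | rfl)
        · exact PGroups.elemAb_comm hE₀e ha hb
        · exact hyc a ha
        · exact (hyc b hb).symm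
        · rfl) (by
        rintro a (ha | rfl)
        · exact hE₀e.2 a ha
        · exact hyp) (by
        rintro a (ha | rfl)
        · exact hCE (hE₀C ha)
        · exact hCE hy)
    rw [eq_of_le_of_card_ge hle (hcard.trans hE₀ge)]
    exact subset_closure (Or.inr rfl)
  have hE₀card : Nat.card E₀ = p ^ 2 :=
    le_antisymm (hCle E₀ (hE₀C.trans hCE) hE₀e) hE₀ge
  -- `W = ⟨Z, w⟩`
  obtain ⟨w, hwW, hwZ⟩ : ∃ w ∈ W, w ∉ Z := by
    by_contra hno
    push Not at hno
    have := card_le_of_le (show W ≤ Z from hno)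
    rw [hWc, hZcard] at this
    exact absurd this (not_le.mpr (by nlinarith [hp.out.two_le]))
  have hW1 : Nat.card ↥⁅W, (⊤ : Subgroup P)⁆ ≤ p := by
    have hle : ⁅W, (⊤ : Subgroup P)⁆ ≤ W := commutator_le_left W ⊤
    haveI : Group.IsNilpotent (⊤ : Subgroup P) := inferInstance
    have hne : ¬ W ≤ ⁅W, (⊤ : Subgroup P)⁆ := fun h =>
      hWne (NarrowAut.eq_bot_of_le_commutator le_top h)
    obtain ⟨w', hw', hw'1⟩ := SetLike.not_le_iff_exists.mp hne
    have := PGroups.card_mul_le_card_of_mem hle (hP.to_subgroup W) hw' hw'1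
    rw [hWc, pow_two] at this
    exact Nat.le_of_mul_le_mul_right this hp.out.pos
  set T := centralizer ({w} : Set P) with hT
  have hfib : ∀ V : Subgroup P, Nat.card V ≤ Nat.card ↥(V ⊓ T) * p := fun V =>
    (NarrowAut.card_le_centralizer_mul (V := V) (W := ⁅W, (⊤ : Subgroup P)⁆) (r := w) fun v _ => by
      rw [← commutatorElement_inv]; exact inv_mem (commutator_mem_commutator hwW (mem_top v))).trans
      (Nat.mul_le_mul_left _ hW1)
  have hwC : w ∉ C := by
    intro hwC
    have hwE₀ : w ∈ E₀ := homega w hwC (hWe.2 w hwW)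
    have hTC : A ⊓ T ≤ E₀ := by
      intro a ha
      refine homega a (mem_centralizer_singleton_iff.mpr ?_) (hA2 a ha.1)
      have hclosure : closure ((Z : Set P) ∪ {w}) = E₀ := by
        refine eq_of_le_of_card_ge ((closure_le _).mpr ?_) ?_
        · rintro b (hb | rfl)
          · exact hZE hb
          · exact hwE₀
        · rw [hE₀card]
          have := PGroups.card_mul_le_card_of_mem (A := Z) (B := closure ((Z : Set P) ∪ {w}))
            (fun b hb => subset_closure (Or.inl hb)) (hP.to_subgroup _)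
            (subset_closure (Or.inr rfl)) hwZ
          rwa [hZcard, ← pow_two] at this
      refine (mem_centralizer_singleton_iff.mp
        ((?_ : closure ((Z : Set P) ∪ {w}) ≤ centralizer ({a} : Set P)) (hclosure ▸ hxE₀))).symm
      rw [closure_le]
      rintro b (hb | rfl)
      · exact mem_centralizer_singleton_iff.mpr (hzc b hb a).eq
      · exact mem_centralizer_singleton_iff.mpr (mem_centralizer_singleton_iff.mp ha.2).symm
    -- `A` meets `E₀` in all of it
    obtain ⟨n, hn⟩ := PGroups.elemAb_card_eq_pow (A := A) ⟨hA1, hA2⟩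
    have h3 : 3 ≤ n := (Nat.pow_lt_pow_iff_right hp.out.one_lt).mp (hn ▸ hA3)
    have h4 : p ^ 3 ≤ Nat.card ↥(A ⊓ T) * p :=
      le_trans (hn ▸ Nat.pow_le_pow_right hp.out.pos h3) (hfib A)
    have h5 : p ^ 2 ≤ Nat.card ↥(A ⊓ T) := by
      rw [pow_succ] at h4
      exact Nat.le_of_mul_le_mul_right h4 hp.out.pos
    have h6 : A ⊓ T = E₀ := eq_of_le_of_card_ge hTC (hE₀card ▸ h5)
    have hAC : A ≤ E₀ := by
      intro a ha
      refine homega a (mem_centralizer_singleton_iff.mpr ?_) (hA2 a ha)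
      exact congrArg Subtype.val (hA1.is_comm.comm ⟨a, ha⟩ ⟨x, (h6 ▸ hxE₀ : x ∈ A ⊓ T).1⟩)
    exact absurd (card_le_of_le hAC) (not_le.mpr (hE₀card ▸ hA3))
  have hxT : x ∉ T := fun h => hwC (mem_centralizer_singleton_iff.mpr
    (mem_centralizer_singleton_iff.mp h).symm)
  have hx1 : x ≠ 1 := fun h => hxnc (h ▸ one_mem _)
  refine Or.inr ⟨zpowers x, C ⊓ T, by rw [Nat.card_zpowers, orderOf_eq_prime hxp hx1], ?_, ?_, ?_, ?_⟩
  · refine isCyclic_of_card_le hp2 hP (S := E₀ ⊓ T) ?_ fun y hy hyp => ⟨homega y hy.1 hyp, hy.2⟩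
    have := PGroups.card_mul_le_card_of_mem (A := E₀ ⊓ T) (B := E₀) inf_le_left
      (hP.to_subgroup _) hxE₀ (fun h => hxT h.2)
    rw [hE₀card, pow_two] at this
    exact Nat.le_of_mul_le_mul_right this hp.out.pos
  · rw [eq_bot_iff]
    intro y hy
    rw [mem_bot]
    by_contra hy1
    refine hxT ((?_ : zpowers x ≤ T) (mem_zpowers x))
    have hle : zpowers y ≤ zpowers x := zpowers_le.mpr hy.1
    have hcard : Nat.card (zpowers x) ≤ Nat.card (zpowers y) := by
      have hyp : y ^ p = 1 := by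
        obtain ⟨k, rfl⟩ := mem_zpowers_iff.mp hy.1
        rw [← zpow_natCast, ← zpow_mul, mul_comm, zpow_mul, zpow_natCast, hxp, one_zpow]
      rw [Nat.card_zpowers, Nat.card_zpowers, orderOf_eq_prime hxp hx1, orderOf_eq_prime hyp hy1]
    rw [← eq_of_le_of_card_ge hle hcard]
    exact zpowers_le.mpr hy.2.2
  · intro a ha b hb
    obtain ⟨k, rfl⟩ := mem_zpowers_iff.mp ha
    exact ((show Commute x b from (mem_centralizer_singleton_iff.mp hb.1).symm).zpow_left k).eq
  · have hzC : centralizer ((zpowers x : Subgroup P) : Set P) = C := by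
      refine le_antisymm (fun y hy => mem_centralizer_singleton_iff.mpr
        (mem_centralizer_iff.mp hy x (mem_zpowers x)).symm) fun y hy => mem_centralizer_iff.mpr ?_
      intro a ha
      obtain ⟨k, rfl⟩ := mem_zpowers_iff.mp ha
      exact ((show Commute x y from (mem_centralizer_singleton_iff.mp hy).symm).zpow_left k).eq
    rw [hzC]
    refine eq_of_le_of_card_ge (sup_le (zpowers_le.mpr (hE₀C hxE₀)) inf_le_left) ?_
    refine (hfib C).trans ?_
    exact PGroups.card_mul_le_card_of_mem (x := x) le_sup_right (hP.to_subgroup _)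
      ((le_sup_left : zpowers x ≤ zpowers x ⊔ C ⊓ T) (mem_zpowers x)) fun h => hxT h.2

end Cfsg.Agent.Lib.OddLocal.NarrowRank
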