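import Mathlib
import Cfsg.Prelude.Def_OddOrderLocal
import Cfsg.Agent.S0638
import Cfsg.Agent.Lib.PGroups.ElemAb
import Cfsg.Agent.Lib.PGroups.Omega
import Cfsg.Agent.Lib.PGroups.MaxAbelian

/-!
A metacyclic `p`-group (`p` odd) equal to its commutator with a coprime group of automorphisms is
abelian.
-/

set_option autoImplicit false

universe u v

namespace Cfsg.Agent.Lib.OddLocal.MetacyclicAction

open Subgroup
open scoped commutatorElement

section ClassTwo

variable {R : Type u} [Group R]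

theorem bilin_left (hz : ∀ x y : R, ⁅x, y⁆ ∈ center R) (a b y : R) :
    ⁅a * b, y⁆ = ⁅a, y⁆ * ⁅b, y⁆ := by
  rw [show ⁅a * b, y⁆ = a * ⁅b, y⁆ * a⁻¹ * ⁅a, y⁆ by simp only [commutatorElement_def]; group,
    mem_center_iff.mp (hz b y) a, mul_inv_cancel_right, mem_center_iff.mp (hz a y)]

theorem bilin_right (hz : ∀ x y : R, ⁅x, y⁆ ∈ center R) (x a b : R) :
    ⁅x, a * b⁆ = ⁅x, a⁆ * ⁅x, b⁆ := by
  rw [← commutatorElement_inv, bilin_left hz, mul_inv_rev, commutatorElement_inv,
    commutatorElement_inv, mem_center_iff.mp (hz x a)]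

theorem pow_pow_eq (hz : ∀ x y : R, ⁅x, y⁆ ∈ center R) (g h : R) (a b : ℕ) :
    ⁅g ^ a, h ^ b⁆ = ⁅g, h⁆ ^ (a * b) := by
  have e1 : ∀ (x y : R) (n : ℕ), ⁅x ^ n, y⁆ = ⁅x, y⁆ ^ n := fun x y n =>
    PGroups.commutatorElement_pow_left_of_central x y (mem_center_iff.mp (hz x y) x) n
  rw [e1, ← commutatorElement_inv, e1, ← inv_pow, commutatorElement_inv, ← pow_mul, mul_comm b]

end ClassTwo

variable {p : ℕ} [hp : Fact p.Prime]

omit hp in
/-- An element fixed by a coprime group acting on an abelian group generated by the commutators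
with it is trivial. -/
theorem eq_one_of_fixed {V : Type u} [CommGroup V] [Finite V] {A : Type v} [Group A] [Finite A]
    (θ : A →* MulAut V) (hfull : closure {x : V | ∃ g a, x = g * θ a g⁻¹} = ⊤)
    (hcop : (Nat.card A).Coprime (Nat.card V)) {v : V} (hv : ∀ a, θ a v = v) : v = 1 := by
  haveI : Fintype A := Fintype.ofFinite A
  let N : V →* V := ∏ a : A, (θ a).toMonoidHom
  have hN : ∀ x, N x = ∏ a : A, θ a x := fun x => by simp [N]
  have hk : (⊤ : Subgroup V) ≤ N.ker := by
    rw [← hfull, closure_le]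
    rintro _ ⟨g, b, rfl⟩
    rw [SetLike.mem_coe, MonoidHom.mem_ker, map_mul, map_inv (θ b), map_inv,
      mul_inv_eq_one, hN, hN]
    refine (Fintype.prod_equiv (Equiv.mulRight b) _ _ fun a => ?_).symm
    show θ a (θ b g) = θ (a * b) g
    rw [map_mul]; rfl
  have h1 : v ^ Fintype.card A = 1 := by
    rw [← MonoidHom.mem_ker.mp (hk (mem_top v)), hN, Finset.prod_congr rfl fun a _ => hv a,
      Finset.prod_const, Finset.card_univ]
  rw [← Nat.card_eq_fintype_card] at h1
  exact orderOf_eq_one_iff.mp (Nat.eq_one_of_dvd_coprimes hcop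
    (orderOf_dvd_of_pow_eq_one h1) (orderOf_dvd_natCard v))

theorem exists_nat_pow {R : Type u} [Group R] [Finite R] {g a : R} (ha : a ∈ zpowers g) :
    ∃ i : ℕ, g ^ i = a :=
  Submonoid.mem_powers_iff _ _ |>.mp ((isOfFinOrder_of_finite g).mem_powers_iff_mem_zpowers.mpr ha)

/-- Elements of `L` modulo a normal subgroup `M` of index `p` in it. -/
theorem exists_pow_mul {R : Type u} [Group R] [Finite R] (hR : IsPGroup p R) {M L : Subgroup R}
    [M.Normal] (hML : M ≤ L) (hcard : Nat.card L = Nat.card M * p) {g : R} (hgL : g ∈ L)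
    (hgM : g ∉ M) {x : R} (hx : x ∈ L) : ∃ i : ℕ, ∃ e ∈ M, x = g ^ i * e := by
  have hle : zpowers g ⊔ M ≤ L := sup_le (zpowers_le.mpr hgL) hML
  have heq : zpowers g ⊔ M = L := eq_of_le_of_card_ge hle (hcard ▸
    PGroups.card_mul_le_card_of_mem le_sup_right (hR.to_subgroup _)
      ((le_sup_left : zpowers g ≤ zpowers g ⊔ M) (mem_zpowers g)) hgM)
  rw [← heq] at hx
  obtain ⟨a, ha, e, he, rfl⟩ := mem_sup_of_normal_right.mp hx
  obtain ⟨i, rfl⟩ := exists_nat_pow ha
  exact ⟨i, e, he, rfl⟩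

/-- Metacyclicity passes to quotients. -/
theorem isMetacyclic_quotient {R : Type u} [Group R] (h : Cfsg.IsMetacyclic R) (Z : Subgroup R)
    [Z.Normal] : Cfsg.IsMetacyclic (R ⧸ Z) := by
  obtain ⟨N, hN, hNc, hQc⟩ := h
  haveI hMn := hN.map (QuotientGroup.mk' Z) (QuotientGroup.mk'_surjective Z)
  haveI := hNc
  haveI := hQc
  refine ⟨N.map (QuotientGroup.mk' Z), hMn,
    isCyclic_of_surjective _ ((QuotientGroup.mk' Z).subgroupMap_surjective N), ?_⟩
  let f := (QuotientGroup.mk' (N.map (QuotientGroup.mk' Z))).comp (QuotientGroup.mk' Z)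
  refine isCyclic_of_surjective (QuotientGroup.lift N f fun x hx => ?_) fun y => ?_
  · exact MonoidHom.mem_ker.mpr ((QuotientGroup.eq_one_iff _).mpr (mem_map_of_mem _ hx))
  · obtain ⟨x, rfl⟩ := QuotientGroup.mk'_surjective _ y
    obtain ⟨z, rfl⟩ := QuotientGroup.mk'_surjective _ x
    exact ⟨QuotientGroup.mk' N z, rfl⟩

/-- **The key lemma.** -/
theorem commute_of_full (hp2 : p ≠ 2) {A : Type v} [Group A] [Finite A]
    (hA : (Nat.card A).Coprime p) :
    ∀ (n : ℕ) (R : Type u) [Group R] [Finite R], Nat.card R = n → IsPGroup p R →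
      Cfsg.IsMetacyclic R → ∀ θ : A →* MulAut R,
      closure {x : R | ∃ g a, x = g * θ a g⁻¹} = ⊤ → ∀ x y : R, x * y = y * x := by
  intro n
  induction n using Nat.strong_induction_on with
  | _ n ih =>
  intro R _ _ hn hR hm θ hfull
  by_contra hnc
  push Not at hnc
  obtain ⟨x₀, y₀, hxy⟩ := hnc
  -- the derived subgroup
  have hm' := hm
  obtain ⟨N, hNn, hNc, hQc⟩ := hm'
  haveI := hNn
  haveI := hNc
  haveI := hQc
  have hderN : commutator R ≤ N := by
    rw [commutator_eq_closure, closure_le]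
    rintro _ ⟨a, b, rfl⟩
    rw [SetLike.mem_coe, ← QuotientGroup.eq_one_iff]
    change QuotientGroup.mk' N ⁅a, b⁆ = 1
    rw [map_commutatorElement, commutatorElement_eq_one_iff_mul_comm]
    exact IsCyclic.commGroup.mul_comm _ _
  haveI : IsCyclic (commutator R) :=
    isCyclic_of_injective (inclusion hderN) (inclusion_injective hderN)
  have hc0ne : ⁅x₀, y₀⁆ ≠ 1 := fun h => hxy (commutatorElement_eq_one_iff_mul_comm.mp h)
  have hmemder : ∀ x y : R, ⁅x, y⁆ ∈ commutator R := fun x y => by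
    rw [commutator_eq_closure]; exact subset_closure ⟨x, y, rfl⟩
  have hderne : commutator R ≠ ⊥ := fun h => hc0ne (mem_bot.mp (h ▸ hmemder x₀ y₀))
  obtain ⟨c, hcR, hco⟩ :=
    PGroups.exists_orderOf_eq_prime_of_ne_bot (hR.to_subgroup (commutator R)) hderne
  have hcp : c ^ p = 1 := hco ▸ pow_orderOf_eq_one c
  set Z1 := zpowers c with hZ1
  have hZ1mem : ∀ y ∈ commutator R, y ^ p = 1 → y ∈ Z1 := by
    intro y hy hyp
    have hle : closure ({c, y} : Set R) ≤ commutator R := (closure_le _).mpr (by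
      rintro w (rfl | rfl)
      · exact hcR
      · exact hy)
    haveI : IsCyclic (closure ({c, y} : Set R)) :=
      isCyclic_of_injective (inclusion hle) (inclusion_injective hle)
    have hcomm : c * y = y * c := congrArg Subtype.val
      ((IsCyclic.commGroup (α := commutator R)).mul_comm ⟨c, hcR⟩ ⟨y, hy⟩)
    have he := PGroups.elemAb_closure (s := ({c, y} : Set R)) (p := p) (by
      rintro a (rfl | rfl) b (rfl | rfl)
      · rfl
      · exact hcomm
      · exact hcomm.symm
      · rfl) (by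
      rintro a (rfl | rfl)
      · exact hcp
      · exact hyp)
    have hd := Nat.le_of_dvd hp.out.pos (PGroups.elemAb_card_dvd_of_isCyclic he)
    have heq : Z1 = closure ({c, y} : Set R) :=
      eq_of_le_of_card_ge (zpowers_le.mpr (subset_closure (Or.inl rfl)))
        (by rw [hZ1, Nat.card_zpowers, hco]; exact hd)
    rw [heq]; exact subset_closure (Or.inr rfl)
  have hZ1inv : ∀ φ : MulAut R, ∀ z ∈ Z1, φ z ∈ Z1 := by
    intro φ z hz
    obtain ⟨k, rfl⟩ := mem_zpowers_iff.mp hz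
    rw [map_zpow]
    refine zpow_mem (hZ1mem _ ?_ (by rw [← map_pow, hcp, map_one])) k
    exact characteristic_iff_le_comap.mp inferInstance φ hcR
  haveI hZ1n : Z1.Normal := ⟨fun z hz g => hZ1inv (MulAut.conj g) z hz⟩
  -- the quotient by `Z1` is abelian
  have hmapZ : ∀ a : A, Z1.map (θ a).toMonoidHom = Z1 := fun a =>
    le_antisymm (by rintro _ ⟨z, hz, rfl⟩; exact hZ1inv _ z hz)
      fun z hz => ⟨(θ a).symm z, hZ1inv _ z hz, (θ a).apply_symm_apply z⟩
  let θ' : A →* MulAut (R ⧸ Z1) :=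
    { toFun := fun a => QuotientGroup.congr Z1 Z1 (θ a) (hmapZ a)
      map_one' := by
        apply MulEquiv.ext; intro x
        induction x using QuotientGroup.induction_on with | _ x
        simp
      map_mul' := fun a b => by
        apply MulEquiv.ext; intro x
        induction x using QuotientGroup.induction_on with | _ x
        change QuotientGroup.mk (θ (a * b) x) = (QuotientGroup.mk (θ a (θ b x)) : R ⧸ Z1)
        rw [map_mul]
        rfl }
  have hfull' : closure {x : R ⧸ Z1 | ∃ g a, x = g * θ' a g⁻¹} = ⊤ := by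
    rw [eq_top_iff, ← Subgroup.map_top_of_surjective _ (QuotientGroup.mk'_surjective Z1), ← hfull,
      MonoidHom.map_closure]
    refine closure_mono ?_
    rintro _ ⟨_, ⟨g, a, rfl⟩, rfl⟩
    exact ⟨QuotientGroup.mk' Z1 g, a, rfl⟩
  have hlt : Nat.card (R ⧸ Z1) < n := by
    rw [← hn, card_eq_card_quotient_mul_card_subgroup Z1, hZ1, Nat.card_zpowers, hco]
    exact lt_mul_of_one_lt_right Nat.card_pos hp.out.one_lt
  have hab := ih _ hlt (R ⧸ Z1) rfl (hR.to_quotient Z1) (isMetacyclic_quotient hm Z1) θ' hfull'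
  have hder : commutator R = Z1 := by
    refine le_antisymm ?_ (zpowers_le.mpr hcR)
    rw [commutator_eq_closure, closure_le]
    rintro _ ⟨a, b, rfl⟩
    rw [SetLike.mem_coe, ← QuotientGroup.eq_one_iff]
    change QuotientGroup.mk' Z1 ⁅a, b⁆ = 1
    rw [map_commutatorElement, commutatorElement_eq_one_iff_mul_comm]
    exact hab _ _
  have hz : ∀ x y : R, ⁅x, y⁆ ∈ center R := fun x y =>
    PGroups.le_center_of_normal_card_prime hR Z1 (by rw [hZ1, Nat.card_zpowers, hco])
      (hder ▸ hmemder x y)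
  have hcomp : ∀ x y : R, ⁅x, y⁆ ^ p = 1 := fun x y => by
    have hm1 := hmemder x y
    rw [hder, hZ1] at hm1
    obtain ⟨k, hk⟩ := mem_zpowers_iff.mp hm1
    rw [← hk, ← zpow_natCast, ← zpow_mul, mul_comm, zpow_mul, zpow_natCast, hcp, one_zpow]
  -- powers are endomorphisms
  have hmulp : ∀ x y : R, (x * y) ^ p = x ^ p * y ^ p := by
    intro x y
    rw [PGroups.mul_pow_of_central_commutator x y (mem_center_iff.mp (hz y x) x)
      (mem_center_iff.mp (hz y x) y)]
    obtain ⟨k, hk⟩ : p ∣ p.choose 2 := hp.out.dvd_choose_self two_ne_zero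
      (lt_of_le_of_ne hp.out.two_le (Ne.symm hp2))
    rw [hk, pow_mul, hcomp, one_pow, mul_one]
  have hmulpj : ∀ (j : ℕ) (x y : R), (x * y) ^ p ^ j = x ^ p ^ j * y ^ p ^ j := by
    intro j
    induction j with
    | zero => intro x y; simp
    | succ j ihj => intro x y; rw [pow_succ, pow_mul, ihj, hmulp, ← pow_mul, ← pow_mul]
  let pw : ℕ → R →* R := fun j => MonoidHom.mk' (fun x => x ^ p ^ j) (hmulpj j)
  let P : Subgroup R := (pw 1).range
  have hPmem : ∀ x : R, x ^ p ∈ P := fun x => ⟨x, by simp [pw]⟩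
  have hPz : P ≤ center R := by
    rintro _ ⟨x, rfl⟩
    rw [mem_center_iff]
    intro g
    refine commutatorElement_eq_one_iff_mul_comm.mp ?_
    show ⁅g, (x ^ p ^ 1)⁆ = 1
    rw [pow_one, ← pow_one g, pow_pow_eq hz, one_mul, hcomp]
  haveI hPn : P.Normal := ⟨fun z hz' g => by
    rwa [mem_center_iff.mp (hPz hz') g, mul_inv_cancel_right]⟩
  have hRnc : ¬ IsCyclic R := fun h => hxy (IsCyclic.commGroup.mul_comm x₀ y₀)
  have hcard : Nat.card R = Nat.card P * p ^ 2 := by
    obtain ⟨hE, hEc⟩ := Cfsg.Agent.S0638.result hp2 hR hm hRnc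
    have hker : (pw 1).ker = Cfsg.omegaOne p (⊤ : Subgroup R) := by
      refine le_antisymm (fun x hx => PGroups.mem_omegaOne_of_pow (mem_top x) ?_) fun x hx => ?_
      · simpa [pw] using hx
      · rw [MonoidHom.mem_ker]
        simpa [pw] using hE.2 x hx
    rw [card_eq_card_quotient_mul_card_subgroup (pw 1).ker,
      Nat.card_congr (QuotientGroup.quotientKerEquivRange (pw 1)).toEquiv, hker, hEc]
  have hderP : commutator R ≤ P := by
    rw [commutator_eq_closure, closure_le]
    rintro _ ⟨a, b, rfl⟩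
    have hq : Nat.card (R ⧸ P) = p ^ 2 := by
      have := card_eq_card_quotient_mul_card_subgroup P
      rw [hcard, mul_comm] at this
      exact Nat.eq_of_mul_eq_mul_right Nat.card_pos this.symm
    rw [SetLike.mem_coe, ← QuotientGroup.eq_one_iff]
    change QuotientGroup.mk' P ⁅a, b⁆ = 1
    rw [map_commutatorElement, commutatorElement_eq_one_iff_mul_comm]
    exact (IsPGroup.commGroupOfCardEqPrimeSq hq).mul_comm _ _
  -- the level of the generator of the derived subgroup
  have hcP : c ∈ P := hderP hcR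
  obtain ⟨j, hj, ⟨g₁, hg₁⟩, hjmax⟩ : ∃ j, 1 ≤ j ∧ (∃ x : R, x ^ p ^ j = c) ∧
      ¬ ∃ x : R, x ^ p ^ (j + 1) = c := by
    by_contra hno
    push Not at hno
    have : ∀ i, 1 ≤ i → ∃ x : R, x ^ p ^ i = c := by
      intro i hi
      induction i, hi using Nat.le_induction with
      | base =>
        obtain ⟨x, hx⟩ := hcP
        exact ⟨x, hx⟩
      | succ i hi ihi => exact hno i hi ihi
    obtain ⟨x, hx⟩ := this (Nat.card R) Nat.card_pos
    obtain ⟨k, -, hk⟩ : ∃ k, True ∧ orderOf x = p ^ k :=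
      let ⟨k, hk⟩ := IsPGroup.iff_orderOf.mp hR x; ⟨k, trivial, hk⟩
    have hkle : k ≤ Nat.card R :=
      (Nat.lt_pow_self hp.out.one_lt).le.trans (hk ▸ Nat.le_of_dvd Nat.card_pos (orderOf_dvd_natCard x))
    have : x ^ p ^ Nat.card R = 1 :=
      orderOf_dvd_iff_pow_eq_one.mp (hk ▸ pow_dvd_pow p hkle)
    rw [hx] at this
    exact hp.out.ne_one (by rw [← hco, this, orderOf_one])
  have hg₁P : g₁ ∉ P := by
    rintro ⟨f, hf⟩
    refine hjmax ⟨f, ?_⟩
    rw [pow_succ', pow_mul, ← hg₁, ← hf]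
    simp [pw]
  have hpjP : ∀ x : R, ∀ k : ℕ, (x * 1) ^ p ^ k = x ^ p ^ k := fun x k => by rw [mul_one]
  -- the subgroup `S`
  let S : Subgroup R := Z1.comap (pw j)
  have hSmem : ∀ x : R, x ∈ S ↔ x ^ p ^ j ∈ Z1 := fun x => Iff.rfl
  have hg₁S : g₁ ∈ S := (hSmem g₁).mpr (hg₁ ▸ mem_zpowers c)
  have hSinv : ∀ a, ∀ x ∈ S, θ a x ∈ S := fun a x hx => (hSmem _).mpr (by
    rw [← map_pow]; exact hZ1inv _ _ ((hSmem x).mp hx))
  have hPinv : ∀ a, ∀ x ∈ P, θ a x ∈ P := by
    rintro a _ ⟨y, rfl⟩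
    exact ⟨θ a y, by simp [pw, map_pow]⟩
  -- the action on `c`
  have hcz : ∀ y ∈ Z1, ∃ i : ℕ, c ^ i = y := fun y hy => exists_nat_pow hy
  -- final contradiction from two generators adapted to the action
  have final : ∀ (a : A) (g h g' h' : R) (α β : ℕ), ⁅g, h⁆ ≠ 1 → ¬ p ∣ α →
      θ a g = g ^ α * g' → θ a h = h ^ β * h' → ⁅g', h ^ β * h'⁆ = 1 → ⁅g ^ α, h'⁆ = 1 →
      θ a c = c ^ α → ∃ t, h ^ β = h * t ∧ t ∈ P := by
    intro a g h g' h' α β hu hα hg hh e1 e2 hc
    obtain ⟨i, hi⟩ := hcz _ (hder ▸ hmemder g h : ⁅g, h⁆ ∈ Z1)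
    have h3 : θ a ⁅g, h⁆ = ⁅g, h⁆ ^ α := by rw [← hi, map_pow, hc, ← pow_mul, ← pow_mul, mul_comm]
    rw [map_commutatorElement, hg, hh, bilin_left hz, e1, mul_one, bilin_right hz, e2, mul_one,
      pow_pow_eq hz, pow_eq_pow_iff_modEq,
      orderOf_eq_prime (hcomp g h) hu] at h3
    have hb : β ≡ 1 [MOD p] := by
      refine Nat.ModEq.cancel_left_of_coprime (c := α)
        ((hp.out.coprime_iff_not_dvd.mpr hα)) ?_
      rw [mul_one]; exact h3
    refine ⟨h⁻¹ * h ^ β, by group, ?_⟩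
    rcases Nat.eq_zero_or_pos β with hb0 | hb0
    · exfalso
      rw [hb0] at hb
      exact hp.out.not_dvd_one ((Nat.modEq_zero_iff_dvd).mp hb.symm)
    · obtain ⟨k, hk⟩ := (Nat.modEq_iff_dvd' hb0).mp hb.symm
      have : h ^ β = h * (h ^ k) ^ p := by
        rw [← pow_mul, ← pow_succ', show k * p + 1 = β by rw [mul_comm]; omega]
      rw [this, inv_mul_cancel_left]
      exact hPmem _
  have hnegc : ∀ a : A, ∀ α : ℕ, p ∣ α → θ a g₁ ≠ g₁ ^ α := by
    intro a α hα h
    obtain ⟨k, rfl⟩ := hα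
    refine hg₁P ?_
    have h' : θ a g₁ ∈ P := h ▸ by rw [mul_comm, pow_mul]; exact hPmem _
    have h2 := hPinv a⁻¹ _ h'
    rwa [← MulAut.mul_apply, ← map_mul, inv_mul_cancel, map_one, MulAut.one_apply] at h2
  by_cases hSP : S ⊔ P = ⊤
  · -- powers land in `Z1`
    have hM : ∀ x : R, x ^ p ^ j ∈ Z1 ⊔ (pw (j + 1)).range := by
      intro x
      obtain ⟨s, hs, e, ⟨f, rfl⟩, rfl⟩ := mem_sup_of_normal_right.mp (hSP ▸ mem_top x : x ∈ S ⊔ P)
      rw [hmulpj]
      refine mul_mem (mem_sup_left ((hSmem s).mp hs)) (mem_sup_right ⟨f, ?_⟩)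
      simp [pw, pow_succ', pow_mul]
    have hstep : ∀ i, ∀ x : R, ∃ y : R, x ^ p ^ (j + 1) = y ^ p ^ (j + 1 + i) := by
      intro i
      induction i with
      | zero => exact fun x => ⟨x, rfl⟩
      | succ i ihi =>
        intro x
        obtain ⟨y, hy⟩ := ihi x
        obtain ⟨z, hz', w, ⟨f, rfl⟩, hzw⟩ := mem_sup_of_normal_left.mp (hM y)
        refine ⟨f, hy.trans ?_⟩
        have hzp : z ^ p = 1 := by
          obtain ⟨k, rfl⟩ := hcz z hz'
          rw [← pow_mul, mul_comm, pow_mul, hcp, one_pow]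
        calc y ^ p ^ (j + 1 + i) = ((y ^ p ^ j) ^ p) ^ p ^ i := by
              rw [← pow_mul, ← pow_mul]; congr 1; ring
          _ = ((f ^ p ^ (j + 1)) ^ p) ^ p ^ i := by
              rw [← hzw, hmulp, hzp, one_mul]; rfl
          _ = f ^ p ^ (j + 1 + (i + 1)) := by rw [← pow_mul, ← pow_mul]; congr 1; ring
    have hZ : ∀ x : R, x ^ p ^ j ∈ Z1 := by
      intro x
      have htriv : (pw (j + 1)).range = ⊥ := by
        rw [eq_bot_iff]
        rintro _ ⟨y, rfl⟩
        obtain ⟨z, hz'⟩ := hstep (Nat.card R) y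
        rw [mem_bot]
        show y ^ p ^ (j + 1) = 1
        rw [hz']
        obtain ⟨k, hk⟩ := IsPGroup.iff_orderOf.mp hR z
        refine orderOf_dvd_iff_pow_eq_one.mp (hk ▸ pow_dvd_pow p ?_)
        have : k < Nat.card R := (Nat.lt_pow_self hp.out.one_lt).trans_le
          (hk ▸ Nat.le_of_dvd Nat.card_pos (orderOf_dvd_natCard z))
        omega
      have := hM x
      rwa [htriv, sup_bot_eq] at this
    set L := (pw j).ker with hL
    have hPL : P ≤ L := by
      rintro _ ⟨f, rfl⟩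
      rw [MonoidHom.mem_ker]
      obtain ⟨k, hk⟩ := hcz _ (hZ f)
      show (f ^ p ^ 1) ^ p ^ j = 1
      rw [← pow_mul, mul_comm, pow_mul, ← hk, pow_one, ← pow_mul, mul_comm, pow_mul, hcp, one_pow]
    have hrange : (pw j).range = Z1 := le_antisymm (by rintro _ ⟨x, rfl⟩; exact hZ x)
      (zpowers_le.mpr ⟨g₁, hg₁⟩)
    have hLcard : Nat.card R = Nat.card L * p := by
      rw [card_eq_card_quotient_mul_card_subgroup L,
        Nat.card_congr (QuotientGroup.quotientKerEquivRange (pw j)).toEquiv, hrange, hZ1,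
        Nat.card_zpowers, hco, mul_comm]
    have hLP : Nat.card L = Nat.card P * p := by
      have := hLcard.symm.trans hcard
      rw [pow_two, ← mul_assoc] at this
      exact Nat.eq_of_mul_eq_mul_right hp.out.pos this
    obtain ⟨h, hhL, hhP⟩ : ∃ h ∈ L, h ∉ P := by
      by_contra hno
      push Not at hno
      have := card_le_of_le (show L ≤ P from hno)
      rw [hLP] at this
      exact absurd this (not_le.mpr (lt_mul_of_one_lt_right Nat.card_pos hp.out.one_lt))
    have hg₁L : g₁ ∉ L := fun h' => hp.out.ne_one (by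
      have h1 : g₁ ^ p ^ j = 1 := h'
      rw [← hco, ← hg₁, h1, orderOf_one])
    have hgens : ∀ x : R, ∃ i : ℕ, ∃ e ∈ L, x = g₁ ^ i * e := fun x =>
      exists_pow_mul hR (M := L) (L := ⊤) le_top (by rw [card_top, hLcard]) (mem_top g₁) hg₁L (mem_top x)
    have hLab : ∀ x ∈ L, ∀ y ∈ L, ⁅x, y⁆ = 1 := by
      intro x hx y hy
      obtain ⟨i, e, he, rfl⟩ := exists_pow_mul hR hPL hLP hhL hhP hx
      obtain ⟨k, e', he', rfl⟩ := exists_pow_mul hR hPL hLP hhL hhP hy
      refine commutatorElement_eq_one_iff_mul_comm.mpr (Commute.mul_left ?_ ?_).eq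
      · exact ((Commute.refl h).pow_pow i k).mul_right (mem_center_iff.mp (hPz he') _)
      · exact (mem_center_iff.mp (hPz he) _).symm
    have hgh : ⁅g₁, h⁆ ≠ 1 := by
      intro h1
      refine hxy (mul_comm_of_commutator ?_ x₀ y₀)
      intro x y
      obtain ⟨i, l, hl, rfl⟩ := hgens x
      obtain ⟨k, l', hl', rfl⟩ := hgens y
      have hgl : ∀ l ∈ L, ⁅g₁, l⁆ = 1 := fun l hl => by
        obtain ⟨m, e, he, rfl⟩ := exists_pow_mul hR hPL hLP hhL hhP hl
        rw [bilin_right hz, ← pow_one g₁, pow_pow_eq hz, h1, one_pow, one_mul,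
          commutatorElement_eq_one_iff_mul_comm]
        exact mem_center_iff.mp (hPz he) _
      have e1 : ⁅g₁ ^ i, g₁ ^ k⁆ = 1 := by
        rw [commutatorElement_eq_one_iff_mul_comm, ← pow_add, ← pow_add, add_comm]
      have e2 : ∀ (m : ℕ), ∀ l ∈ L, ⁅g₁ ^ m, l⁆ = 1 := fun m l hl => by
        conv_lhs => rw [← pow_one l]
        rw [pow_pow_eq hz, hgl l hl, one_pow]
      rw [bilin_left hz, bilin_right hz, bilin_right hz, e1, e2 i l' hl', hLab l hl l' hl',
        ← commutatorElement_inv (g₁ ^ k) l, e2 k l hl]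
      simp
    -- `h` is fixed modulo `P`
    have hfixh : ∀ a, h⁻¹ * θ a h ∈ P := by
      intro a
      obtain ⟨α, g', hg', hga⟩ := hgens (θ a g₁)
      have hha : θ a h ∈ L := by
        rw [hL, MonoidHom.mem_ker]
        show (θ a h) ^ p ^ j = 1
        rw [← map_pow, show h ^ p ^ j = 1 from hhL, map_one]
      obtain ⟨β, h', hh', hhb⟩ := exists_pow_mul hR hPL hLP hhL hhP hha
      have hca : θ a c = c ^ α := by
        rw [← hg₁, map_pow, hga, hmulpj, show g' ^ p ^ j = 1 from hg', mul_one, ← pow_mul,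
          ← pow_mul, mul_comm]
      have hα : ¬ p ∣ α := by
        rintro ⟨k, rfl⟩
        rw [pow_mul, hcp, one_pow] at hca
        exact hp.out.ne_one (by rw [← hco, (θ a).map_eq_one_iff.mp hca, orderOf_one])
      obtain ⟨t, ht, htP⟩ := final a g₁ h g' h' α β hgh hα hga hhb
        (hLab g' hg' _ (hhb ▸ hha))
        (commutatorElement_eq_one_iff_mul_comm.mpr (mem_center_iff.mp (hPz hh') _)) hca
      rw [hhb, ht, mul_assoc, inv_mul_cancel_left]
      exact mul_mem htP hh'
    have hcommQ : ∀ a b : R ⧸ P, a * b = b * a := by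
      intro a b
      induction a using QuotientGroup.induction_on with | _ a
      induction b using QuotientGroup.induction_on with | _ b
      rw [← commutatorElement_eq_one_iff_mul_comm]
      change ⁅QuotientGroup.mk' P a, QuotientGroup.mk' P b⁆ = 1
      rw [← map_commutatorElement]
      exact (QuotientGroup.eq_one_iff _).mpr (hderP (hmemder a b))
    letI : CommGroup (R ⧸ P) := { (inferInstance : Group (R ⧸ P)) with mul_comm := hcommQ }
    have hmapP : ∀ a : A, P.map (θ a).toMonoidHom = P := fun a =>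
      le_antisymm (by rintro _ ⟨z, hz', rfl⟩; exact hPinv a z hz')
        fun z hz' => ⟨θ a⁻¹ z, hPinv _ z hz', by
          show θ a (θ a⁻¹ z) = z
          rw [← MulAut.mul_apply, ← map_mul, mul_inv_cancel, map_one, MulAut.one_apply]⟩
    let θP : A →* MulAut (R ⧸ P) :=
      { toFun := fun a => QuotientGroup.congr P P (θ a) (hmapP a)
        map_one' := by
          apply MulEquiv.ext; intro x
          induction x using QuotientGroup.induction_on with | _ x
          simp
        map_mul' := fun a b => by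
          apply MulEquiv.ext; intro x
          induction x using QuotientGroup.induction_on with | _ x
          change QuotientGroup.mk (θ (a * b) x) = (QuotientGroup.mk (θ a (θ b x)) : R ⧸ P)
          rw [map_mul]
          rfl }
    have hfullP : closure {x : R ⧸ P | ∃ g a, x = g * θP a g⁻¹} = ⊤ := by
      rw [eq_top_iff, ← Subgroup.map_top_of_surjective _ (QuotientGroup.mk'_surjective P), ← hfull,
        MonoidHom.map_closure]
      refine closure_mono ?_
      rintro _ ⟨_, ⟨g, a, rfl⟩, rfl⟩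
      exact ⟨QuotientGroup.mk' P g, a, rfl⟩
    refine hhP ((QuotientGroup.eq_one_iff h).mp (eq_one_of_fixed θP hfullP ?_ fun a => ?_))
    · obtain ⟨k, hk⟩ := IsPGroup.iff_card.mp (hR.to_quotient P)
      rw [hk]; exact hA.pow_right k
    · exact (QuotientGroup.eq.mpr (hfixh a)).symm
  · -- the image of `S` is an invariant line
    set L := S ⊔ P with hL
    have hg₁L : g₁ ∈ L := mem_sup_left hg₁S
    have hPL : P ≤ L := le_sup_right
    obtain ⟨h, hhL⟩ : ∃ h, h ∉ L := by
      by_contra hno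
      push Not at hno
      exact hSP (eq_top_iff.mpr fun x _ => hno x)
    have h1 := PGroups.card_mul_le_card_of_mem hPL (hR.to_subgroup L) hg₁L hg₁P
    have h2 := PGroups.card_mul_le_card_of_mem (le_top : L ≤ ⊤) (hR.to_subgroup ⊤) (mem_top h) hhL
    rw [card_top, hcard, pow_two, ← mul_assoc] at h2
    have hLP : Nat.card L = Nat.card P * p :=
      le_antisymm (Nat.le_of_mul_le_mul_right h2 hp.out.pos) h1
    haveI hLn : L.Normal := Normal.of_commutator_le R (hderP.trans hPL)
    have hLR : Nat.card (⊤ : Subgroup R) = Nat.card L * p := by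
      rw [card_top, hcard, hLP, pow_two, mul_assoc]
    have hLgen : ∀ x ∈ L, ∃ i : ℕ, ∃ e ∈ P, x = g₁ ^ i * e := fun x hx =>
      exists_pow_mul hR hPL hLP hg₁L hg₁P hx
    have hgens : ∀ x : R, ∃ i : ℕ, ∃ e ∈ L, x = h ^ i * e := fun x =>
      exists_pow_mul hR (le_top : L ≤ ⊤) hLR (mem_top h) hhL (mem_top x)
    have hLab : ∀ x ∈ L, ∀ y ∈ L, ⁅x, y⁆ = 1 := by
      intro x hx y hy
      obtain ⟨i, e, he, rfl⟩ := hLgen x hx
      obtain ⟨k, e', he', rfl⟩ := hLgen y hy
      refine commutatorElement_eq_one_iff_mul_comm.mpr (Commute.mul_left ?_ ?_).eq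
      · exact ((Commute.refl g₁).pow_pow i k).mul_right (mem_center_iff.mp (hPz he') _)
      · exact (mem_center_iff.mp (hPz he) _).symm
    have hgh : ⁅g₁, h⁆ ≠ 1 := by
      intro h1
      refine hxy (mul_comm_of_commutator ?_ x₀ y₀)
      intro x y
      obtain ⟨i, l, hl, rfl⟩ := hgens x
      obtain ⟨k, l', hl', rfl⟩ := hgens y
      have hgl : ∀ l ∈ L, ⁅h, l⁆ = 1 := fun l hl => by
        obtain ⟨m, e, he, rfl⟩ := hLgen l hl
        rw [bilin_right hz, ← pow_one h, pow_pow_eq hz, ← commutatorElement_inv g₁ h, h1, inv_one,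
          one_pow, one_mul, commutatorElement_eq_one_iff_mul_comm]
        exact mem_center_iff.mp (hPz he) _
      have e1 : ⁅h ^ i, h ^ k⁆ = 1 := by
        rw [commutatorElement_eq_one_iff_mul_comm, ← pow_add, ← pow_add, add_comm]
      have e2 : ∀ (m : ℕ), ∀ l ∈ L, ⁅h ^ m, l⁆ = 1 := fun m l hl => by
        conv_lhs => rw [← pow_one l]
        rw [pow_pow_eq hz, hgl l hl, one_pow]
      rw [bilin_left hz, bilin_right hz, bilin_right hz, e1, e2 i l' hl', hLab l hl l' hl',
        ← commutatorElement_inv (h ^ k) l, e2 k l hl]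
      simp
    have hfixh : ∀ a, h⁻¹ * θ a h ∈ L := by
      intro a
      obtain ⟨α, g', hg', hga⟩ := hLgen _ (by
        rw [hL]; exact mem_sup_left (hSinv a g₁ hg₁S))
      obtain ⟨β, h', hh', hhb⟩ := hgens (θ a h)
      have hg'S : g' ^ p ^ j = 1 := by
        have hmem : g' ∈ S := by
          have : g' = (g₁ ^ α)⁻¹ * θ a g₁ := by rw [hga, inv_mul_cancel_left]
          rw [this]; exact mul_mem (inv_mem (pow_mem hg₁S α)) (hSinv a g₁ hg₁S)
        obtain ⟨f, rfl⟩ := hg'
        obtain ⟨i, hi⟩ := hcz _ ((hSmem _).mp hmem)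
        rw [← hi]
        by_contra hne
        have hpi : ¬ p ∣ i := fun ⟨k, hk⟩ => hne (by rw [hk, pow_mul, hcp, one_pow])
        obtain ⟨m, -, hm'⟩ := Nat.exists_mul_mod_eq_one_of_coprime
          (hp.out.coprime_iff_not_dvd.mpr hpi).symm hp.out.one_lt
        refine hjmax ⟨f ^ m, ?_⟩
        rw [← pow_mul, mul_comm, pow_mul, pow_succ', pow_mul, show (f ^ p) ^ p ^ j = c ^ i by
          rw [hi]; simp [pw], ← pow_mul, pow_eq_pow_mod _ hcp, hm', pow_one]
      have hca : θ a c = c ^ α := by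
        rw [← hg₁, map_pow, hga, hmulpj, hg'S, mul_one, ← pow_mul, ← pow_mul, mul_comm]
      have hα : ¬ p ∣ α := by
        rintro ⟨k, rfl⟩
        rw [pow_mul, hcp, one_pow] at hca
        exact hp.out.ne_one (by rw [← hco, (θ a).map_eq_one_iff.mp hca, orderOf_one])
      obtain ⟨t, ht, htP⟩ := final a g₁ h g' h' α β hgh hα hga hhb
        (commutatorElement_eq_one_iff_mul_comm.mpr (mem_center_iff.mp (hPz hg') _).symm)
        (hLab _ (pow_mem hg₁L α) h' hh') hca
      rw [hhb, ht, mul_assoc, inv_mul_cancel_left]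
      exact mul_mem (hPL htP) hh'
    refine hhL ?_
    have htop : (⊤ : Subgroup R) ≤ L := by
      rw [← hfull, closure_le]
      rintro _ ⟨x, a, rfl⟩
      obtain ⟨i, l, hl, rfl⟩ := hgens x
      rw [SetLike.mem_coe, ← QuotientGroup.eq_one_iff]
      change QuotientGroup.mk' L (h ^ i * l * θ a (h ^ i * l)⁻¹) = 1
      have hl0 : ∀ y ∈ L, QuotientGroup.mk' L y = 1 := fun y hy => (QuotientGroup.eq_one_iff y).mpr hy
      have hlinv : θ a l ∈ L := by
        obtain ⟨s, hs, e, he, rfl⟩ := mem_sup_of_normal_right.mp (hl : l ∈ S ⊔ P)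
        rw [map_mul]
        exact mul_mem (mem_sup_left (hSinv a s hs)) (mem_sup_right (hPinv a e he))
      have hh0 : QuotientGroup.mk' L (θ a h) = QuotientGroup.mk' L h :=
        (QuotientGroup.eq.mpr (hfixh a)).symm
      simp only [map_mul, map_inv, map_pow, hl0 _ hlinv, hh0, hl0 l hl, mul_one, mul_inv_cancel]
    exact htop (mem_top h)
where
  mul_comm_of_commutator {R : Type u} [Group R] (h : ∀ x y : R, ⁅x, y⁆ = 1) (x y : R) :
      x * y = y * x := commutatorElement_eq_one_iff_mul_comm.mp (h x y)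

end Cfsg.Agent.Lib.OddLocal.MetacyclicAction
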