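import Mathlib
import Cfsg.Prelude.Def_OddOrderLocal
import Cfsg.Agent.Lib.OddLocal.MetacyclicAction
import Cfsg.Agent.Lib.Coprime.Commutator

/-!
Coprime action on metacyclic `p`-groups.
-/

set_option autoImplicit false

universe u

namespace Cfsg.Agent.Lib.OddLocal.MetacyclicDecomp

open Subgroup
open scoped commutatorElement

variable {G : Type u} [Group G] [Finite G] {p : ℕ} [hp : Fact p.Prime]

omit [Finite G] hp in
theorem isMetacyclic_of_le {K R : Subgroup G} (hKR : K ≤ R) (h : Cfsg.IsMetacyclic R) :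
    Cfsg.IsMetacyclic K := by
  obtain ⟨N, hN, hNc, hQc⟩ := h
  haveI := hN
  haveI := hNc
  haveI := hQc
  refine ⟨N.comap (inclusion hKR), inferInstance, ?_, ?_⟩
  · exact isCyclic_of_injective ((inclusion hKR).subgroupComap N) fun a b hab =>
      Subtype.ext (inclusion_injective hKR (congrArg Subtype.val hab))
  · let f := (QuotientGroup.mk' N).comp (inclusion hKR)
    have hk : N.comap (inclusion hKR) = f.ker := by
      rw [← MonoidHom.comap_ker, QuotientGroup.ker_mk']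
    refine isCyclic_of_injective
      ((QuotientGroup.kerLift f).comp (QuotientGroup.quotientMulEquivOfEq hk).toMonoidHom) ?_
    exact (QuotientGroup.kerLift_injective f).comp (QuotientGroup.quotientMulEquivOfEq hk).injective

/-- `K = ⁅K, A⁆` metacyclic, coprime action: `K` is abelian. -/
theorem isMulCommutative_of_eq (hp2 : p ≠ 2) {K A : Subgroup G} (hK : IsPGroup p K)
    (hm : Cfsg.IsMetacyclic K) (hA : A ≤ normalizer (K : Set G))
    (hcop : (Nat.card A).Coprime p) (heq : ⁅K, A⁆ = K) : IsMulCommutative K := by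
  let θ : A →* MulAut K := K.normalizerMonoidHom.comp (inclusion hA)
  have hfull : closure {x : K | ∃ g a, x = g * θ a g⁻¹} = ⊤ := by
    apply map_injective K.subtype_injective
    rw [MonoidHom.map_closure, ← MonoidHom.range_eq_map, range_subtype]
    refine le_antisymm ((closure_le _).mpr ?_) ?_
    · rintro _ ⟨x, -, rfl⟩
      exact x.2
    · conv_lhs => rw [← heq]
      rw [commutator_le]
      intro k hk a ha
      refine subset_closure ⟨⟨k, hk⟩ * θ ⟨a, ha⟩ ⟨k, hk⟩⁻¹, ⟨⟨k, hk⟩, ⟨a, ha⟩, rfl⟩, ?_⟩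
      show k * (a * k⁻¹ * a⁻¹) = ⁅k, a⁆
      rw [commutatorElement_def]; group
  exact ⟨⟨MetacyclicAction.commute_of_full hp2 hcop _ K rfl hK hm θ hfull⟩⟩

/-- The full decomposition. -/
theorem decomposition (hp2 : p ≠ 2) {R A : Subgroup G} (hR : IsPGroup p R)
    (hRm : Cfsg.IsMetacyclic R) (hA : A ≤ normalizer (R : Set G))
    (hcop : (Nat.card A).Coprime p) :
    IsMulCommutative ↥⁅R, A⁆ ∧ ⁅R, A⁆ ⊔ (R ⊓ centralizer (A : Set G)) = R ∧
      ⁅R, A⁆ ⊓ (R ⊓ centralizer (A : Set G)) = ⊥ ∧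
      (¬ IsMulCommutative R → ¬ A ≤ centralizer (R : Set G) →
        ⁅R, A⁆ ≠ ⊥ ∧ IsCyclic ↥⁅R, A⁆ ∧ (R ⊓ centralizer (A : Set G)) ≠ ⊥ ∧
          IsCyclic ↥(R ⊓ centralizer (A : Set G)) ∧ ⁅R, R⁆ ≤ ⁅R, A⁆) := by
  haveI := hR.isNilpotent
  obtain ⟨n, hn⟩ := IsPGroup.iff_card.mp hR
  have hcopR : (Nat.card A).Coprime (Nat.card R) := hn ▸ hcop.pow_right n
  set K := ⁅R, A⁆ with hK
  set C := R ⊓ centralizer (A : Set G) with hC
  have hKR : K ≤ R := Coprime.commutator_le_of_le_normalizer hA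
  have hKA : A ≤ normalizer (K : Set G) := Coprime.right_le_normalizer_commutator R A
  have hKK : ⁅K, A⁆ = K := Coprime.commutator_commutator_eq hA hcopR (Or.inr inferInstance)
  have hsup : K ⊔ C = R := Coprime.commutator_sup_centralizer hA hcopR (Or.inr inferInstance)
  haveI hKc : IsMulCommutative K :=
    isMulCommutative_of_eq hp2 (hR.to_le hKR) (isMetacyclic_of_le hKR hRm) hKA hcop hKK
  have hcopK : (Nat.card A).Coprime (Nat.card K) := hcopR.coprime_dvd_right (card_dvd_of_le hKR)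
  have hdisj : K ⊓ C = ⊥ := by
    rw [eq_bot_iff]
    have h := Coprime.centralizer_inf_commutator_eq_bot hKA hcopK
    rw [hKK] at h
    exact fun x hx => h ▸ ⟨⟨hx.1, hx.2.2⟩, hx.1⟩
  refine ⟨hKc, hsup, hdisj, fun hnc hna => ?_⟩
  have hKne : K ≠ ⊥ := by
    intro h
    refine hna (?_ : A ≤ centralizer (R : Set G))
    rw [← commutator_eq_bot_iff_le_centralizer, commutator_comm]
    exact h
  have hCne : C ≠ ⊥ := by
    intro h
    rw [h, sup_bot_eq] at hsup
    exact hnc (hsup ▸ hKc)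
  have hRnc : ¬ IsCyclic R := fun h => hnc ⟨⟨IsCyclic.commGroup.mul_comm⟩⟩
  -- all elements of order `p` form `Ω` of order `p²`
  obtain ⟨hE, hEc⟩ := Cfsg.Agent.S0638.result hp2 hR hRm hRnc
  set E : Subgroup G := (Cfsg.omegaOne p (⊤ : Subgroup R)).map R.subtype with hEdef
  have hEcard : Nat.card E = p ^ 2 := by rw [hEdef, card_map_of_injective R.subtype_injective, hEc]
  have hmemE : ∀ y ∈ R, y ^ p = 1 → y ∈ E := fun y hy hyp =>
    ⟨⟨y, hy⟩, PGroups.mem_omegaOne_of_pow (mem_top _) (Subtype.ext hyp), rfl⟩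
  have hcyc : ∀ X Y : Subgroup G, X ≤ R → Y ≤ R → X ⊓ Y = ⊥ → Y ≠ ⊥ → IsCyclic X := by
    intro X Y hX hY hXY hY0
    obtain ⟨y, hyY, hyo⟩ := PGroups.exists_orderOf_eq_prime_of_ne_bot (hR.to_le hY) hY0
    have hyp : y ^ p = 1 := hyo ▸ pow_orderOf_eq_one y
    have hy1 : y ≠ 1 := fun h => hp.out.ne_one (by rw [← hyo, h, orderOf_one])
    have hS : Nat.card ↥(X ⊓ E) ≤ p := by
      have hyX : y ∉ X ⊓ E := fun h => hy1 (mem_bot.mp (hXY ▸ ⟨h.1, hyY⟩))
      have := PGroups.card_mul_le_card_of_mem (A := X ⊓ E) (B := E) inf_le_right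
        (hR.to_le (map_subtype_le _)) (hmemE y (hY hyY) hyp) hyX
      rw [hEcard, pow_two] at this
      exact Nat.le_of_mul_le_mul_right this hp.out.pos
    refine PGroups.isCyclic_of_unique_prime hp2 (hR.to_le hX) fun a b ha hb => ?_
    have hmem : ∀ a : X, orderOf a = p → (a : G) ∈ X ⊓ E := fun a ha =>
      ⟨a.2, hmemE a (hX a.2) (by rw [← ha, ← Subgroup.orderOf_coe]; exact pow_orderOf_eq_one _)⟩
    have heq : zpowers (a : G) = X ⊓ E := eq_of_le_of_card_ge (zpowers_le.mpr (hmem a ha)) (by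
      rw [Nat.card_zpowers, Subgroup.orderOf_coe, ha]; exact hS)
    obtain ⟨k, hk⟩ := mem_zpowers_iff.mp (heq ▸ hmem b hb : (b : G) ∈ zpowers (a : G))
    exact mem_zpowers_iff.mpr ⟨k, Subtype.ext (by simpa using hk)⟩
  have hKcyc := hcyc K C hKR inf_le_left hdisj hCne
  have hCcyc := hcyc C K inf_le_left hKR (by rw [inf_comm]; exact hdisj) hKne
  refine ⟨hKne, hKcyc, hCne, hCcyc, ?_⟩
  -- modulo `K` the group is cyclic
  haveI := hCcyc
  have hnorm : C ≤ normalizer (K : Set G) :=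
    inf_le_left.trans (Coprime.left_le_normalizer_commutator R A)
  rw [commutator_le]
  intro x hx y hy
  rw [← hsup, ← SetLike.mem_coe, sup_comm, coe_mul_of_left_le_normalizer_right _ _ hnorm] at hx hy
  obtain ⟨c, hc, k, hk, rfl⟩ := hx
  obtain ⟨d, hd, l, hl, rfl⟩ := hy
  have hcd : c * d = d * c :=
    congrArg Subtype.val (IsCyclic.commGroup.mul_comm (⟨c, hc⟩ : C) ⟨d, hd⟩)
  have hconj : ∀ g ∈ C, ∀ k ∈ K, g * k * g⁻¹ ∈ K := fun g hg k hk =>
    (mem_normalizer_iff.mp (hnorm hg) k).mp hk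
  have e : ⁅c * k, d * l⁆ =
      (c * k * c⁻¹) * ((c * d) * (l * k⁻¹) * (c * d)⁻¹) * ((c * d * c⁻¹) * l⁻¹ * (c * d * c⁻¹)⁻¹) *
        ⁅c, d⁆ := by
    simp only [commutatorElement_def]; group
  rw [e, (commutatorElement_eq_one_iff_mul_comm).mpr hcd, mul_one]
  exact mul_mem (mul_mem (hconj c hc k hk) (hconj _ (mul_mem hc hd) _ (mul_mem hl (inv_mem hk))))
    (hconj _ (mul_mem (mul_mem hc hd) (inv_mem hc)) _ (inv_mem hl))

end Cfsg.Agent.Lib.OddLocal.MetacyclicDecomp
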