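import Mathlib
import Cfsg.Prelude.Def_OddOrderLocal
import Cfsg.Agent.S3888
import Cfsg.Agent.Lib.Cores.Basic
import Cfsg.Agent.Lib.OddLocal.MetacyclicAction

/-!
The non-metacyclic `p`-groups of rank two (`p ≥ 5`) and their odd-order automorphism groups.
-/

set_option autoImplicit false

universe u v

namespace Cfsg.Agent.Lib.OddLocal.RankTwoAut

open Subgroup
open scoped commutatorElement

variable {p : ℕ} [hp : Fact p.Prime] {R : Type u} [Group R] [Finite R]

omit hp [Finite R] in
/-- A subgroup invariant under conjugation by generators is normal. -/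
theorem normal_of_generators [Finite R] {S : Set R} (hS : closure S = ⊤) {H : Subgroup R}
    (h : ∀ g ∈ S, ∀ x ∈ H, g⁻¹ * x * g ∈ H) : H.Normal := by
  rw [← normalizer_eq_top_iff, eq_top_iff, ← hS, closure_le]
  intro g hg
  have key : H.map (MulAut.conj g⁻¹).toMonoidHom = H :=
    eq_of_le_of_card_ge (by rintro _ ⟨x, hx, rfl⟩; simpa using h g hg x hx)
      (card_map_of_injective (MulAut.conj g⁻¹).injective).ge
  rw [SetLike.mem_coe, ← inv_mem_iff, mem_normalizer_iff]
  intro x
  constructor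
  · intro hx
    simpa using h g hg x hx
  · intro hx
    rw [← key] at hx
    obtain ⟨y, hy, he⟩ := hx
    have : y = x := (MulAut.conj g⁻¹).injective he
    exact this ▸ hy

/-- **First family.** `R` is a central product of `p^{1+2}` of exponent `p` with a cyclic group. -/
theorem central_product (hp2 : p ≠ 2) (hR : IsPGroup p R) {n : ℕ} (hn3 : 3 ≤ n)
    (hnc : ¬ ∀ a b : R, a * b = b * a) {x y z : R}
    (hgen : closure ({x, y, z} : Set R) = ⊤) (hx : x ^ p = 1) (hy : y ^ p = 1)
    (hz : z ^ p ^ (n - 2) = 1) (hxz : x * z = z * x) (hyz : y * z = z * y)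
    (hrel : x⁻¹ * y * x = y * z ^ p ^ (n - 3)) :
    ∃ R₁ R₂ : Subgroup R, R₁ ⊔ R₂ = ⊤ ∧ (∀ a ∈ R₁, ∀ b ∈ R₂, a * b = b * a) ∧
      ¬ IsMulCommutative R₁ ∧ Nat.card R₁ = p ^ 3 ∧ (∀ a ∈ R₁, a ^ p = 1) ∧ IsCyclic R₂ ∧
      closure {v : R | v ∈ R₂ ∧ v ^ p = 1} = ⁅R₁, R₁⁆ := by
  set t := z ^ p ^ (n - 3) with ht
  have hn23 : p ^ (n - 2) = p ^ (n - 3) * p := by rw [← pow_succ]; congr 1; omega
  have htp : t ^ p = 1 := by rw [ht, ← pow_mul, ← hn23, hz]
  have hzc : z ∈ center R := by
    refine mem_center_iff.mpr fun g => ?_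
    refine (mem_centralizer_singleton_iff.mp ((?_ : ⊤ ≤ centralizer ({z} : Set R)) (mem_top g)))
    rw [← hgen, closure_le]
    rintro g (rfl | rfl | rfl)
    · exact mem_centralizer_singleton_iff.mpr hxz
    · exact mem_centralizer_singleton_iff.mpr hyz
    · exact mem_centralizer_singleton_iff.mpr rfl
  have htc : t ∈ center R := pow_mem hzc _
  set H := closure ({x, y} : Set R) with hH
  have hxH : x ∈ H := subset_closure (Or.inl rfl)
  have hyH : y ∈ H := subset_closure (Or.inr rfl)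
  have htxy : t = ⁅y⁻¹, x⁻¹⁆ := by
    rw [show ⁅y⁻¹, x⁻¹⁆ = y⁻¹ * (x⁻¹ * y * x) by rw [commutatorElement_def]; group, hrel,
      inv_mul_cancel_left]
  have hxy : ¬ Commute x y := by
    intro h
    refine hnc ?_
    have hab : IsMulCommutative (closure ({x, y, z} : Set R)) := isMulCommutative_closure (by
      rintro a (rfl | rfl | rfl) b (rfl | rfl | rfl)
      all_goals first
        | rfl | exact h.eq | exact h.eq.symm | exact hxz | exact hxz.symm | exact hyz
        | exact hyz.symm)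
    intro a b
    exact congrArg Subtype.val
      (hab.is_comm.comm ⟨a, hgen.symm ▸ mem_top a⟩ ⟨b, hgen.symm ▸ mem_top b⟩)
  have ht1 : t ≠ 1 := by
    intro h
    rw [h, mul_one] at hrel
    exact hxy (show x * y = y * x by
      calc x * y = x * (x⁻¹ * y * x) := by rw [hrel]
        _ = y * x := by group)
  have htH : zpowers t ≤ ⁅H, H⁆ := zpowers_le.mpr
    (htxy ▸ commutator_mem_commutator (inv_mem hyH) (inv_mem hxH))
  haveI htn : (zpowers t).Normal := ⟨fun a ha g => by
    rwa [mem_center_iff.mp ((zpowers_le.mpr htc) ha) g, mul_inv_cancel_right]⟩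
  have hHle : ⁅H, H⁆ ≤ zpowers t := by
    let π := QuotientGroup.mk' (zpowers t)
    have hπt : π t = 1 := (QuotientGroup.eq_one_iff t).mpr (mem_zpowers t)
    have hq : π x * π y = π y * π x := by
      have := congrArg π hrel
      rw [map_mul, map_mul, map_inv, map_mul, hπt, mul_one] at this
      calc π x * π y = π x * ((π x)⁻¹ * π y * π x) := by rw [this]
        _ = π y * π x := by group
    have hab : IsMulCommutative (closure (π '' ({x, y} : Set R))) := isMulCommutative_closure (by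
      rintro _ ⟨a, (rfl | rfl), rfl⟩ _ ⟨b, (rfl | rfl), rfl⟩
      all_goals first | rfl | exact hq | exact hq.symm)
    rw [commutator_le]
    intro a ha b hb
    rw [← QuotientGroup.eq_one_iff]
    change π ⁅a, b⁆ = 1
    rw [map_commutatorElement, commutatorElement_eq_one_iff_mul_comm]
    have hm : ∀ a ∈ H, π a ∈ closure (π '' ({x, y} : Set R)) := fun a ha => by
      rw [← MonoidHom.map_closure]; exact mem_map_of_mem π ha
    exact congrArg Subtype.val (hab.is_comm.comm ⟨_, hm a ha⟩ ⟨_, hm b hb⟩)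
  have hder : ⁅H, H⁆ = zpowers t := le_antisymm hHle htH
  have hcz : ∀ a ∈ H, ∀ b ∈ H, ⁅a, b⁆ ∈ center R ∧ ⁅a, b⁆ ^ p = 1 := by
    intro a ha b hb
    have hm := hHle (commutator_mem_commutator ha hb)
    obtain ⟨k, hk⟩ := mem_zpowers_iff.mp hm
    refine ⟨zpowers_le.mpr htc hm, ?_⟩
    rw [← hk, ← zpow_natCast, ← zpow_mul, mul_comm, zpow_mul, zpow_natCast, htp, one_zpow]
  have hexp : ∀ a ∈ H, a ^ p = 1 := by
    intro a ha
    induction ha using closure_induction with
    | mem a ha => rcases ha with rfl | rfl <;> assumption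
    | one => exact one_pow p
    | inv a _ ih => rw [inv_pow, ih, inv_one]
    | mul a b ha hb iha ihb =>
      obtain ⟨hc, hcp⟩ := hcz b hb a ha
      obtain ⟨k, hk⟩ : p ∣ p.choose 2 := hp.out.dvd_choose_self two_ne_zero
        (lt_of_le_of_ne hp.out.two_le (Ne.symm hp2))
      rw [PGroups.mul_pow_of_central_commutator a b (mem_center_iff.mp hc a)
        (mem_center_iff.mp hc b), iha, ihb, hk, pow_mul, hcp, one_pow, one_mul, one_mul]
  have hnab : ¬ IsMulCommutative H := fun h =>
    hxy (congrArg Subtype.val (h.is_comm.comm ⟨x, hxH⟩ ⟨y, hyH⟩))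
  have hcard : Nat.card H = p ^ 3 := by
    obtain ⟨k, hk⟩ := IsPGroup.iff_card.mp (hR.to_subgroup H)
    have hle : Nat.card H ≤ p ^ 3 := by
      have hT : Nat.card (zpowers t) = p := by rw [Nat.card_zpowers, orderOf_eq_prime htp ht1]
      have hord : ∀ w : R, w ^ p = 1 → Nat.card (zpowers w) ≤ p := fun w hw => by
        rw [Nat.card_zpowers]
        exact Nat.le_of_dvd hp.out.pos (orderOf_dvd_of_pow_eq_one hw)
      set Y := zpowers y ⊔ zpowers t with hY
      have hYt : t ∈ Y := mem_sup_right (mem_zpowers t)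
      have hYy : y ∈ Y := mem_sup_left (mem_zpowers y)
      have hconj : ∀ g : R, g ∈ ({x, y, z} : Set R) → ∀ w ∈ Y, g⁻¹ * w * g ∈ Y := by
        intro g hg w hw
        refine (?_ : Y ≤ Y.comap (MulAut.conj g⁻¹).toMonoidHom) hw |> fun h => by simpa using h
        rw [hY, sup_le_iff, zpowers_le, zpowers_le, ← hY, mem_comap, mem_comap]
        have htg : g⁻¹ * t * g = t := by
          rw [mul_assoc, ← mem_center_iff.mp htc g, inv_mul_cancel_left]
        simp only [MulEquiv.coe_toMonoidHom, MulAut.conj_apply, inv_inv]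
        refine ⟨?_, by rw [htg]; exact hYt⟩
        rcases hg with rfl | rfl | rfl
        · rw [hrel]; exact mul_mem hYy hYt
        · simpa using hYy
        · rw [mul_assoc, hyz, inv_mul_cancel_left]; exact hYy
      haveI : Y.Normal := normal_of_generators hgen hconj
      have hY2 : Nat.card Y ≤ p * p :=
        (Nat.le_of_dvd (Nat.mul_pos Nat.card_pos Nat.card_pos) (Cores.card_sup_dvd_mul _ _)).trans
          (Nat.mul_le_mul (hord y hy) hT.le)
      have hHY : H ≤ zpowers x ⊔ Y := (closure_le _).mpr (by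
        rintro g (rfl | rfl)
        · exact mem_sup_left (mem_zpowers _)
        · exact mem_sup_right hYy)
      calc Nat.card H ≤ Nat.card ↥(zpowers x ⊔ Y) := card_le_of_le hHY
        _ ≤ Nat.card (zpowers x) * Nat.card Y :=
          Nat.le_of_dvd (Nat.mul_pos Nat.card_pos Nat.card_pos) (Cores.card_sup_dvd_mul _ _)
        _ ≤ p * (p * p) := Nat.mul_le_mul (hord x hx) hY2
        _ = p ^ 3 := by ring
    have hk3 : k ≤ 3 := (Nat.pow_le_pow_iff_right hp.out.one_lt).mp (hk ▸ hle)
    interval_cases k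
    · haveI : IsCyclic H := isCyclic_of_card_dvd_prime (p := p) (by rw [hk]; simp)
      exact absurd ⟨⟨IsCyclic.commGroup.mul_comm⟩⟩ hnab
    · rw [pow_one] at hk
      haveI : IsCyclic H := isCyclic_of_prime_card hk
      exact absurd ⟨⟨IsCyclic.commGroup.mul_comm⟩⟩ hnab
    · exact absurd ⟨⟨(IsPGroup.commGroupOfCardEqPrimeSq hk).mul_comm⟩⟩ hnab
    · exact hk
  refine ⟨H, zpowers z, ?_, ?_, hnab, hcard, hexp, inferInstance, ?_⟩
  · rw [eq_top_iff, ← hgen, closure_le]
    rintro g (rfl | rfl | rfl)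
    · exact mem_sup_left hxH
    · exact mem_sup_left hyH
    · exact mem_sup_right (mem_zpowers _)
  · intro a _ b hb
    exact mem_center_iff.mp (zpowers_le.mpr hzc hb) a
  · rw [hder]
    refine le_antisymm ((closure_le _).mpr ?_) (zpowers_le.mpr (subset_closure ⟨?_, htp⟩))
    · rintro v ⟨hv, hvp⟩
      obtain ⟨i, rfl⟩ := MetacyclicAction.exists_nat_pow hv
      have hord : orderOf z = p ^ (n - 3 + 1) :=
        orderOf_eq_prime_pow ht1 (by rw [show n - 3 + 1 = n - 2 by omega]; exact hz)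
      rw [← pow_mul] at hvp
      have hd := orderOf_dvd_of_pow_eq_one hvp
      rw [hord, pow_succ] at hd
      obtain ⟨m, rfl⟩ := Nat.dvd_of_mul_dvd_mul_right hp.out.pos hd
      rw [pow_mul]
      exact pow_mem (mem_zpowers t) m
    · exact pow_mem (mem_zpowers z) _

/-- **Second family.** No odd group of automorphisms has `[R, A] = R`. -/
theorem second_family_false {n s : ℕ} (hn4 : 4 ≤ n)
    (hs : s = 1 ∨ ¬ IsSquare (s : ZMod p)) (hcard : Nat.card R = p ^ n) {x y z : R}
    (hgen : closure ({x, y, z} : Set R) = ⊤) (hx : x ^ p = 1) (hy : y ^ p = 1)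
    (hz : z ^ p ^ (n - 2) = 1) (hyz : y * z = z * y)
    (hrel1 : x⁻¹ * y * x = y * z ^ (s * p ^ (n - 3))) (hrel2 : x⁻¹ * z * x = y * z)
    {A : Type v} [Group A] [Finite A] (hodd : Odd (Nat.card A)) (θ : A →* MulAut R)
    (hfull : closure {w : R | ∃ g a, w = g * θ a g⁻¹} = ⊤) : False := by
  have hR : IsPGroup p R := IsPGroup.of_card hcard
  set e := p ^ (n - 3) with he
  set t := z ^ e with ht
  have hps : ¬ p ∣ s := by
    rcases hs with rfl | hs
    · exact hp.out.not_dvd_one
    · intro h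
      exact hs ((ZMod.natCast_eq_zero_iff s p).mpr h ▸ IsSquare.zero)
  have hn23 : p ^ (n - 2) = e * p := by rw [he, ← pow_succ]; congr 1; omega
  have htp : t ^ p = 1 := by rw [ht, ← pow_mul, ← hn23, hz]
  obtain ⟨e', he'⟩ : p ∣ e := dvd_pow_self p (by omega)
  have hye : y ^ e = 1 := by rw [he', pow_mul, hy, one_pow]
  set T := closure ({y, z} : Set R) with hT
  have hyT : y ∈ T := subset_closure (Or.inl rfl)
  have hzT : z ∈ T := subset_closure (Or.inr rfl)
  have htT : t ∈ T := pow_mem hzT _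
  haveI hTc : IsMulCommutative T := isMulCommutative_closure (by
    rintro a (rfl | rfl) b (rfl | rfl)
    all_goals first | rfl | exact hyz | exact hyz.symm)
  have hTcomm : ∀ a ∈ T, ∀ b ∈ T, a * b = b * a := fun a ha b hb =>
    congrArg Subtype.val (hTc.is_comm.comm ⟨a, ha⟩ ⟨b, hb⟩)
  have hzse : z ^ (s * e) = t ^ s := by rw [ht, ← pow_mul, mul_comm]
  haveI hTn : T.Normal := by
    refine normal_of_generators hgen fun g hg w hw => ?_
    rcases hg with rfl | hg
    · refine (?_ : T ≤ T.comap (MulAut.conj g⁻¹).toMonoidHom) hw |> fun h => by simpa using h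
      conv_lhs => rw [hT]
      rw [closure_le]
      rintro b (rfl | rfl)
      · simp only [SetLike.mem_coe, mem_comap, MulEquiv.coe_toMonoidHom, MulAut.conj_apply, inv_inv]
        rw [hrel1, hzse]; exact mul_mem hyT (pow_mem htT s)
      · simp only [SetLike.mem_coe, mem_comap, MulEquiv.coe_toMonoidHom, MulAut.conj_apply, inv_inv]
        rw [hrel2]; exact mul_mem hyT hzT
    · have hgT : g ∈ T := by rcases hg with rfl | rfl <;> assumption
      exact mul_mem (mul_mem (inv_mem hgT) hw) hgT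
  -- the order of `T`
  have hord : ∀ w : R, w ^ p = 1 → Nat.card (zpowers w) ≤ p := fun w hw => by
    rw [Nat.card_zpowers]; exact Nat.le_of_dvd hp.out.pos (orderOf_dvd_of_pow_eq_one hw)
  have hgenT : ∀ w : R, ∃ i : ℕ, ∃ l ∈ T, w = x ^ i * l := by
    intro w
    have htop : zpowers x ⊔ T = ⊤ := by
      rw [eq_top_iff, ← hgen, closure_le]
      rintro g (rfl | rfl | rfl)
      · exact mem_sup_left (mem_zpowers _)
      · exact mem_sup_right hyT
      · exact mem_sup_right hzT
    obtain ⟨a, ha, l, hl, rfl⟩ := mem_sup_of_normal_right.mp (htop ▸ mem_top w : w ∈ zpowers x ⊔ T)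
    obtain ⟨i, rfl⟩ := MetacyclicAction.exists_nat_pow ha
    exact ⟨i, l, hl, rfl⟩
  have hcardle : p ^ n ≤ p * Nat.card T := by
    rw [← hcard]
    have htop : (⊤ : Subgroup R) ≤ zpowers x ⊔ T := fun w _ => by
      obtain ⟨i, l, hl, rfl⟩ := hgenT w
      exact mul_mem (mem_sup_left (pow_mem (mem_zpowers x) i)) (mem_sup_right hl)
    calc Nat.card R = Nat.card (⊤ : Subgroup R) := card_top.symm
      _ ≤ Nat.card ↥(zpowers x ⊔ T) := card_le_of_le htop
      _ ≤ Nat.card (zpowers x) * Nat.card T :=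
        Nat.le_of_dvd (Nat.mul_pos Nat.card_pos Nat.card_pos) (Cores.card_sup_dvd_mul _ _)
      _ ≤ p * Nat.card T := Nat.mul_le_mul_right _ (hord x hx)
  have ht1 : t ≠ 1 := by
    intro h1
    have hzn : (zpowers z).Normal ∨ True := Or.inr trivial
    have hTle : Nat.card T ≤ p * e := by
      have hyn : (zpowers y).Normal := by
        refine normal_of_generators hgen fun g hg w hw => ?_
        obtain ⟨i, rfl⟩ := MetacyclicAction.exists_nat_pow hw
        have hgy : g⁻¹ * y * g = y := by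
          rcases hg with rfl | rfl | rfl
          · rw [hrel1, hzse, h1, one_pow, mul_one]
          · simp
          · rw [mul_assoc, hyz, inv_mul_cancel_left]
        have : g⁻¹ * y ^ i * g = (g⁻¹ * y * g) ^ i := by
          have := conj_pow (a := g⁻¹) (b := y) (i := i)
          rw [inv_inv] at this; exact this.symm
        rw [this, hgy]
        exact pow_mem (mem_zpowers y) i
      have hle : T ≤ zpowers z ⊔ zpowers y := (closure_le _).mpr (by
        rintro g (rfl | rfl)
        · exact mem_sup_right (mem_zpowers _)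
        · exact mem_sup_left (mem_zpowers _))
      calc Nat.card T ≤ Nat.card ↥(zpowers z ⊔ zpowers y) := card_le_of_le hle
        _ ≤ Nat.card (zpowers z) * Nat.card (zpowers y) :=
          Nat.le_of_dvd (Nat.mul_pos Nat.card_pos Nat.card_pos) (Cores.card_sup_dvd_mul _ _)
        _ ≤ e * p := Nat.mul_le_mul (by
            rw [Nat.card_zpowers]
            exact Nat.le_of_dvd (pow_pos hp.out.pos _) (orderOf_dvd_of_pow_eq_one h1)) (hord y hy)
        _ = p * e := mul_comm _ _
    have : p ^ n ≤ p ^ (n - 1) := hcardle.trans (by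
      calc p * Nat.card T ≤ p * (p * e) := Nat.mul_le_mul_left _ hTle
        _ = p ^ (n - 1) := by rw [he, ← pow_succ', ← pow_succ']; congr 1; omega)
    exact absurd this (not_le.mpr (Nat.pow_lt_pow_right hp.out.one_lt (by omega)))
  have hts1 : t ^ s ≠ 1 := by
    intro h
    have hd := orderOf_dvd_of_pow_eq_one h
    rw [orderOf_eq_prime htp ht1] at hd
    exact hps hd
  -- the maps `v ↦ [v, x^k]`
  let ck : ℕ → T →* T := fun k => MonoidHom.mk'
    (fun v => ⟨(x ^ k)⁻¹ * v * x ^ k * (v : R)⁻¹, mul_mem (by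
      simpa using hTn.conj_mem v v.2 (x ^ k)⁻¹) (inv_mem v.2)⟩) fun a b => Subtype.ext (by
      have hm : ∀ v : T, (x ^ k)⁻¹ * (v : R) * x ^ k ∈ T := fun v => by
        simpa using hTn.conj_mem v v.2 (x ^ k)⁻¹
      simp only [Subgroup.coe_mul]
      rw [show (x ^ k)⁻¹ * ((a : R) * b) * x ^ k =
        ((x ^ k)⁻¹ * a * x ^ k) * ((x ^ k)⁻¹ * b * x ^ k) by group, mul_inv_rev]
      calc (x ^ k)⁻¹ * ↑a * x ^ k * ((x ^ k)⁻¹ * ↑b * x ^ k) * ((b : R)⁻¹ * (a : R)⁻¹)
          = (x ^ k)⁻¹ * ↑a * x ^ k * (((x ^ k)⁻¹ * ↑b * x ^ k * (b : R)⁻¹) * (a : R)⁻¹) := by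
            simp only [mul_assoc]
        _ = (x ^ k)⁻¹ * ↑a * x ^ k * ((a : R)⁻¹ * ((x ^ k)⁻¹ * ↑b * x ^ k * (b : R)⁻¹)) := by
            rw [hTcomm _ (mul_mem (hm b) (inv_mem b.2)) _ (inv_mem a.2)]
        _ = _ := by simp only [mul_assoc])
  have hck : ∀ k (v : T), ((ck k v : T) : R) = (x ^ k)⁻¹ * v * x ^ k * (v : R)⁻¹ := fun _ _ => rfl
  set c := ck 1 with hc
  have hcz : c ⟨z, hzT⟩ = ⟨y, hyT⟩ := Subtype.ext (by
    rw [hc, hck, pow_one, hrel2]; exact mul_inv_cancel_right y z)
  have hcy : c ⟨y, hyT⟩ = ⟨t ^ s, pow_mem htT s⟩ := Subtype.ext (by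
    rw [hc, hck, pow_one, hrel1, hzse, hTcomm y hyT _ (pow_mem htT s)]
    exact mul_inv_cancel_right (t ^ s) y)
  have hct : c ⟨t, htT⟩ = 1 := by
    have : (⟨t, htT⟩ : T) = ⟨z, hzT⟩ ^ e := Subtype.ext (by simp [ht])
    rw [this, map_pow, hcz]
    exact Subtype.ext (by simp [hye])
  have hcts : c ⟨t ^ s, pow_mem htT s⟩ = 1 := by
    have : (⟨t ^ s, pow_mem htT s⟩ : T) = ⟨t, htT⟩ ^ s := Subtype.ext (by simp)
    rw [this, map_pow, hct, one_pow]
  have hcT : ∀ a b : T, Commute a b := fun a b => Subtype.ext (hTcomm a a.2 b b.2)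
  have hTgen : ∀ {P : T → Prop}, P 1 → P ⟨y, hyT⟩ → P ⟨z, hzT⟩ →
      (∀ a b, P a → P b → P (a * b)) → (∀ a, P a → P a⁻¹) → ∀ v, P v := by
    intro P h1 hPy hPz hmul hinv v
    obtain ⟨v, hv⟩ := v
    induction hv using closure_induction with
    | mem w hw =>
      rcases hw with rfl | rfl
      · exact hPy
      · exact hPz
    | one => exact h1
    | mul a b ha hb iha ihb => exact hmul _ _ iha ihb
    | inv a ha iha => exact hinv _ iha
  have hcc : ∀ v : T, c (c v) = v ^ (s * e) := by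
    intro v
    refine hTgen (P := fun v => c (c v) = v ^ (s * e)) (by simp) ?_ ?_ ?_ ?_ v
    · rw [hcy, hcts]
      exact Subtype.ext (by simp [mul_comm s, pow_mul, hye])
    · rw [hcz, hcy]
      exact Subtype.ext (by simp [hzse])
    · intro a b ha hb
      rw [map_mul, map_mul, ha, hb, (hcT a b).mul_pow]
    · intro a ha
      rw [map_inv, map_inv, ha, inv_pow]
  have hcp : ∀ v : T, c v ^ e = 1 := by
    intro v
    refine hTgen (P := fun v => c v ^ e = 1) (by simp) ?_ ?_ ?_ ?_ v
    · rw [hcy]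
      exact Subtype.ext (by
        simp only [SubgroupClass.coe_pow, OneMemClass.coe_one]
        rw [← pow_mul, mul_comm, he', mul_assoc, pow_mul, htp, one_pow])
    · rw [hcz]; exact Subtype.ext (by simp [hye])
    · intro a b ha hb; rw [map_mul, (hcT _ _).mul_pow, ha, hb, one_mul]
    · intro a ha; rw [map_inv, inv_pow, ha, inv_one]
  have hccc : ∀ v : T, c (c (c v)) = 1 := fun v => by
    rw [hcc, mul_comm, pow_mul, hcp, one_pow]
  have hsucc : ∀ (k : ℕ) (v : T), ck (k + 1) v = c (ck k v) * ck k v * c v := by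
    intro k v
    apply Subtype.ext
    rw [Subgroup.coe_mul, Subgroup.coe_mul, hc, hck, hck, hck, hck]
    simp only [pow_one]
    rw [pow_succ]
    group
  have hcck : ∀ (k : ℕ) (v : T), c (ck k v) = c (c v) ^ k := by
    intro k
    induction k with
    | zero =>
      intro v
      have : ck 0 v = 1 := Subtype.ext (by rw [hck]; simp)
      rw [this, map_one, pow_zero]
    | succ k ih =>
      intro v
      rw [hsucc k v, map_mul, map_mul, ih v, map_pow, hccc, one_pow, one_mul, pow_succ]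
  have hckw : ∀ (k : ℕ) (w : T), c (c w) = 1 → ck k w = c w ^ k := by
    intro k
    induction k with
    | zero => intro w _; exact Subtype.ext (by rw [hck]; simp)
    | succ k ih =>
      intro w hw
      rw [hsucc k w, hcck k w, hw, one_pow, one_mul, ih w hw, pow_succ]
  have hckck : ∀ (k : ℕ) (v : T), ck k (ck k v) = v ^ (s * e * (k * k)) := by
    intro k v
    rw [hckw k _ (by rw [hcck k v, map_pow, hccc, one_pow]), hcck k v, ← pow_mul, hcc, ← pow_mul]
  -- `T` is invariant
  have hTinv : ∀ φ : MulAut R, ∀ w ∈ T, φ w ∈ T := by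
    intro φ
    by_contra hno
    push Not at hno
    obtain ⟨w, hwT, hw⟩ := hno
    haveI : (T.map φ.toMonoidHom).Normal := hTn.map _ φ.surjective
    have hnot : ¬ T.map φ.toMonoidHom ≤ T := fun h => hw (h ⟨w, hwT, rfl⟩)
    have hcomm' : ∀ a ∈ T.map φ.toMonoidHom, ∀ b ∈ T.map φ.toMonoidHom, a * b = b * a := by
      rintro _ ⟨a, ha, rfl⟩ _ ⟨b, hb, rfl⟩
      rw [← map_mul, hTcomm a ha b hb, map_mul]
    obtain ⟨i, l, hl, hil⟩ := hgenT (φ w)
    -- `I = T ∩ φ T` is killed by `c`
    have hIker : (T.map φ.toMonoidHom).subgroupOf T ≤ c.ker := by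
      intro v hv
      have h1 : (φ w) * (v : R) = v * φ w := hcomm' _ ⟨w, hwT, rfl⟩ _ hv
      have h3 : Commute (x ^ i) (v : R) := by
        have h2 : Commute l (v : R) := hTcomm l hl v v.2
        have hh : Commute (x ^ i * l) (v : R) := by rw [← hil]; exact h1
        have := hh.mul_left h2.inv_left
        rwa [mul_inv_cancel_right] at this
      have hpi : ¬ p ∣ i := by
        rintro ⟨m, rfl⟩
        refine hw ?_
        rw [hil, pow_mul, hx, one_pow, one_mul]
        exact hl
      obtain ⟨m, -, hm⟩ := Nat.exists_mul_mod_eq_one_of_coprime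
        (hp.out.coprime_iff_not_dvd.mpr hpi).symm hp.out.one_lt
      have h4 : Commute x (v : R) := by
        have := h3.pow_left m
        rwa [← pow_mul, pow_eq_pow_mod _ hx, hm, pow_one] at this
      rw [MonoidHom.mem_ker]
      apply Subtype.ext
      rw [hc, hck, pow_one, mul_assoc x⁻¹, ← h4.eq, inv_mul_cancel_left, mul_inv_cancel]
      rfl
    have hidx : Nat.card c.range ≤ p := by
      rw [← Nat.card_congr (QuotientGroup.quotientKerEquivRange c).toEquiv, ← index_eq_card]
      refine le_trans (Nat.le_of_dvd (Nat.pos_of_ne_zero index_ne_zero_of_finite)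
        (index_dvd_of_le hIker)) ?_
      refine Nat.le_of_dvd hp.out.pos ?_
      refine (relIndex_dvd_index_of_normal _ T).trans ?_
      have h1 : (T.map φ.toMonoidHom).index = T.index := by
        rw [index_map_of_bijective φ.bijective]
      rw [h1]
      have h2 := T.card_mul_index
      rw [hcard] at h2
      obtain ⟨m, -, hm⟩ := (Nat.dvd_prime_pow hp.out).mp (Dvd.intro_left _ h2)
      rw [hm]
      refine (pow_dvd_pow p (?_ : m ≤ 1)).trans (pow_one p).dvd
      have h3 : Nat.card T * p ^ m ≤ Nat.card T * p ^ 1 := by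
        rw [← hm, h2, pow_one, mul_comm]; exact hcardle
      exact (Nat.pow_le_pow_iff_right hp.out.one_lt).mp (Nat.le_of_mul_le_mul_left h3 Nat.card_pos)
    have hyt : y ∉ zpowers (t ^ s) := by
      intro h
      obtain ⟨m, hm⟩ := MetacyclicAction.exists_nat_pow h
      have hc1 : c ⟨y, hyT⟩ = 1 := by
        have : (⟨y, hyT⟩ : T) = ⟨t ^ s, pow_mem htT s⟩ ^ m := Subtype.ext (by simp [hm])
        rw [this, map_pow, hcts, one_pow]
      rw [hcy] at hc1
      exact hts1 (congrArg Subtype.val hc1)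
    have hle : zpowers (t ^ s) ≤ c.range.map T.subtype :=
      zpowers_le.mpr ⟨⟨t ^ s, pow_mem htT s⟩, ⟨_, hcy⟩, rfl⟩
    have hbig := PGroups.card_mul_le_card_of_mem hle (hR.to_subgroup _)
      (show y ∈ c.range.map T.subtype from ⟨⟨y, hyT⟩, ⟨_, hcz⟩, rfl⟩) hyt
    rw [card_map_of_injective T.subtype_injective, Nat.card_zpowers,
      orderOf_eq_prime (by rw [← pow_mul, mul_comm, pow_mul, htp, one_pow]) hts1] at hbig
    exact absurd (hbig.trans hidx) (not_le.mpr (lt_mul_of_one_lt_right hp.out.pos hp.out.one_lt))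
  -- the action on `x` modulo `T`
  let π := QuotientGroup.mk' T
  have hπT : ∀ w ∈ T, π w = 1 := fun w hw => (QuotientGroup.eq_one_iff w).mpr hw
  have hπxp : π x ^ p = 1 := by rw [← map_pow, hx, map_one]
  have hsq : ∀ a : A, ∃ k : ℕ, π (θ a x) = π x ^ k ∧ k * k ≡ 1 [MOD p] := by
    intro a
    obtain ⟨k, τ, hτ, hk⟩ := hgenT (θ a x)
    refine ⟨k, by rw [hk, map_mul, map_pow, hπT τ hτ, mul_one], ?_⟩
    have key : ∀ v : T, θ a ((c v : T) : R) =
        ((ck k ⟨θ a v, hTinv _ v v.2⟩ : T) : R) := by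
      intro v
      rw [hc, hck, hck, pow_one, map_mul, map_mul, map_mul, map_inv, map_inv, hk]
      have hm : (x ^ k)⁻¹ * θ a v * x ^ k ∈ T := by
        simpa using hTn.conj_mem _ (hTinv _ v v.2) (x ^ k)⁻¹
      calc (x ^ k * τ)⁻¹ * θ a v * (x ^ k * τ) * (θ a v)⁻¹
          = τ⁻¹ * (((x ^ k)⁻¹ * θ a v * x ^ k) * τ) * (θ a v)⁻¹ := by
            simp only [mul_inv_rev, mul_assoc]
        _ = τ⁻¹ * (τ * ((x ^ k)⁻¹ * θ a v * x ^ k)) * (θ a v)⁻¹ := by rw [hTcomm _ hm τ hτ]
        _ = _ := by rw [inv_mul_cancel_left]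
    set v : T := ⟨θ a z, hTinv _ z hzT⟩
    have h1 : θ a (t ^ s) = ((ck k (ck k v) : T) : R) := by
      have hy' : θ a y = ((ck k v : T) : R) := by
        have := key ⟨z, hzT⟩
        rw [hcz] at this
        exact this
      have := key ⟨y, hyT⟩
      rw [hcy] at this
      refine this.trans ?_
      congr 2
      exact Subtype.ext hy'
    rw [hckck, SubgroupClass.coe_pow, pow_mul] at h1
    change θ a (t ^ s) = (θ a z ^ (s * e)) ^ (k * k) at h1
    rw [← map_pow, hzse] at h1
    set u := θ a (t ^ s) with hu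
    have hu1 : u ≠ 1 := fun h => hts1 ((θ a).map_eq_one_iff.mp h)
    have hup : u ^ p = 1 := by rw [hu, ← map_pow, ← pow_mul, mul_comm, pow_mul, htp, one_pow, map_one]
    have h2 : u ^ (k * k) = u ^ 1 := by rw [pow_one]; exact h1.symm
    rw [pow_eq_pow_iff_modEq, orderOf_eq_prime hup hu1] at h2
    exact h2
  have hfixgen : ∀ a : A, π (θ a x) = π x := by
    intro a
    obtain ⟨b, hb⟩ : ∃ b : A, b ^ 2 = a := by
      obtain ⟨m, hm⟩ := exists_pow_eq_self_of_coprime (x := a) (n := 2)
        (Nat.coprime_two_left.mpr (hodd.of_dvd_nat (orderOf_dvd_natCard a)))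
      exact ⟨a ^ m, by rw [← pow_mul, mul_comm, pow_mul, hm]⟩
    obtain ⟨k, hk1, hk2⟩ := hsq b
    obtain ⟨k', τ, hτ, hk'⟩ := hgenT (θ b x)
    have hkk' : π x ^ k' = π x ^ k := by
      rw [← hk1, hk', map_mul, map_pow, hπT τ hτ, mul_one]
    rw [← hb, pow_two, map_mul, MulAut.mul_apply, hk', map_mul, map_pow, map_mul, map_pow,
      hπT _ (hTinv _ τ hτ), mul_one, hk1, ← pow_mul, mul_comm k, pow_mul, hkk', ← pow_mul]
    conv_rhs => rw [← pow_one (π x)]
    rw [pow_eq_pow_iff_modEq]
    exact hk2.of_dvd (orderOf_dvd_of_pow_eq_one hπxp)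
  have htop : (⊤ : Subgroup R) ≤ T := by
    rw [← hfull, closure_le]
    rintro _ ⟨g, a, rfl⟩
    obtain ⟨i, l, hl, rfl⟩ := hgenT g
    rw [SetLike.mem_coe, ← QuotientGroup.eq_one_iff]
    change π (x ^ i * l * θ a (x ^ i * l)⁻¹) = 1
    simp only [map_mul, map_inv, map_pow, hπT l hl, hπT _ (hTinv (θ a) l hl), mul_one,
      hfixgen a, mul_inv_cancel]
  have hab : x * z = z * x := hTcomm x (htop (mem_top x)) z hzT
  have : x⁻¹ * z * x = z := by rw [mul_assoc, ← hab, inv_mul_cancel_left]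
  rw [hrel2] at this
  have hy1 : y = 1 := mul_eq_right.mp this
  have := congrArg Subtype.val hcy
  rw [hc, hck, pow_one] at this
  simp only [hy1, mul_one, inv_one] at this
  exact hts1 (by simpa using this.symm)

end Cfsg.Agent.Lib.OddLocal.RankTwoAut
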