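import Mathlib
import Cfsg.Prelude.Def_OddOrderLocal
import Cfsg.Agent.Lib.OddLocal.DerivedFitting
import Cfsg.Agent.Lib.OddLocal.NarrowAut

/-!
Sylow towers of solvable groups of odd order with narrow cores.
-/

set_option autoImplicit false

universe u

namespace Cfsg.Agent.Lib.OddLocal.RankTwoTower

open Subgroup
open scoped commutatorElement

variable {G : Type u} [Group G] [Finite G]

/-- A `q`-element normalizing a narrow `r`-group, `q > r` prime, centralizes it. -/
theorem centralizes_of_lt {r : ℕ} [Fact r.Prime] (hr2 : r ≠ 2) {R : Subgroup G}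
    (hR : IsPGroup r R) (hn : Cfsg.IsNarrow r R) {c : G} (hc : c ∈ normalizer (R : Set G))
    {q j : ℕ} (hq : q.Prime) (hrq : r < q) (hcq : orderOf c = q ^ j) :
    c ∈ centralizer (R : Set G) := by
  have hr := (Fact.out : r.Prime)
  refine NarrowAut.centralizes_of_small_sections hr2 hR hn hc
    (hcq ▸ Nat.Coprime.pow_left j ((Nat.coprime_primes hq hr).mpr hrq.ne'))
    fun M N hNM _ hM hN hMN hexp hrel => ?_
  have hle : zpowers c ≤ normalizer (R : Set G) := zpowers_le.mpr hc
  obtain ⟨Q, _, f, hQf, hQe, hQc, hf⟩ :=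
    NarrowAut.exists_sectionHom hNM (hle.trans hM) (hle.trans hN) hMN hexp
  haveI := hQf
  refine hf ⟨c, mem_zpowers c⟩ ?_
  by_contra h1
  set fc := f ⟨c, mem_zpowers c⟩
  have hd : orderOf fc ∣ q ^ j := by
    refine (orderOf_map_dvd f _).trans ?_
    rw [← Subgroup.orderOf_coe, hcq]
  obtain ⟨i, hi, hfc⟩ := (Nat.dvd_prime_pow hq).mp hd
  obtain ⟨i', rfl⟩ : ∃ i', i = i' + 1 := by
    refine ⟨i - 1, (Nat.succ_pred_eq_of_ne_zero ?_).symm⟩
    rintro rfl
    exact h1 (orderOf_eq_one_iff.mp (by rw [hfc, pow_zero]))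
  have hψ : orderOf (fc ^ q ^ i') = q := by
    rw [orderOf_pow' _ (pow_ne_zero _ hq.ne_zero), hfc, Nat.gcd_eq_right (pow_dvd_pow q i'.le_succ),
      pow_succ', Nat.mul_div_cancel _ (pow_pos hq.pos i')]
  have hdvd := NarrowAut.prime_dvd_mulAut hQe (hQc ▸ hrel) (φ := fc ^ q ^ i') (hψ.symm ▸ hq)
    (hψ.symm ▸ hrq.ne')
  rw [hψ] at hdvd
  have h2 := hr.two_le
  rcases hq.dvd_mul.mp hdvd with h | h
  · exact absurd (Nat.le_of_dvd (by omega) h) (by omega)
  · have hle' : q ≤ r + 1 := Nat.le_of_dvd (by omega) h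
    obtain rfl : q = r + 1 := by omega
    rcases (hr.odd_of_ne_two hr2).add_one with ⟨t, ht⟩
    rcases hq.eq_two_or_odd with h3 | h3
    · omega
    · omega

/-- `closure {x | (orderOf x).Coprime m.factorial}` has order prime to `m.factorial` when the cores are narrow. -/
theorem card_coprime [Group.IsSolvable G] (hodd : Odd (Nat.card G))
    (hn : ∀ q : ℕ, q.Prime → q ≠ 2 → Cfsg.IsNarrow q ↥(Cfsg.pCore q G)) (m : ℕ) :
    ∀ r : ℕ, r.Prime → r ≤ m → ¬ r ∣ Nat.card (closure {x : G | (orderOf x).Coprime m.factorial}) := by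
  set N := closure {x : G | (orderOf x).Coprime m.factorial} with hN
  intro r hr hrm hdvd
  haveI : Fact r.Prime := ⟨hr⟩
  have hGF := DerivedFitting.commutator_le_fitting hodd hn
  set F := Cfsg.fittingSubgroup G with hF
  haveI : F.Normal := by rw [hF, Cores.fittingSubgroup_eq_iSup_pCore]; infer_instance
  have hr2 : r ≠ 2 := by
    rintro rfl
    exact Nat.not_even_iff_odd.mpr hodd
      (even_iff_two_dvd.mpr (hdvd.trans N.card_subgroup_dvd_card))
  let π := QuotientGroup.mk' F
  have hcomm : ∀ a b : G, Commute (π a) (π b) := fun a b =>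
    commutatorElement_eq_one_iff_mul_comm.mp (by
      rw [← map_commutatorElement]
      exact (QuotientGroup.eq_one_iff _).mpr (hGF (by
        rw [commutator_eq_closure]; exact subset_closure ⟨a, b, rfl⟩)))
  have hmod : ∀ y ∈ N, (orderOf (π y)).Coprime m.factorial := by
    intro y hy
    induction hy using closure_induction with
    | mem x hx => exact Nat.Coprime.coprime_dvd_left (orderOf_map_dvd π x) hx
    | one => simp
    | mul a b _ _ iha ihb =>
      rw [map_mul]
      exact Nat.Coprime.coprime_dvd_left (hcomm a b).orderOf_mul_dvd_lcm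
        (Nat.Coprime.coprime_dvd_left (Nat.lcm_dvd_mul _ _) (iha.mul_left ihb))
    | inv a _ ih => rwa [map_inv, orderOf_inv]
  -- the Sylow `r`-subgroup of `N` is central
  let R : Sylow r N := default
  have hRF : ∀ y ∈ (R : Subgroup N), (y : G) ∈ Cfsg.pCore r G := by
    intro y hy
    obtain ⟨k, hk⟩ := IsPGroup.iff_card.mp R.isPGroup'
    obtain ⟨i, -, hi⟩ := (Nat.dvd_prime_pow hr).mp (hk ▸ (R : Subgroup N).orderOf_dvd_natCard hy)
    refine DerivedFitting.mem_pCore_of_mem_fitting ?_ ⟨i, by rw [Subgroup.orderOf_coe, hi]⟩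
    refine (QuotientGroup.eq_one_iff _).mp (orderOf_eq_one_iff.mp ?_)
    refine Nat.eq_one_of_dvd_coprimes ((hmod y y.2).coprime_dvd_right
      ((Nat.dvd_factorial hr.pos hrm)) |>.pow_right i) dvd_rfl ?_
    refine (orderOf_map_dvd π (y : G)).trans ?_
    rw [Subgroup.orderOf_coe, hi]
  have hcen : N ≤ centralizer ((Cfsg.pCore r G : Subgroup G) : Set G) := by
    rw [hN, closure_le]
    intro x hx
    refine DerivedFitting.mem_of_primePow_parts fun q hq z hz ⟨j, hj⟩ => ?_
    rcases Nat.eq_zero_or_pos j with rfl | hj0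
    · rw [pow_zero, orderOf_eq_one_iff] at hj
      rw [hj]; exact one_mem _
    refine centralizes_of_lt hr2 (Cores.pCore_isPGroup r) (hn r hr hr2)
      (by rw [normalizer_eq_top]; exact mem_top z) hq ?_ hj
    by_contra hle
    have hdz : q ∣ orderOf x := by
      have hd : orderOf z ∣ orderOf x := by
        rw [← Nat.card_zpowers x]; exact (zpowers x).orderOf_dvd_natCard hz
      exact (hj ▸ dvd_pow_self q hj0.ne').trans hd
    exact hq.not_dvd_one ((Nat.Coprime.coprime_dvd_left hdz hx).eq_one_of_dvd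
      (Nat.dvd_factorial hq.pos ((not_lt.mp hle).trans hrm)) ▸ dvd_rfl)
  have hRcen : (R : Subgroup N) ≤ Subgroup.center N := fun y hy => mem_center_iff.mpr fun z =>
    Subtype.ext (mem_centralizer_iff.mp (hcen z.2) y (hRF y hy)).symm
  haveI hRn : (R : Subgroup N).Normal := ⟨fun y hy g => by
    rwa [mem_center_iff.mp (hRcen hy) g, mul_inv_cancel_right]⟩
  obtain ⟨H, hH⟩ := exists_right_complement'_of_coprime
    (Nat.Coprime.symm (Sylow.card_coprime_index R).symm)
  haveI hHn : H.Normal := ⟨fun h hh g => by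
    obtain ⟨⟨⟨a, ha⟩, ⟨b, hb⟩⟩, rfl⟩ := hH.surjective g
    have := mem_center_iff.mp (hRcen ha) (b * h * b⁻¹)
    rw [show a * b * h * (a * b)⁻¹ = a * (b * h * b⁻¹) * a⁻¹ by group, ← this,
      mul_inv_cancel_right]
    exact mul_mem (mul_mem hb hh) (inv_mem hb)⟩
  have hidx : Nat.card (N ⧸ H) = Nat.card (R : Subgroup N) := by
    rw [← index_eq_card]; exact hH.index_eq_card
  have hgenH : N ≤ H.map N.subtype := by
    conv_lhs => rw [hN]
    rw [closure_le]
    intro x hx
    refine ⟨⟨x, subset_closure hx⟩, (QuotientGroup.eq_one_iff _).mp (orderOf_eq_one_iff.mp ?_), rfl⟩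
    obtain ⟨k, hk⟩ := IsPGroup.iff_card.mp R.isPGroup'
    refine Nat.eq_one_of_dvd_coprimes ((Nat.Coprime.coprime_dvd_right
      (Nat.dvd_factorial hr.pos hrm) hx).pow_right k) ?_ (hk ▸ hidx ▸ orderOf_dvd_natCard _)
    refine (orderOf_map_dvd (QuotientGroup.mk' H) ⟨x, subset_closure hx⟩).trans ?_
    rw [← Subgroup.orderOf_coe]
  have htop : H = ⊤ := by
    rw [eq_top_iff]
    intro y _
    obtain ⟨z, hz, hzy⟩ := hgenH y.2
    rwa [← Subtype.ext hzy]
  rw [htop] at hH
  have h1 : r ∣ Nat.card (R : Subgroup N) := R.dvd_card_of_dvd_card hdvd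
  rw [← hidx, htop] at h1
  rw [← index_eq_card, index_top] at h1
  exact hr.not_dvd_one h1

end Cfsg.Agent.Lib.OddLocal.RankTwoTower
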