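import Mathlib
import Cfsg.Prelude.Def_OddOrderLocal
import Cfsg.Agent.Lib.OddLocal.RankTwoAut
import Cfsg.Agent.Lib.OddLocal.RankTwoTower
import Cfsg.Agent.Lib.OddLocal.MetacyclicDecomp

/-!
`p`-groups of rank at most two equal to their commutator with a coprime group of odd order.
-/

set_option autoImplicit false

universe u

namespace Cfsg.Agent.Lib.OddLocal.RankTwoFull

open Subgroup
open scoped commutatorElement

variable {G : Type u} [Group G] [Finite G] {p : ℕ} [hp : Fact p.Prime]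

theorem prime_gt_three (hp2 : p ≠ 2) {R A : Subgroup G} (hR : IsPGroup p R) (hR1 : R ≠ ⊥)
    (hn : Cfsg.IsNarrow p R) (hA : A ≤ normalizer (R : Set G)) (hcop : (Nat.card A).Coprime p)
    (hodd : Odd (Nat.card A)) (hRA : ⁅R, A⁆ = R) : 3 < p := by
  by_contra h
  have h3 : p = 3 := by
    have h2 := hp.out.two_le
    omega
  refine hR1 ?_
  rw [← hRA, commutator_comm, commutator_eq_bot_iff_le_centralizer]
  intro a ha
  refine DerivedFitting.mem_of_primePow_parts fun q hq z hz ⟨j, hj⟩ => ?_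
  rcases Nat.eq_zero_or_pos j with rfl | hj0
  · rw [pow_zero, orderOf_eq_one_iff] at hj
    rw [hj]; exact one_mem _
  have hzA : z ∈ A := zpowers_le.mpr ha hz
  have hqd : q ∣ Nat.card A := (hj ▸ dvd_pow_self q hj0.ne').trans (A.orderOf_dvd_natCard hzA)
  refine RankTwoTower.centralizes_of_lt hp2 hR hn (hA hzA) hq ?_ hj
  rcases hq.eq_two_or_odd with h2 | h2
  · exact absurd (even_iff_two_dvd.mpr (h2 ▸ hqd)) (Nat.not_even_iff_odd.mpr hodd)
  · have hne : q ≠ p := fun he =>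
      hp.out.coprime_iff_not_dvd.mp hcop.symm (he ▸ hqd)
    have := hq.two_le
    omega

/-- Structure theorem. -/
theorem structure_of_full (hp2 : p ≠ 2) {R A : Subgroup G} (hR : IsPGroup p R) (hR1 : R ≠ ⊥)
    (hr : Cfsg.PRankLE p 2 R) (hA : A ≤ normalizer (R : Set G))
    (hcop : (Nat.card A).Coprime p) (hodd : Odd (Nat.card A)) (hRA : ⁅R, A⁆ = R) :
    3 < p ∧ (IsMulCommutative R ∨ ∃ R₁ R₂ : Subgroup G, R₁ ⊔ R₂ = R ∧
      (∀ a ∈ R₁, ∀ b ∈ R₂, a * b = b * a) ∧ ¬ IsMulCommutative R₁ ∧ Nat.card R₁ = p ^ 3 ∧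
      Monoid.exponent R₁ = p ∧ IsCyclic R₂ ∧
      closure {x : G | x ∈ R₂ ∧ x ^ p = 1} = ⁅R₁, R₁⁆) := by
  have hp3 := prime_gt_three hp2 hR hR1 (Or.inl hr) hA hcop hodd hRA
  refine ⟨hp3, ?_⟩
  by_cases hab : IsMulCommutative R
  · exact Or.inl hab
  refine Or.inr ?_
  have hnc : ¬ ∀ a b : R, a * b = b * a := fun h => hab ⟨⟨h⟩⟩
  obtain ⟨n, hn⟩ := IsPGroup.iff_card.mp hR
  let θ : A →* MulAut R := R.normalizerMonoidHom.comp (inclusion hA)
  have hfull : closure {x : R | ∃ g a, x = g * θ a g⁻¹} = ⊤ := by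
    apply map_injective R.subtype_injective
    rw [MonoidHom.map_closure, ← MonoidHom.range_eq_map, range_subtype]
    refine le_antisymm ((closure_le _).mpr ?_) ?_
    · rintro _ ⟨x, -, rfl⟩
      exact x.2
    · conv_lhs => rw [← hRA]
      rw [commutator_le]
      intro k hk a ha
      refine subset_closure ⟨⟨k, hk⟩ * θ ⟨a, ha⟩ ⟨k, hk⟩⁻¹, ⟨⟨k, hk⟩, ⟨a, ha⟩, rfl⟩, ?_⟩
      show k * (a * k⁻¹ * a⁻¹) = ⁅k, a⁆
      rw [commutatorElement_def]; group
  rcases Cfsg.Agent.S3888.result (G := R) hp2 n hn hr with h | h | h | h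
  · exact absurd (MetacyclicDecomp.isMulCommutative_of_eq hp2 hR h hA hcop hRA) hab
  · obtain ⟨hn3, x, y, z, hgen, hx, hy, hz, hxz, hyz, hrel⟩ := h
    obtain ⟨R₁, R₂, h1, h2, h3, h4, h5, h6, h7⟩ :=
      RankTwoAut.central_product hp2 hR hn3 hnc hgen hx hy hz hxz hyz hrel
    refine ⟨R₁.map R.subtype, R₂.map R.subtype, ?_, ?_, ?_, ?_, ?_, ?_, ?_⟩
    · rw [← Subgroup.map_sup, h1, ← MonoidHom.range_eq_map, range_subtype]
    · rintro _ ⟨a, ha, rfl⟩ _ ⟨b, hb, rfl⟩
      rw [← map_mul, ← map_mul, h2 a ha b hb]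
    · intro h
      refine h3 ⟨⟨fun a b => Subtype.ext (R.subtype_injective ?_)⟩⟩
      simpa using congrArg Subtype.val (h.is_comm.comm ⟨_, mem_map_of_mem R.subtype a.2⟩
        ⟨_, mem_map_of_mem R.subtype b.2⟩)
    · rw [card_map_of_injective R.subtype_injective, h4]
    · haveI : Nontrivial R₁ := Finite.one_lt_card_iff_nontrivial.mp
        (h4 ▸ Nat.one_lt_pow (by norm_num) hp.out.one_lt)
      rw [← Monoid.exponent_eq_of_mulEquiv (R₁.equivMapOfInjective R.subtype R.subtype_injective),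
        Monoid.exponent_eq_prime_iff hp.out]
      intro g hg
      exact orderOf_eq_prime (Subtype.ext (h5 g g.2)) hg
    · haveI := h6
      exact isCyclic_of_surjective _
        (R₂.equivMapOfInjective R.subtype R.subtype_injective).surjective
    · rw [← map_commutator, ← h7, MonoidHom.map_closure]
      congr 1
      ext v
      constructor
      · rintro ⟨⟨w, hw, rfl⟩, hv⟩
        exact ⟨w, ⟨hw, R.subtype_injective (by rw [map_pow, hv, map_one])⟩, rfl⟩
      · rintro ⟨w, ⟨hw, hwp⟩, rfl⟩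
        exact ⟨mem_map_of_mem _ hw, by rw [← map_pow, hwp, map_one]⟩
  · obtain ⟨hn4, s, x, y, z, hs, hgen, hx, hy, hz, hyz, hrel1, hrel2⟩ := h
    exact (RankTwoAut.second_family_false hn4 hs hn hgen hx hy hz hyz hrel1 hrel2 hodd θ hfull).elim
  · omega

end Cfsg.Agent.Lib.OddLocal.RankTwoFull
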