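import Mathlib
import Cfsg.Prelude.Def_OddOrderLocal
import Cfsg.Agent.Lib.OddLocal.NarrowAut
import Cfsg.Agent.Lib.OddLocal.NarrowRank
import Cfsg.Agent.Lib.OddLocal.RankTwoFull

/-!
Automorphisms of order prime to `p` of narrow `p`-groups of rank at least three.
-/

set_option autoImplicit false

universe u

namespace Cfsg.Agent.Lib.OddLocal.NarrowBig

open Subgroup
open scoped commutatorElement

variable {G : Type u} [Group G] [Finite G] {p : ℕ} [hp : Fact p.Prime]

/-- In a narrow group of rank above two, an element of order prime to `p` trivial on the invariant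
sections of order at most `p` centralizes. -/
theorem centralizes_of_prime_sections (hp2 : p ≠ 2) {R : Subgroup G} (hR : IsPGroup p R)
    (hn : Cfsg.IsNarrow p R) (hr : ¬ Cfsg.PRankLE p 2 R) {c : G}
    (hc : c ∈ normalizer (R : Set G)) (hcp : (orderOf c).Coprime p)
    (htriv : ∀ M N : Subgroup G, N ≤ M → M ≤ R →
      normalizer (R : Set G) ≤ normalizer (M : Set G) →
      normalizer (R : Set G) ≤ normalizer (N : Set G) → ⁅M, M⁆ ≤ N → (∀ m ∈ M, m ^ p ∈ N) →
      N.relIndex M ≤ p → ∀ m ∈ M, ⁅c, m⁆ ∈ N) :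
    c ∈ centralizer (R : Set G) := by
  haveI := hR.isNilpotent
  have hcopR : (orderOf c).Coprime (Nat.card R) := by
    obtain ⟨n, hn'⟩ := IsPGroup.iff_card.mp hR
    rw [hn']; exact hcp.pow_right n
  obtain ⟨U, hUR, hexp, hclass, hNU, hfin⟩ := NarrowAut.exists_reduction hp2 hR
  refine hfin c hc hcp ?_
  obtain ⟨r, hrR, hrp, hrS⟩ := NarrowAut.exists_narrow_element hn hr
  obtain ⟨A, hAR, hAe, hAc⟩ := OddOrder.Rank.exists_elemAb_of_not_prankLE hr
  have hr1 : r ≠ 1 := by
    intro h
    exact absurd (hrS A hAR fun a ha => ⟨hAe.2 a ha, h ▸ Commute.one_left a⟩) (not_le.mpr hAc)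
  have hrank : ∀ S : Subgroup G, S ≤ R → (∀ s ∈ S, s ^ p = 1 ∧ Commute r s) → r ∉ S →
      Nat.card S ≤ p := by
    intro S hSR hS hrS'
    have hle : S ⊔ zpowers r ≤ R := sup_le hSR (zpowers_le.mpr hrR)
    have hall : ∀ s ∈ S ⊔ zpowers r, s ^ p = 1 ∧ Commute r s := by
      have hcl : S ⊔ zpowers r ≤ centralizer ({r} : Set G) := sup_le
        (fun s hs => mem_centralizer_singleton_iff.mpr (hS s hs).2.eq.symm)
        (zpowers_le.mpr (mem_centralizer_singleton_iff.mpr rfl))
      intro s hs
      refine ⟨?_, (mem_centralizer_singleton_iff.mp (hcl hs)).symm⟩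
      have hnorm : S ≤ normalizer ((zpowers r : Subgroup G) : Set G) :=
        le_trans (fun a ha => mem_centralizer_iff.mpr fun b hb => by
          obtain ⟨k, rfl⟩ := mem_zpowers_iff.mp hb
          exact ((hS a ha).2.zpow_left k).eq) (centralizer_le_normalizer _)
      rw [← SetLike.mem_coe, coe_mul_of_left_le_normalizer_right _ _ hnorm] at hs
      obtain ⟨a, ha, b, hb, rfl⟩ := hs
      obtain ⟨k, rfl⟩ := mem_zpowers_iff.mp hb
      rw [(((hS a ha).2.zpow_left k).symm).mul_pow, (hS a ha).1, one_mul, ← zpow_natCast,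
        ← zpow_mul, mul_comm, zpow_mul, zpow_natCast, hrp, one_zpow]
    have h1 := hrS _ hle hall
    have h2 := PGroups.card_mul_le_card_of_mem (le_sup_left : S ≤ S ⊔ zpowers r) (hR.to_le hle)
      ((le_sup_right : zpowers r ≤ S ⊔ zpowers r) (mem_zpowers r)) hrS'
    exact Nat.le_of_mul_le_mul_right (h2.trans (by rw [← pow_two]; exact h1)) hp.out.pos
  have hno : ∀ W : Subgroup G, Nat.card W ≤ p → ¬ ∀ g ∈ R, ⁅r, g⁆ ∈ W := by
    intro W hW hall
    have h1 : Nat.card A ≤ Nat.card ↥(A ⊓ centralizer ({r} : Set G)) * p :=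
      (NarrowAut.card_le_centralizer_mul (V := A) (W := W) fun a ha => by
        rw [← commutatorElement_inv]; exact inv_mem (hall a (hAR ha))).trans (Nat.mul_le_mul_left _ hW)
    obtain ⟨n, hn'⟩ := PGroups.elemAb_card_eq_pow hAe
    have h3 : 3 ≤ n := (Nat.pow_lt_pow_iff_right hp.out.one_lt).mp (hn' ▸ hAc)
    have hS : ∀ s ∈ A ⊓ centralizer ({r} : Set G), s ^ p = 1 ∧ Commute r s := fun s hs =>
      ⟨hAe.2 s hs.1, (mem_centralizer_singleton_iff.mp hs.2).symm⟩
    have h4 : p ^ 2 * p ≤ Nat.card ↥(A ⊓ centralizer ({r} : Set G)) * p := by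
      rw [← pow_succ]; exact le_trans (hn' ▸ Nat.pow_le_pow_right hp.out.pos h3) h1
    have h5 := Nat.le_of_mul_le_mul_right h4 hp.out.pos
    by_cases hrA : r ∈ A
    · exact absurd (hrS A hAR fun a ha =>
        ⟨hAe.2 a ha, PGroups.elemAb_comm hAe hrA ha⟩) (not_le.mpr hAc)
    · have h6 := hrank _ (inf_le_left.trans hAR) hS fun h => hrA h.1
      exact absurd (h5.trans h6) (not_le.mpr (by nlinarith [hp.out.two_le]))
  suffices ∀ (n : ℕ) (V : Subgroup G), Nat.card V = n → V ≤ U →
      normalizer (R : Set G) ≤ normalizer (V : Set G) → ∀ v ∈ V, c * v = v * c from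
    this _ U rfl le_rfl hNU
  intro n
  induction n using Nat.strong_induction_on with
  | _ n ih =>
  intro V hVn hVU hNV v hv
  by_cases hV : V = ⊥
  · rw [hV, mem_bot] at hv
    rw [hv, mul_one, one_mul]
  set W := ⁅V, R⁆ with hW
  have hWV : W ≤ V := le_normalizer_iff_commutator_le_left.mp (le_normalizer.trans hNV)
  have hWne : ¬ V ≤ W := fun h => hV (NarrowAut.eq_bot_of_le_commutator (hVU.trans hUR) h)
  have hNW : normalizer (R : Set G) ≤ normalizer (W : Set G) :=
    fun g hg => NarrowAut.le_normalizer_commutator (hNV hg) hg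
  have hrel : W.relIndex V ≤ p := by
    have h2 := relIndex_mul_relIndex ⊥ W V bot_le hWV
    rw [relIndex_bot_left, relIndex_bot_left] at h2
    refine Nat.le_of_mul_le_mul_left ?_ (Nat.card_pos (α := W))
    rw [h2]
    have hfib := NarrowAut.card_le_centralizer_mul (V := V) (W := W) (r := r)
      fun v hv => commutator_mem_commutator hv hrR
    have hprop : ∀ s ∈ V ⊓ centralizer ({r} : Set G), s ^ p = 1 ∧ Commute r s := fun s hs =>
      ⟨hexp s (hVU hs.1), (mem_centralizer_singleton_iff.mp hs.2).symm⟩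
    by_cases hrV : r ∈ V
    · have hC2 := hrS _ (inf_le_left.trans (hVU.trans hUR)) hprop
      have hrder : r ∉ ⁅V, V⁆ := by
        intro h
        have hc' : V ≤ centralizer ({r} : Set G) := fun v hv => mem_centralizer_singleton_iff.mpr
          (hclass r (commutator_mono hVU hVU h) v (hVU hv)).eq.symm
        have hVc : Nat.card V ≤ p ^ 2 := by
          rw [inf_eq_left.mpr hc'] at hC2
          exact hC2
        have hab : ∀ a ∈ V, ∀ b ∈ V, ⁅a, b⁆ = 1 := by
          obtain ⟨k, hk⟩ := IsPGroup.iff_card.mp (hR.to_le (hVU.trans hUR))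
          have hk2 : k ≤ 2 := (Nat.pow_le_pow_iff_right hp.out.one_lt).mp (hk ▸ hVc)
          intro a ha b hb
          rw [commutatorElement_eq_one_iff_mul_comm]
          interval_cases k
          · haveI : Subsingleton V := (Nat.card_eq_one_iff_unique.mp hk).1
            exact congrArg Subtype.val (Subsingleton.elim ((⟨a, ha⟩ : V) * ⟨b, hb⟩) (⟨b, hb⟩ * ⟨a, ha⟩))
          · rw [pow_one] at hk
            haveI : IsCyclic V := isCyclic_of_prime_card hk
            exact congrArg Subtype.val (IsCyclic.commGroup.mul_comm (⟨a, ha⟩ : V) ⟨b, hb⟩)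
          · exact congrArg Subtype.val
              ((IsPGroup.commGroupOfCardEqPrimeSq hk).mul_comm (⟨a, ha⟩ : V) ⟨b, hb⟩)
        refine hr1 ((?_ : ⁅V, V⁆ ≤ ⊥) h)
        rw [commutator_le]
        exact fun a ha b hb => mem_bot.mpr (hab a ha b hb)
      have hder : Nat.card ↥⁅V, V⁆ ≤ p := hrank _ (((NarrowAut.comm_le V).trans hVU).trans hUR)
        (fun s hs => ⟨hexp s (hVU (NarrowAut.comm_le V hs)),
          (hclass s (commutator_mono hVU hVU hs) r (hVU hrV)).symm⟩) hrder
      have hV3 : Nat.card V ≤ p ^ 2 * p :=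
        (NarrowAut.card_le_centralizer_mul (V := V) (W := ⁅V, V⁆) (r := r)
          fun v hv => commutator_mem_commutator hv hrV).trans (Nat.mul_le_mul hC2 hder)
      have hW2 : p ^ 2 ≤ Nat.card W := by
        obtain ⟨k, hk⟩ := IsPGroup.iff_card.mp (hR.to_le (hWV.trans (hVU.trans hUR)))
        rw [hk]
        refine Nat.pow_le_pow_right hp.out.pos ?_
        by_contra hk2
        refine hno W ?_ fun g hg => commutator_mem_commutator hrV hg
        rw [hk]
        exact (Nat.pow_le_pow_right hp.out.pos (by omega : k ≤ 1)).trans (pow_one p).le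
      exact hV3.trans (Nat.mul_le_mul_right p hW2)
    · have h3 : Nat.card ↥(V ⊓ centralizer ({r} : Set G)) ≤ p :=
        hrank _ (inf_le_left.trans (hVU.trans hUR)) hprop fun h => hrV h.1
      rw [mul_comm (Nat.card W)]
      exact hfib.trans (Nat.mul_le_mul_right _ h3)
  have hsec := htriv V W hWV (hVU.trans hUR) hNV hNW (commutator_mono le_rfl (hVU.trans hUR))
    (fun m hm => by rw [hexp m (hVU hm)]; exact one_mem _) hrel
  refine NarrowAut.fix_of_section (hWV.trans (hVU.trans hUR)) hcopR hsec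
    (fun w hw => ih (Nat.card W) ?_ W rfl (hWV.trans hVU) hNW w hw) v hv
  rw [← hVn]
  exact lt_of_le_of_ne (card_le_of_le hWV) fun h => hWne (eq_of_le_of_card_ge hWV h.ge).ge

/-- The `(p-1)`-st powers of the `p'`-elements normalizing `R` centralize it. -/
theorem pow_sub_one_centralizes (hp2 : p ≠ 2) {R : Subgroup G} (hR : IsPGroup p R)
    (hn : Cfsg.IsNarrow p R) (hr : ¬ Cfsg.PRankLE p 2 R) {a : G}
    (ha : a ∈ normalizer (R : Set G)) (hap : (orderOf a).Coprime p) :
    a ^ (p - 1) ∈ centralizer (R : Set G) := by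
  refine centralizes_of_prime_sections hp2 hR hn hr (pow_mem ha _)
    (hap.coprime_dvd_left (orderOf_pow_dvd _)) fun M N hNM _ hM hN hMN hexp hrel => ?_
  have hle : zpowers a ≤ normalizer (R : Set G) := zpowers_le.mpr ha
  obtain ⟨Q, _, f, hQf, hQe, hQc, hf⟩ :=
    NarrowAut.exists_sectionHom hNM (hle.trans hM) (hle.trans hN) hMN hexp
  haveI := hQf
  refine hf ⟨a ^ (p - 1), pow_mem (mem_zpowers a) _⟩ ?_
  rw [show (⟨a ^ (p - 1), pow_mem (mem_zpowers a) _⟩ : zpowers a) =
    ⟨a, mem_zpowers a⟩ ^ (p - 1) from rfl, map_pow]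
  obtain ⟨k, hk⟩ := IsPGroup.iff_card.mp (fun q : Q => (⟨1, by rw [pow_one]; exact hQe q⟩ :
    ∃ k, q ^ p ^ k = 1))
  have hk1 : k ≤ 1 := (Nat.pow_le_pow_iff_right hp.out.one_lt).mp (by
    rw [pow_one, ← hk, hQc]; exact hrel)
  interval_cases k
  · haveI : Subsingleton Q := (Nat.card_eq_one_iff_unique.mp hk).1
    exact MulEquiv.ext fun x => Subsingleton.elim _ _
  · rw [pow_one] at hk
    haveI : IsCyclic Q := isCyclic_of_prime_card hk
    haveI : NeZero (Nat.card Q) := ⟨Nat.card_pos.ne'⟩
    apply (IsCyclic.mulAutMulEquiv Q).injective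
    rw [map_pow, map_one]
    have htot : (Nat.card Q).totient = p - 1 := by rw [hk, Nat.totient_prime hp.out]
    rw [← htot, ← ZMod.card_units_eq_totient]
    exact pow_card_eq_one

/-- A cyclic group of prime order `q ∤ p (p-1)` acting on a nonabelian rank-two group with
`[R, A] = R`. -/
theorem card_eq_cube (hp2 : p ≠ 2) {R A : Subgroup G} (hR : IsPGroup p R)
    (hr : Cfsg.PRankLE p 2 R) (hA : A ≤ normalizer (R : Set G)) (hq : (Nat.card A).Prime)
    (hqd : ¬ Nat.card A ∣ p * (p - 1)) (hodd : Odd (Nat.card A)) (hRA : ⁅R, A⁆ = R)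
    (hnc : ¬ IsMulCommutative R) : Nat.card R = p ^ 3 := by
  have hqp : Nat.card A ≠ p := fun h => hqd (h ▸ dvd_mul_right _ _)
  have hcop : (Nat.card A).Coprime p := (Nat.coprime_primes hq hp.out).mpr hqp
  have hR1 : R ≠ ⊥ := by
    rintro rfl
    exact hnc inferInstance
  obtain ⟨-, hor⟩ := RankTwoFull.structure_of_full hp2 hR hR1 hr hA hcop hodd hRA
  obtain ⟨R₁, R₂, hsup, hcomm, hR1nc, hR1card, hR1exp, hR2cyc, hΩ⟩ := hor.resolve_left hnc
  haveI := hR.isNilpotent
  have h1R : R₁ ≤ R := hsup ▸ le_sup_left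
  have h2R : R₂ ≤ R := hsup ▸ le_sup_right
  haveI := hR2cyc
  -- the center of `R` is cyclic, hence centralized by `A`
  have hcyc : IsCyclic (center R) := by
    obtain ⟨a, ha, b, hb, hab⟩ : ∃ a ∈ R₁, ∃ b ∈ R₁, ¬ Commute a b := by
      by_contra hno
      exact hR1nc ⟨⟨fun a b => Subtype.ext (by_contra fun h => hno ⟨a, a.2, b, b.2, h⟩)⟩⟩
    have hap : (⟨a, h1R ha⟩ : R) ^ p = 1 := by
      have := Monoid.pow_exponent_eq_one (⟨a, ha⟩ : R₁)
      rw [hR1exp] at this
      exact Subtype.ext (by simpa using congrArg Subtype.val this)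
    set E0 := closure {z : R | z ∈ center R ∧ z ^ p = 1} with hE0
    have hE0c : E0 ≤ center R := (closure_le _).mpr fun z hz => hz.1
    have hS : ∀ z : R, z ∈ center R → z ^ p = 1 → z ∈ E0 := fun z h1 h2 =>
      subset_closure ⟨h1, h2⟩
    have hna : (⟨a, h1R ha⟩ : R) ∉ E0 := fun h => hab
      (congrArg Subtype.val (mem_center_iff.mp (hE0c h) ⟨b, h1R hb⟩).symm)
    refine NarrowRank.isCyclic_of_card_le hp2 hR ?_ hS
    set E := closure ({z : R | z ∈ center R ∧ z ^ p = 1} ∪ {⟨a, h1R ha⟩}) with hE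
    have hEe : Cfsg.IsElementaryAbelian p E := PGroups.elemAb_closure (by
      rintro x (hx | rfl) y (hy | rfl)
      · exact (mem_center_iff.mp hx.1 y).symm
      · exact (mem_center_iff.mp hx.1 _).symm
      · exact mem_center_iff.mp hy.1 _
      · rfl) (by
      rintro x (hx | rfl)
      · exact hx.2
      · exact hap)
    have h2 := PGroups.card_mul_le_card_of_mem (A := E0) (B := E)
      (closure_mono Set.subset_union_left) (hR.to_subgroup E)
      (subset_closure (Or.inr rfl)) hna
    have h3 : Nat.card E ≤ p * p := by rw [← pow_two]; exact hr E hEe.1 hEe.2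
    exact Nat.le_of_mul_le_mul_right (h2.trans h3) hp.out.pos
  let θ : A →* MulAut R := R.normalizerMonoidHom.comp (inclusion hA)
  have hfixc : ∀ (a : A) (z : R), z ∈ center R → θ a z = z := by
    haveI := hcyc
    haveI : (center R).Characteristic := inferInstance
    have hinv : ∀ (a : A) (z : R), z ∈ center R → θ a z ∈ center R := fun a z hz =>
      characteristic_iff_le_comap.mp inferInstance (θ a) hz
    let ψ : A →* MulAut (center R) :=
      { toFun := fun a =>
          { toFun := fun z => ⟨θ a z, hinv a z z.2⟩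
            invFun := fun z => ⟨θ a⁻¹ z, hinv a⁻¹ z z.2⟩
            left_inv := fun z => Subtype.ext (by
              show θ a⁻¹ (θ a z) = z
              rw [← MulAut.mul_apply, ← map_mul, inv_mul_cancel, map_one, MulAut.one_apply])
            right_inv := fun z => Subtype.ext (by
              show θ a (θ a⁻¹ z) = z
              rw [← MulAut.mul_apply, ← map_mul, mul_inv_cancel, map_one, MulAut.one_apply])
            map_mul' := fun z w => Subtype.ext (map_mul (θ a) (z : R) w) }
        map_one' := MulEquiv.ext fun z => Subtype.ext (by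
          show θ 1 z = z
          rw [map_one, MulAut.one_apply])
        map_mul' := fun a b => MulEquiv.ext fun z => Subtype.ext (by
          show θ (a * b) z = θ a (θ b z)
          rw [map_mul, MulAut.mul_apply]) }
    intro a z hz
    haveI : NeZero (Nat.card (center R)) := ⟨Nat.card_pos.ne'⟩
    have hd : orderOf (IsCyclic.mulAutMulEquiv (center R) (ψ a)) ∣ (Nat.card (center R)).totient := by
      rw [← ZMod.card_units_eq_totient]; exact orderOf_dvd_card
    obtain ⟨k, hk⟩ := IsPGroup.iff_card.mp (hR.to_subgroup (center R))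
    have hdq : orderOf (IsCyclic.mulAutMulEquiv (center R) (ψ a)) ∣ Nat.card A :=
      (orderOf_map_dvd ((IsCyclic.mulAutMulEquiv (center R)).toMonoidHom.comp ψ) a).trans
        (orderOf_dvd_natCard a)
    have htot : (Nat.card (center R)).totient = (p ^ k).totient := by rw [hk]
    rw [htot] at hd
    have h1 : ψ a = 1 := by
      apply (IsCyclic.mulAutMulEquiv (center R)).injective
      rw [map_one, ← orderOf_eq_one_iff]
      rcases (Nat.dvd_prime hq).mp hdq with h | h
      · exact h
      · exfalso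
        rw [h] at hd
        rcases Nat.eq_zero_or_pos k with rfl | hk0
        · rw [pow_zero, Nat.totient_one] at hd; exact hq.not_dvd_one hd
        · rw [Nat.totient_prime_pow hp.out hk0] at hd
          rcases hq.dvd_mul.mp hd with h' | h'
          · exact hqp ((Nat.prime_dvd_prime_iff_eq hq hp.out).mp (hq.dvd_of_dvd_pow h'))
          · exact hqd (dvd_mul_of_dvd_right h' _)
    exact congrArg Subtype.val (DFunLike.congr_fun h1 ⟨z, hz⟩)
  -- hence it lies in the derived subgroup
  have hfull : closure {x : R | ∃ g a, x = g * θ a g⁻¹} = ⊤ := by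
    apply map_injective R.subtype_injective
    rw [MonoidHom.map_closure, ← MonoidHom.range_eq_map, range_subtype]
    refine le_antisymm ((closure_le _).mpr ?_) ?_
    · rintro _ ⟨x, -, rfl⟩
      exact x.2
    · conv_lhs => rw [← hRA]
      rw [commutator_le]
      intro k hk a ha
      refine subset_closure ⟨⟨k, hk⟩ * θ ⟨a, ha⟩ ⟨k, hk⟩⁻¹, ⟨⟨k, hk⟩, ⟨a, ha⟩, rfl⟩, ?_⟩
      show k * (a * k⁻¹ * a⁻¹) = ⁅k, a⁆
      rw [commutatorElement_def]; group
  let θab : A →* MulAut (Abelianization R) :=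
    { toFun := fun a => (θ a).abelianizationCongr
      map_one' := MulEquiv.ext fun x => by
        induction x using QuotientGroup.induction_on with | _ x
        change Abelianization.of (θ 1 x) = Abelianization.of x
        rw [map_one, MulAut.one_apply]
      map_mul' := fun a b => MulEquiv.ext fun x => by
        induction x using QuotientGroup.induction_on with | _ x
        change Abelianization.of (θ (a * b) x) = Abelianization.of (θ a (θ b x))
        rw [map_mul, MulAut.mul_apply] }
  have hsurj : Function.Surjective (Abelianization.of : R →* Abelianization R) :=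
    QuotientGroup.mk'_surjective _
  have hfullab : closure {x : Abelianization R | ∃ g a, x = g * θab a g⁻¹} = ⊤ := by
    rw [eq_top_iff, ← Subgroup.map_top_of_surjective _ hsurj, ← hfull, MonoidHom.map_closure]
    refine closure_mono ?_
    rintro _ ⟨_, ⟨g, a, rfl⟩, rfl⟩
    exact ⟨Abelianization.of g, a, rfl⟩
  have hcop' : (Nat.card A).Coprime (Nat.card (Abelianization R)) := by
    obtain ⟨k, hk⟩ := IsPGroup.iff_card.mp (hR.of_surjective _ hsurj)
    rw [hk]; exact hcop.pow_right k
  have hcen : center R ≤ commutator R := fun z hz => by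
    rw [← Abelianization.ker_of]
    refine MonoidHom.mem_ker.mpr (MetacyclicAction.eq_one_of_fixed θab hfullab hcop' fun a => ?_)
    change Abelianization.of (θ a z) = Abelianization.of z
    rw [hfixc a z hz]
  have hder : ⁅R, R⁆ ≤ R₁ := by
    have hnorm : R₁ ≤ normalizer (R₂ : Set G) :=
      le_trans (fun a ha => mem_centralizer_iff.mpr fun b hb => (hcomm a ha b hb).symm)
        (centralizer_le_normalizer _)
    rw [commutator_le]
    intro x hx y hy
    rw [← hsup, ← SetLike.mem_coe, coe_mul_of_left_le_normalizer_right _ _ hnorm] at hx hy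
    obtain ⟨x₁, hx₁, x₂, hx₂, rfl⟩ := hx
    obtain ⟨y₁, hy₁, y₂, hy₂, rfl⟩ := hy
    have e : ⁅x₁ * x₂, y₁ * y₂⁆ = ⁅x₁, y₁⁆ := by
      have h22 : y₂ * x₂ = x₂ * y₂ :=
        congrArg Subtype.val (IsCyclic.commGroup.mul_comm (⟨y₂, hy₂⟩ : R₂) ⟨x₂, hx₂⟩)
      calc ⁅x₁ * x₂, y₁ * y₂⁆
          = x₁ * (x₂ * y₁) * y₂ * x₂⁻¹ * x₁⁻¹ * y₂⁻¹ * y₁⁻¹ := by
            simp only [commutatorElement_def, mul_inv_rev, mul_assoc]
        _ = x₁ * y₁ * ((x₂ * y₂) * x₂⁻¹) * x₁⁻¹ * y₂⁻¹ * y₁⁻¹ := by
            rw [← hcomm y₁ hy₁ x₂ hx₂]; simp only [mul_assoc]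
        _ = x₁ * y₁ * (y₂ * x₁⁻¹) * y₂⁻¹ * y₁⁻¹ := by
            rw [← h22, mul_inv_cancel_right]; simp only [mul_assoc]
        _ = ⁅x₁, y₁⁆ := by
            rw [← hcomm _ (inv_mem hx₁) _ hy₂]
            simp only [commutatorElement_def, mul_assoc, mul_inv_cancel_left]
    rw [e]
    exact NarrowAut.comm_le R₁ (commutator_mem_commutator hx₁ hy₁)
  have h21 : R₂ ≤ R₁ := by
    intro b hb
    refine hder ?_
    rw [← map_subtype_commutator]
    refine ⟨⟨b, h2R hb⟩, hcen (mem_center_iff.mpr fun g => Subtype.ext ?_), rfl⟩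
    refine mem_centralizer_singleton_iff.mp ((?_ : R ≤ centralizer ({b} : Set G)) g.2)
    conv_lhs => rw [← hsup]
    exact sup_le (fun a ha => mem_centralizer_singleton_iff.mpr (hcomm a ha b hb))
      (fun a ha => mem_centralizer_singleton_iff.mpr (congrArg Subtype.val
        (IsCyclic.commGroup.mul_comm (⟨a, ha⟩ : R₂) ⟨b, hb⟩)))
  rw [← hsup, sup_eq_left.mpr h21, hR1card]

end Cfsg.Agent.Lib.OddLocal.NarrowBig
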