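import Mathlib
import Cfsg.Prelude.Def_OddOrderLocal
import Cfsg.Agent.Lib.OddLocal.NarrowAut
import Cfsg.Agent.Lib.PSolvable.HallHigman
import Cfsg.Agent.Lib.Cores.Basic
import Cfsg.Agent.Lib.Transfer.PResidual
import Cfsg.Agent.Lib.OddOrder.NormedConstrained

/-!
Solvable groups of odd order whose `O_p(G / O_{p'}(G))` is narrow.
-/

set_option autoImplicit false

universe u v

namespace Cfsg.Agent.Lib.OddLocal.NarrowStructure

open Subgroup
open scoped commutatorElement

variable {G : Type u} [Group G] {p : ℕ} [hp : Fact p.Prime]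

omit hp in
theorem prankLE_of_injective {H : Type v} [Group H] {k : ℕ} (f : H →* G) (hf : Function.Injective f)
    (h : Cfsg.PRankLE p k G) : Cfsg.PRankLE p k H := by
  intro E hE1 hE2
  rw [← card_map_of_injective hf]
  refine h _ ⟨⟨?_⟩⟩ ?_
  · rintro ⟨_, a, ha, rfl⟩ ⟨_, b, hb, rfl⟩
    exact Subtype.ext (by
      simpa only [Subgroup.coe_mul, ← map_mul] using
        congrArg f (congrArg Subtype.val (hE1.is_comm.comm ⟨a, ha⟩ ⟨b, hb⟩)))
  · rintro _ ⟨a, ha, rfl⟩
    rw [← map_pow, hE2 a ha, map_one]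

omit hp in
theorem isNarrow_congr {H : Type u} [Group H] (e : G ≃* H) (h : Cfsg.IsNarrow p G) :
    Cfsg.IsNarrow p H := by
  rcases h with h | ⟨R₀, R₁, h0, h1, h2, h3, h4⟩
  · exact Or.inl (prankLE_of_injective e.symm.toMonoidHom e.symm.injective h)
  · refine Or.inr ⟨R₀.map e.toMonoidHom, R₁.map e.toMonoidHom, ?_, ?_, ?_, ?_, ?_⟩
    · rw [card_map_of_injective e.injective, h0]
    · haveI := h1
      exact isCyclic_of_surjective _ (R₁.equivMapOfInjective e.toMonoidHom e.injective).surjective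
    · rw [← map_inf _ _ e.toMonoidHom e.injective, h2, Subgroup.map_bot]
    · rintro _ ⟨a, ha, rfl⟩ _ ⟨b, hb, rfl⟩
      rw [← map_mul, ← map_mul, h3 a ha b hb]
    · rw [← Subgroup.map_sup, h4]
      ext y
      constructor
      · rintro ⟨x, hx, rfl⟩
        refine mem_centralizer_iff.mpr ?_
        rintro _ ⟨a, ha, rfl⟩
        rw [← map_mul, ← map_mul, mem_centralizer_iff.mp hx a ha]
      · intro hy
        refine ⟨e.symm y, mem_centralizer_iff.mpr fun a ha => e.injective ?_, by simp⟩
        have := mem_centralizer_iff.mp hy (e a) ⟨a, ha, rfl⟩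
        simpa using this

/-- A `p`-subgroup embeds in every quotient by a `p'`-group. -/
theorem injOn_of_coprime [Finite G] {N P : Subgroup G} [N.Normal] (hN : (Nat.card N).Coprime p)
    (hP : IsPGroup p P) : Function.Injective ((QuotientGroup.mk' N).comp P.subtype) := by
  rw [← MonoidHom.ker_eq_bot_iff, eq_bot_iff]
  intro x hx
  rw [mem_bot]
  obtain ⟨k, hk⟩ := IsPGroup.iff_orderOf.mp hP x
  have hxN : (x : G) ∈ N := (QuotientGroup.eq_one_iff _).mp (MonoidHom.mem_ker.mp hx)
  have h1 : orderOf x ∣ Nat.card N := by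
    rw [← Subgroup.orderOf_coe]; exact N.orderOf_dvd_natCard hxN
  exact orderOf_eq_one_iff.mp (Nat.eq_one_of_dvd_coprimes (hN.pow_right k) h1 (hk ▸ dvd_rfl))

/-- If the rank of `G` is at most two, so is that of `O_p(G / O_{p'}(G))`. -/
theorem prankLE_pCore_quotient [Finite G] (hr : Cfsg.PRankLE p 2 G) :
    Cfsg.PRankLE p 2 ↥(Cfsg.pCore p (G ⧸ Cfsg.pPrimeCore p G)) := by
  let P : Sylow p G := default
  let π := QuotientGroup.mk' (Cfsg.pPrimeCore p G)
  have hle : Cfsg.pCore p (G ⧸ Cfsg.pPrimeCore p G) ≤ (P : Subgroup G).map π :=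
    Cores.pCore_le_sylow (Sylow.mapSurjective (QuotientGroup.mk'_surjective _) P)
  have hinj := injOn_of_coprime (p := p) (N := Cfsg.pPrimeCore p G) (P := (P : Subgroup G))
    (Cores.pPrimeCore_coprime p) P.isPGroup'
  let e := MonoidHom.ofInjective hinj
  have hrange : ((π.comp (P : Subgroup G).subtype).range) = (P : Subgroup G).map π := by
    rw [MonoidHom.range_comp, range_subtype]
  refine prankLE_of_injective
    (((P : Subgroup G).subtype.comp e.symm.toMonoidHom).comp
      (inclusion (hrange ▸ hle : Cfsg.pCore p (G ⧸ Cfsg.pPrimeCore p G) ≤ _))) ?_ hr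
  exact (subtype_injective _).comp (e.symm.injective.comp (inclusion_injective _))

/-- In a group of `p`-length one the Sylow image is `O_p(G / O_{p'}(G))`. -/
theorem map_sylow_eq_of_pLength_one [Finite G] (h : Cfsg.PLengthLE p 1 G) (S : Sylow p G) :
    (S : Subgroup G).map (QuotientGroup.mk' (Cfsg.pPrimeCore p G)) =
      Cfsg.pCore p (G ⧸ Cfsg.pPrimeCore p G) := by
  obtain ⟨U, hUn, hUc, hUq, hUS⟩ := OddOrder.NormedConstrained.exists_of_pLength_one h
  have hU : U = Cfsg.pPrimeCore p G := by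
    refine le_antisymm (Cores.le_pPrimeCore hUc) ?_
    have h1 := Cores.map_pPrimeCore_le (p := p) (QuotientGroup.mk' U) (QuotientGroup.mk'_surjective U)
    rw [hUq, le_bot_iff, Subgroup.map_eq_bot_iff, QuotientGroup.ker_mk'] at h1
    exact h1
  subst hU
  exact le_antisymm (hUS S)
    (Cores.pCore_le_sylow (Sylow.mapSurjective (QuotientGroup.mk'_surjective _) S))

/-- **Structure theorem.** -/
theorem structure_of_narrow [Finite G] [Group.IsSolvable G] (hodd : Odd (Nat.card G))
    (hpG : p ∣ Nat.card G)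
    (hn : Cfsg.IsNarrow p ↥(Cfsg.pCore p (G ⧸ Cfsg.pPrimeCore p G))) :
    (∀ q : ℕ, q.Prime → q ∣ (Cfsg.pPrimeCore p G).index → q ≤ p) ∧
      ((p = 3 ∨ ∀ q : ℕ, q.Prime → q ∣ Nat.card G → p ≤ q) → Cfsg.HasNormalPComplement p G) ∧
      Cfsg.HasNormalPComplement p ↥(commutator G) ∧
      (∀ L : Subgroup ↥(commutator G), (Nat.card L).Coprime p →
        L ≤ Cfsg.pPrimeCore p ↥(commutator G)) ∧
      commutator G ≤ Cfsg.pPrimePCore p G ∧ ((Cfsg.pPrimePCore p G).index).Coprime p := by
  have hp2 : p ≠ 2 := by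
    rintro rfl
    exact Nat.not_even_iff_odd.mpr hodd (even_iff_two_dvd.mpr hpG)
  set N := Cfsg.pPrimeCore p G
  set R := Cfsg.pCore p (G ⧸ N) with hRdef
  let π := QuotientGroup.mk' N
  have hπ : Function.Surjective π := QuotientGroup.mk'_surjective N
  haveI : Group.IsSolvable (G ⧸ N) := Group.isSolvable_of_surjective hπ
  have hoddQ : Odd (Nat.card (G ⧸ N)) := hodd.of_dvd_nat (card_quotient_dvd_card N)
  have hRp : IsPGroup p R := Cores.pCore_isPGroup p
  have hC : centralizer (R : Set (G ⧸ N)) ≤ R :=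
    PSolvable.centralizer_pCore_le PSolvable.isPSolvable_of_isSolvable
      (Cores.pPrimeCore_quotient_pPrimeCore p)
  have htop : ⊤ ≤ normalizer (R : Set (G ⧸ N)) := by
    rw [normalizer_eq_top]
  -- the derived subgroup lies in `R`
  have hcomm : commutator (G ⧸ N) ≤ R := by
    refine Cores.le_pCore (IsPGroup.of_card (n := _)
      (Nat.eq_prime_pow_of_unique_prime_dvd (p := p) Nat.card_pos.ne' fun {q} hq hqd => ?_))
    by_contra hqp
    haveI : Fact q.Prime := ⟨hq⟩
    obtain ⟨c, hc⟩ := exists_prime_orderOf_dvd_card' (G := ↥(commutator (G ⧸ N))) q hqd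
    have hcp : (orderOf (c : G ⧸ N)).Coprime p := by
      rw [Subgroup.orderOf_coe, hc]; exact (Nat.coprime_primes hq hp.out).mpr hqp
    haveI : Group.IsSolvable (⊤ : Subgroup (G ⧸ N)) := inferInstance
    have hmem := hC (NarrowAut.derived_centralizes hp2 hRp hn htop
      (by rw [card_top]; exact hoddQ) (c := (c : G ⧸ N)) (_root_.commutator_def (G ⧸ N) ▸ c.2) hcp)
    obtain ⟨k, hk⟩ := IsPGroup.iff_card.mp hRp
    have := Nat.eq_one_of_dvd_coprimes (hcp.pow_right k) dvd_rfl (hk ▸ R.orderOf_dvd_natCard hmem)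
    rw [Subgroup.orderOf_coe, hc] at this
    exact hq.ne_one this
  have hidxR : R.index.Coprime p := by
    let P : Sylow p (G ⧸ N) := default
    have hRP : R ≤ P := Cores.pCore_le_sylow P
    haveI : (P : Subgroup (G ⧸ N)).Normal := Normal.of_commutator_le (G ⧸ N) (hcomm.trans hRP)
    have : R = P := le_antisymm hRP (Cores.le_pCore P.isPGroup')
    rw [this]
    exact ((hp.out.coprime_iff_not_dvd).mpr P.not_dvd_index).symm
  have hle : commutator G ≤ Cfsg.pPrimePCore p G := by
    refine le_trans ?_ (comap_mono hcomm)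
    rw [← map_le_iff_le_comap, _root_.commutator_def, map_commutator, _root_.commutator_def]
    exact commutator_mono le_top le_top
  have hprimes : ∀ q : ℕ, q.Prime → q ∣ Nat.card (G ⧸ N) → q ≠ p → q ∣ (p - 1) * (p + 1) := by
    intro q hq hqd hqp
    haveI : Fact q.Prime := ⟨hq⟩
    obtain ⟨c, hc⟩ := exists_prime_orderOf_dvd_card' (G := G ⧸ N) q hqd
    rw [← hc]
    refine NarrowAut.prime_dvd_of_not_centralizes hp2 hRp hn (htop (mem_top c)) (hc ▸ hq)
      (hc ▸ hqp) fun hcen => hq.ne_one ?_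
    obtain ⟨k, hk⟩ := IsPGroup.iff_card.mp hRp
    exact Nat.eq_one_of_dvd_coprimes (((Nat.coprime_primes hq hp.out).mpr hqp).pow_right k) dvd_rfl
      (hk ▸ hc ▸ R.orderOf_dvd_natCard (hC hcen))
  have hlt : ∀ q : ℕ, q.Prime → q ∣ Nat.card (G ⧸ N) → q ≠ p → q < p := by
    intro q hq hqd hqp
    have h1 := hp.out.two_le
    rcases hq.dvd_mul.mp (hprimes q hq hqd hqp) with h | h
    · exact lt_of_le_of_lt (Nat.le_of_dvd (by omega) h) (by omega)
    · obtain ⟨t, ht⟩ := h
      have hqodd : Odd q := hoddQ.of_dvd_nat hqd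
      have hpodd : Odd p := hp.out.odd_of_ne_two hp2
      have ht2 : Even t := by
        have : Even (q * t) := by rw [← ht]; exact hpodd.add_one
        rcases Nat.even_mul.mp this with h2 | h2
        · exact absurd h2 (Nat.not_even_iff_odd.mpr hqodd)
        · exact h2
      obtain ⟨s, rfl⟩ := ht2
      have hs : 0 < s := by
        rcases Nat.eq_zero_or_pos s with rfl | hs
        · simp at ht
        · exact hs
      nlinarith [hq.two_le]
  haveI : (N.subgroupOf (commutator G)).Normal := Normal.subgroupOf inferInstance _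
  have hNc : (Nat.card ↥(N.subgroupOf (commutator G))).Coprime p := by
    refine Nat.Coprime.coprime_dvd_left ?_ (Cores.pPrimeCore_coprime (G := G) p)
    rw [← card_map_of_injective (commutator G).subtype_injective, subgroupOf_map_subtype]
    exact card_dvd_of_le inf_le_left
  refine ⟨?_, ?_, ?_, ?_, hle, ?_⟩
  · intro q hq hqd
    rw [index_eq_card] at hqd
    by_cases hqp : q = p
    · exact hqp.le
    · exact (hlt q hq hqd hqp).le
  · intro hor
    refine Transfer.PResidual.hasNormalPComplement_of_normal (N := N)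
      (hp.out.coprime_iff_not_dvd.mp (Cores.pPrimeCore_coprime p).symm) ?_
    refine IsPGroup.of_card (n := _)
      (Nat.eq_prime_pow_of_unique_prime_dvd (p := p) Nat.card_pos.ne' fun {q} hq hqd => ?_)
    by_contra hqp
    rcases hor with rfl | hmin
    · have := hlt q hq hqd hqp
      have h2 := hq.two_le
      obtain rfl : q = 2 := by omega
      exact Nat.not_even_iff_odd.mpr hoddQ (even_iff_two_dvd.mpr hqd)
    · exact absurd (hlt q hq hqd hqp)
        (not_lt.mpr (hmin q hq (hqd.trans (card_quotient_dvd_card N))))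
  · refine Transfer.PResidual.hasNormalPComplement_of_normal (N := N.subgroupOf (commutator G))
      (hp.out.coprime_iff_not_dvd.mp hNc.symm) ?_
    intro x
    induction x using QuotientGroup.induction_on with | _ x
    obtain ⟨k, hk⟩ := hRp ⟨π x, hle x.2⟩
    refine ⟨k, ?_⟩
    rw [← QuotientGroup.mk_pow, QuotientGroup.eq_one_iff, mem_subgroupOf]
    have := congrArg Subtype.val hk
    simp only [Subgroup.coe_pow, Subgroup.coe_one, ← map_pow] at this
    exact (QuotientGroup.eq_one_iff _).mp this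
  · intro L hL x hx
    refine Cores.le_pPrimeCore hNc ?_
    rw [mem_subgroupOf, ← QuotientGroup.eq_one_iff]
    obtain ⟨k, hk⟩ := IsPGroup.iff_card.mp hRp
    refine orderOf_eq_one_iff.mp (Nat.eq_one_of_dvd_coprimes
      ((hL.coprime_dvd_left (L.orderOf_dvd_natCard hx)).pow_right k) ?_
      (hk ▸ R.orderOf_dvd_natCard (hle x.2)))
    exact (orderOf_map_dvd π (x : G)).trans (by rw [Subgroup.orderOf_coe])
  · rw [Cfsg.pPrimePCore, index_comap_of_surjective _ hπ]
    exact hidxR

end Cfsg.Agent.Lib.OddLocal.NarrowStructure
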