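import Cfsg.Agent.Lib.Shult.Reduce
import Cfsg.Agent.Lib.Cores.Basic
import Cfsg.Agent.Lib.Cores.MinNormal
import Cfsg.Agent.Lib.Coprime.Glauberman

/-!
# Operators of prime order without fixed points on irreducible modules, odd order

`commute_of_fpf` : in a solvable group of odd order acting faithfully and irreducibly on an
elementary abelian `p`-group, an element of prime order `r ≠ p` without fixed points centralizes
every normal subgroup of order prime to `r`.
-/

set_option autoImplicit false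

namespace Cfsg.Agent.Lib.OddLocal.FpfModule

open Subgroup
open Cfsg.Agent.Lib

universe u

variable {H : Type u} [Group H] [Finite H]

theorem commute_normal_qgroup {V : Type u} [CommGroup V] [Finite V] [Nontrivial V]
    (hodd : Odd (Nat.card H)) {p q r : ℕ} [hp : Fact p.Prime] [hq : Fact q.Prime] [hr : Fact r.Prime]
    (hV : ∀ v : V, v ^ p = 1) (φ : H →* MulAut V) (hinj : Function.Injective φ)
    (hirr : ∀ W : Subgroup V, (∀ h : H, ∀ w ∈ W, φ h w ∈ W) → W = ⊥ ∨ W = ⊤)
    (hpr : p ≠ r) (Q : Subgroup H) [hQn : Q.Normal] (hQ : IsPGroup q Q)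
    (hQr : (Nat.card Q).Coprime r) {x : H} (hxr : x ^ r = 1)
    (hfix : ∀ v, φ x v = v → v = 1) : x ∈ centralizer (Q : Set H) := by
  classical
  by_cases hQ1 : Q = ⊥
  · subst hQ1
    exact mem_centralizer_iff.2 fun y hy => by rw [(mem_bot.1 hy : y = 1)]; simp
  have hVp : IsPGroup p V := fun v => ⟨1, by rw [pow_one]; exact hV v⟩
  by_cases hqp : q = p
  · -- a normal `p`-subgroup acts trivially
    subst hqp
    exfalso
    let W : Subgroup V :=
      { carrier := {v | ∀ h ∈ Q, φ h v = v}
        one_mem' := fun h _ => map_one _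
        mul_mem' := fun {a b} ha hb h hh => by rw [map_mul, ha h hh, hb h hh]
        inv_mem' := fun {a} ha h hh => by rw [map_inv, ha h hh] }
    have hWinv : ∀ h : H, ∀ w ∈ W, φ h w ∈ W := by
      intro h w hw g hg
      rw [← MulAut.mul_apply, ← map_mul, show g * h = h * (h⁻¹ * g * h) by group, map_mul,
        MulAut.mul_apply, hw _ (hQn.conj_mem' g hg h)]
    rcases hirr W hWinv with hW | hW
    · letI : MulAction Q V := MulAction.compHom V (φ.comp Q.subtype)
      have hdvd : q ∣ Nat.card V := by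
        obtain ⟨v, hv⟩ := exists_ne (1 : V)
        have ho : orderOf v = q := orderOf_eq_prime (hV v) hv
        exact ho ▸ orderOf_dvd_natCard v
      have h1 : (1 : V) ∈ MulAction.fixedPoints Q V := fun g => map_one (φ (g : H))
      obtain ⟨b, hb, hb1⟩ := hQ.exists_fixed_point_of_prime_dvd_card_of_fixed_point V hdvd h1
      have hbW : b ∈ W := fun h hh => hb ⟨h, hh⟩
      rw [hW, mem_bot] at hbW
      exact hb1 hbW.symm
    · refine hQ1 ((eq_bot_iff_forall _).2 fun g hg => hinj ?_)
      rw [map_one]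
      ext v
      exact (hW ▸ mem_top v : v ∈ W) g hg
  -- a normal `q`-subgroup, `q ≠ p`
  have hqQ : q ∣ Nat.card Q := by
    obtain ⟨k, hk⟩ := IsPGroup.iff_card.mp hQ
    rcases Nat.eq_zero_or_pos k with h0 | h0
    · exact absurd (Subgroup.card_eq_one.1 (by rw [hk, h0, pow_zero])) hQ1
    · exact hk ▸ dvd_pow_self q h0.ne'
  have hqr : q ≠ r := fun h => hr.out.ne_one
    (Nat.eq_one_of_dvd_coprimes hQr (h ▸ hqQ) dvd_rfl)
  by_cases hx1 : x = 1
  · rw [hx1]; exact one_mem _
  by_contra hxQ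
  let f : H →* V ⋊[φ] H := SemidirectProduct.inr
  haveI : Finite (V ⋊[φ] H) := Finite.of_equiv _ SemidirectProduct.equivProd.symm
  set X := zpowers (f x) with hX
  set Q' := Q.map f
  set V' := (SemidirectProduct.inl : V →* V ⋊[φ] H).range
  haveI : V'.Normal := by
    show (SemidirectProduct.inl : V →* V ⋊[φ] H).range.Normal
    rw [SemidirectProduct.range_inl_eq_ker_rightHom]
    infer_instance
  haveI : (f.range).FiniteIndex := inferInstance
  have hfinj : Function.Injective f := SemidirectProduct.inr_injective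
  have hord : orderOf (f x) = r := by
    rw [orderOf_injective f hfinj, orderOf_eq_prime hxr hx1]
  have hact : ∀ (h : H) (v : V), f h * SemidirectProduct.inl v * (f h)⁻¹ =
      SemidirectProduct.inl (φ h v) := fun h v => by
    rw [SemidirectProduct.inl_aut]; simp [f]
  have hXle : X ≤ f.range := zpowers_le.2 ⟨x, rfl⟩
  have hQle : Q' ≤ f.range := map_le_range _ _
  have hXQ : X ≤ normalizer (Q' : Set (V ⋊[φ] H)) := by
    refine zpowers_le.2 ?_
    rw [mem_normalizer_iff_map_conj_eq, map_map]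
    refine le_antisymm ?_ ?_
    · rintro _ ⟨g, hg, rfl⟩
      refine ⟨x * g * x⁻¹, hQn.conj_mem g hg x, ?_⟩
      simp
    · rintro _ ⟨g, hg, rfl⟩
      refine ⟨x⁻¹ * g * x, hQn.conj_mem' g hg x, ?_⟩
      simp
      group
  have hfaith : (X ⊔ Q') ⊓ centralizer (V' : Set (V ⋊[φ] H)) = ⊥ := by
    rw [eq_bot_iff]
    rintro g ⟨hg1, hg2⟩
    obtain ⟨h, rfl⟩ := sup_le hXle hQle hg1
    rw [mem_bot, ← map_one f]
    congr 1
    refine hinj ?_
    rw [map_one]
    ext v
    rw [MulAut.one_apply]
    refine SemidirectProduct.inl_injective (φ := φ) ?_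
    rw [← hact, ← mem_centralizer_iff.1 hg2 _ ⟨v, rfl⟩]
    group
  have hXfaith : X ⊓ centralizer (Q' : Set (V ⋊[φ] H)) = ⊥ := by
    rw [eq_bot_iff]
    intro g hg
    rw [mem_bot]
    by_contra hg1
    have hcop : Fact (Nat.card X).Prime := ⟨by rw [hX, Nat.card_zpowers, hord]; exact hr.out⟩
    rcases ((centralizer (Q' : Set (V ⋊[φ] H))).subgroupOf X).eq_bot_or_eq_top_of_prime_card with
      h | h
    · have hmem : (⟨g, hg.1⟩ : X) ∈ (centralizer (Q' : Set (V ⋊[φ] H))).subgroupOf X :=
        mem_subgroupOf.2 hg.2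
      rw [h, mem_bot] at hmem
      exact hg1 (congrArg Subtype.val hmem)
    · refine hxQ (mem_centralizer_iff.2 fun y hy => hfinj ?_)
      rw [map_mul, map_mul]
      exact mem_centralizer_iff.1
        (subgroupOf_eq_top.1 h (mem_zpowers (f x))) _ (mem_map_of_mem f hy)
  have hV' : Cfsg.IsElementaryAbelian p V' := by
    refine ⟨⟨⟨?_⟩⟩, ?_⟩
    · rintro ⟨_, a, rfl⟩ ⟨_, b, rfl⟩
      exact Subtype.ext (by simp [← map_mul, mul_comm a b])
    · rintro _ ⟨a, rfl⟩
      rw [← map_pow, hV, map_one]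
  have hCV : V' ⊓ centralizer (X : Set (V ⋊[φ] H)) = ⊥ := by
    rw [eq_bot_iff]
    rintro _ ⟨⟨v, rfl⟩, hv⟩
    rw [mem_bot]
    have h1 : SemidirectProduct.inl (φ x v) = (SemidirectProduct.inl v : V ⋊[φ] H) := by
      rw [← hact, mem_centralizer_iff.1 hv _ (mem_zpowers _)]
      group
    rw [hfix v (SemidirectProduct.inl_injective h1), map_one]
  obtain ⟨hq2, -, -⟩ := Shult.fixedPoint_cases hp.out hq.out hr.out (Ne.symm hqp) hpr hqr X Q' V'
    (by rw [hX, Nat.card_zpowers, hord]) (hQ.map f) hXQ hXfaith hV'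
    (le_normalizer_of_normal) (le_normalizer_of_normal) hfaith hCV
  subst hq2
  exact (Nat.not_even_iff_odd.2 hodd) (even_iff_two_dvd.2 (hqQ.trans (card_subgroup_dvd_card Q)))

/-- An element of prime order without fixed points on a faithful irreducible module centralizes
every normal subgroup of order prime to its order, in odd order. -/
theorem commute_of_fpf [Group.IsSolvable H] {V : Type u} [CommGroup V] [Finite V] [Nontrivial V]
    (hodd : Odd (Nat.card H)) {p r : ℕ} [Fact p.Prime] [hr : Fact r.Prime]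
    (hV : ∀ v : V, v ^ p = 1) (φ : H →* MulAut V) (hinj : Function.Injective φ)
    (hirr : ∀ W : Subgroup V, (∀ h : H, ∀ w ∈ W, φ h w ∈ W) → W = ⊥ ∨ W = ⊤)
    (hpr : p ≠ r) (K : Subgroup H) [hKn : K.Normal] (hKr : (Nat.card K).Coprime r)
    {x : H} (hxr : x ^ r = 1) (hfix : ∀ v, φ x v = v → v = 1) :
    x ∈ centralizer (K : Set H) := by
  haveI : ((Cfsg.fittingSubgroup K).map K.subtype).Normal := Cores.normal_map_subtype K _
  have hxF : x ∈ centralizer (((Cfsg.fittingSubgroup K).map K.subtype : Subgroup H) : Set H) := by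
    rw [← zpowers_le, le_centralizer_iff, Cores.fittingSubgroup_eq_iSup_pCore, Subgroup.map_iSup]
    refine iSup_le fun q => ?_
    haveI : Fact (q : ℕ).Prime := ⟨q.2⟩
    haveI := Cores.normal_map_subtype K (Cfsg.pCore (q : ℕ) K)
    rw [le_centralizer_iff, zpowers_le]
    exact commute_normal_qgroup hodd hV φ hinj hirr hpr _
      ((Cores.pCore_isPGroup (q : ℕ)).map _)
      (Nat.Coprime.coprime_dvd_left (card_dvd_of_le (map_subtype_le _)) hKr) hxr hfix
  refine mem_centralizer_iff.2 fun k hk => ?_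
  set c := k * x * k⁻¹ * x⁻¹ with hc
  have hcK : c ∈ K := by
    rw [hc, show k * x * k⁻¹ * x⁻¹ = k * (x * k⁻¹ * x⁻¹) by group]
    exact mul_mem hk (hKn.conj_mem _ (inv_mem hk) x)
  have hcC : c ∈ centralizer (((Cfsg.fittingSubgroup K).map K.subtype : Subgroup H) : Set H) :=
    mul_mem ((inferInstance : (centralizer (((Cfsg.fittingSubgroup K).map K.subtype : Subgroup H) : Set H)).Normal).conj_mem x hxF k) (inv_mem hxF)
  have hcF : c ∈ (Cfsg.fittingSubgroup K).map K.subtype := by
    refine ⟨⟨c, hcK⟩, Cores.centralizer_fittingSubgroup_le (mem_centralizer_iff.2 fun y hy => ?_), rfl⟩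
    exact Subtype.ext (mem_centralizer_iff.1 hcC _ ⟨y, hy, rfl⟩)
  have hcx : Commute c x := mem_centralizer_iff.1 hxF c hcF
  have hcr : c ^ r = 1 := by
    have h1 : (c * x) ^ r = 1 := by
      rw [show c * x = k * x * k⁻¹ by rw [hc]; group, conj_pow, hxr, mul_one, mul_inv_cancel]
    rwa [hcx.mul_pow, hxr, mul_one] at h1
  have hd1 : orderOf (⟨c, hcK⟩ : K) ∣ r := by
    rw [← orderOf_injective K.subtype K.subtype_injective]
    exact orderOf_dvd_of_pow_eq_one hcr
  have h2 := Nat.eq_one_of_dvd_coprimes hKr (orderOf_dvd_natCard _) hd1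
  have hc1 : c = 1 := congrArg Subtype.val (orderOf_eq_one_iff.1 h2)
  rw [hc, mul_inv_eq_one] at hc1
  calc k * x = k * x * k⁻¹ * k := by group
    _ = x * k := by rw [hc1]

/-- The ambient form: a minimal normal elementary abelian subgroup. -/
theorem commutator_mem_centralizer {G : Type u} [Group G] [Finite G] [Group.IsSolvable G]
    (hodd : Odd (Nat.card G)) {p r : ℕ} [Fact p.Prime] [Fact r.Prime] (hpr : p ≠ r)
    (U : Subgroup G) [hUn : U.Normal] (hU1 : U ≠ ⊥) (hU : Cfsg.IsElementaryAbelian p U)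
    (hmin : ∀ W : Subgroup G, W.Normal → W ≤ U → W = ⊥ ∨ W = U)
    (K : Subgroup G) [K.Normal] (hKr : (Nat.card K).Coprime r) {x : G} (hxr : x ^ r = 1)
    (hfix : ∀ v ∈ U, x * v * x⁻¹ = v → v = 1) :
    ∀ k ∈ K, k * x * k⁻¹ * x⁻¹ ∈ centralizer (U : Set G) := by
  classical
  have hUc := hU.1
  let _ : CommGroup U := { U.toGroup with mul_comm := hUc.is_comm.comm }
  haveI : Nontrivial U := (Subgroup.nontrivial_iff_ne_bot U).2 hU1
  let C := centralizer (U : Set G)
  haveI : C.Normal := inferInstance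
  let ψ : G →* MulAut U := MulAut.conjNormal
  have hker : C = ψ.ker := by
    ext g
    rw [MonoidHom.mem_ker, mem_centralizer_iff]
    constructor
    · intro h
      ext u
      show g * (u : G) * g⁻¹ = (u : G)
      rw [← h u u.2, mul_inv_cancel_right]
    · intro h u hu
      have := congrArg (fun e : MulAut U => ((e ⟨u, hu⟩ : U) : G)) h
      exact (mul_inv_eq_iff_eq_mul.1 (this : g * u * g⁻¹ = u)).symm
  let φ : G ⧸ C →* MulAut U := QuotientGroup.lift C ψ hker.le
  have hφ : ∀ g : G, φ (QuotientGroup.mk' C g) = ψ g := fun g => rfl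
  have hinj : Function.Injective φ := by
    rw [injective_iff_map_eq_one]
    intro g hg
    obtain ⟨g, rfl⟩ := QuotientGroup.mk'_surjective C g
    rw [hφ] at hg
    exact (QuotientGroup.eq_one_iff g).2 (hker.ge hg)
  haveI : (K.map (QuotientGroup.mk' C)).Normal :=
    Subgroup.Normal.map inferInstance _ (QuotientGroup.mk'_surjective C)
  have hirr : ∀ W : Subgroup U, (∀ h : G ⧸ C, ∀ w ∈ W, φ h w ∈ W) → W = ⊥ ∨ W = ⊤ := by
    intro W hW
    have hn : (W.map U.subtype).Normal := ⟨by
      rintro _ ⟨w, hw, rfl⟩ g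
      exact ⟨ψ g w, hW (QuotientGroup.mk' C g) w hw, rfl⟩⟩
    rcases hmin _ hn (map_subtype_le _) with h | h
    · exact Or.inl ((Subgroup.map_eq_bot_iff_of_injective _ U.subtype_injective).1 h)
    · refine Or.inr (map_injective U.subtype_injective (h.trans ?_))
      rw [← MonoidHom.range_eq_map, range_subtype]
  have hoddQ : Odd (Nat.card (G ⧸ C)) := hodd.of_dvd_nat (Subgroup.card_quotient_dvd_card C)
  have hc := commute_of_fpf hoddQ (fun v : U => Subtype.ext (hU.2 _ v.2)) φ hinj hirr hpr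
    (K.map (QuotientGroup.mk' C))
    (Nat.Coprime.coprime_dvd_left (Subgroup.card_map_dvd K _) hKr)
    (x := QuotientGroup.mk' C x) (by rw [← map_pow, hxr, map_one])
    (fun v hv => Subtype.ext (hfix v v.2 (congrArg Subtype.val hv)))
  intro k hk
  show _ ∈ C
  rw [← QuotientGroup.eq_one_iff, ← QuotientGroup.mk'_apply, map_mul, map_mul, map_mul, map_inv,
    map_inv, mem_centralizer_iff.1 hc _ (mem_map_of_mem _ hk)]
  group

end Cfsg.Agent.Lib.OddLocal.FpfModule
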