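import Cfsg.Agent.Lib.Shult.Reduce
import Cfsg.Agent.Lib.Coprime.Generation
import Cfsg.Agent.Lib.Coprime.Glauberman

/-!
# The counting step for BG 3.7

`pow_card_mem` : the averaging identity of a Frobenius group acting on an abelian group.
`abelian_case` : a `p`-group `P` with a fixed point free operator `x` of prime order cannot move an
elementary abelian `q`-group `Q` acting on an abelian `p`-group on which `x` has cyclic fixed
points (odd primes).
-/

set_option autoImplicit false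
set_option linter.unusedSectionVars false
set_option linter.style.haveILetI false

namespace Cfsg.Agent.Lib.OddLocal.PLengthKey

open Subgroup
open scoped Pointwise commutatorElement

universe u

section Frobenius

variable {A : Type*} [CommGroup A] {P : Type*} [Group P] [Finite P]

theorem fixed_of_pow_fixed {α : MulAut P} {r : ℕ} (hr : r.Prime) (hα : α ^ r = 1) {j : ℕ}
    (hj : ¬ r ∣ j) {y : P} (hy : (α ^ j) y = y) : α y = y := by
  obtain ⟨m, -, hm⟩ := Nat.exists_mul_mod_eq_one_of_coprime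
    ((hr.coprime_iff_not_dvd.2 hj).symm) hr.one_lt
  have h : ∀ i, ((α ^ j) ^ i) y = y := fun i => by
    induction i with
    | zero => simp
    | succ i ih => rw [pow_succ, MulAut.mul_apply, hy, ih]
  have h3 := h m
  rwa [← pow_mul, ← Nat.div_add_mod (j * m) r, hm, pow_succ, pow_mul, hα, one_pow, one_mul] at h3

theorem bijective_inv_mul {α : MulAut P} (hfpf : ∀ y, α y = y → y = 1) :
    Function.Bijective fun y => y⁻¹ * α y := by
  refine Finite.injective_iff_bijective.1 fun y z h => ?_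
  have h' : y⁻¹ * α y = z⁻¹ * α z := h
  have h1 : α (z * y⁻¹) = z * y⁻¹ := by
    rw [map_mul, map_inv]
    calc α z * (α y)⁻¹ = z * (z⁻¹ * α z) * (α y)⁻¹ := by group
      _ = z * y⁻¹ := by rw [← h']; group
  exact (mul_inv_eq_one.1 (hfpf _ h1)).symm

/-- Averaging in a Frobenius group: `a ^ |P|` lies in every `P`-invariant subgroup containing the
fixed points of `σ` and those of `P`. -/
theorem pow_card_mem (θ : P →* MulAut A) (σ : MulAut A) (α : MulAut P) {r : ℕ} (hr : r.Prime)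
    (hσ : σ ^ r = 1) (hα : α ^ r = 1) (hc : ∀ y a, σ (θ y a) = θ (α y) (σ a))
    (hfpf : ∀ y, α y = y → y = 1) (M : Subgroup A) (hMP : ∀ y, ∀ m ∈ M, θ y m ∈ M)
    (hMσ : ∀ a, σ a = a → a ∈ M) (hMfix : ∀ a, (∀ y, θ y a = a) → a ∈ M) (a : A) :
    a ^ Nat.card P ∈ M := by
  classical
  letI := Fintype.ofFinite P
  obtain ⟨r', rfl⟩ : ∃ r', r = r' + 1 := ⟨r - 1, by have := hr.pos; omega⟩
  have hN : ∀ b, σ (∏ j ∈ Finset.range (r' + 1), (σ ^ j) b) =
      ∏ j ∈ Finset.range (r' + 1), (σ ^ j) b := fun b => by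
    simp only [map_prod, ← MulAut.mul_apply, ← pow_succ']
    rw [Finset.prod_range_succ, Finset.prod_range_succ' (fun j => (σ ^ j) b), hσ, pow_zero]
  have hcj : ∀ (j : ℕ) (y : P) (b : A), (σ ^ j) (θ y b) = θ ((α ^ j) y) ((σ ^ j) b) := by
    intro j
    induction j with
    | zero => intro y b; simp
    | succ j ih =>
        intro y b
        rw [pow_succ', pow_succ', MulAut.mul_apply, MulAut.mul_apply, MulAut.mul_apply, ih, hc]
  have htot : ∏ y : P, θ y⁻¹ (∏ j ∈ Finset.range (r' + 1), (σ ^ j) (θ y a)) ∈ M :=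
    prod_mem fun y _ => hMP _ _ (hMσ _ (hN _))
  simp only [map_prod] at htot
  rw [Finset.prod_comm, Finset.prod_range_succ'] at htot
  have h0 : ∏ y : P, θ y⁻¹ ((σ ^ 0) (θ y a)) = a ^ Nat.card P := by
    rw [Nat.card_eq_fintype_card]
    simp [← MulAut.mul_apply]
  have hrest : ∏ j ∈ Finset.range r', ∏ y : P, θ y⁻¹ ((σ ^ (j + 1)) (θ y a)) ∈ M := by
    refine prod_mem fun j hj => hMfix _ fun z => ?_
    have e : ∀ y, θ y⁻¹ ((σ ^ (j + 1)) (θ y a)) =
        θ (y⁻¹ * (α ^ (j + 1)) y) ((σ ^ (j + 1)) a) := fun y => by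
      rw [hcj, map_mul, MulAut.mul_apply]
    have hb : Function.Bijective fun y => y⁻¹ * (α ^ (j + 1)) y :=
      bijective_inv_mul fun y hy => hfpf y (fixed_of_pow_fixed hr hα (fun hd => by
        have := Nat.le_of_dvd (Nat.succ_pos j) hd
        have := Finset.mem_range.1 hj
        omega) hy)
    have e2 : ∏ y : P, θ y⁻¹ ((σ ^ (j + 1)) (θ y a)) = ∏ y : P, θ y ((σ ^ (j + 1)) a) := by
      rw [Finset.prod_congr rfl fun y _ => e y]
      exact Fintype.prod_bijective _ hb _ _ fun y => rfl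
    rw [e2, map_prod]
    refine Fintype.prod_bijective _ (Group.mulLeft_bijective z) _ _ fun y => ?_
    rw [map_mul, MulAut.mul_apply]
  rw [h0] at htot
  exact (mul_mem_cancel_left hrest).1 htot

end Frobenius

variable {G : Type u} [Group G] [Finite G]

theorem commutator_normalized {A B : Subgroup G} {x : G} (hA : x ∈ normalizer (A : Set G))
    (hB : x ∈ normalizer (B : Set G)) : x ∈ normalizer ((⁅A, B⁆ : Subgroup G) : Set G) := by
  rw [mem_normalizer_iff_map_conj_eq, map_commutator, mem_normalizer_iff_map_conj_eq.1 hA,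
    mem_normalizer_iff_map_conj_eq.1 hB]

/-- Automorphisms of a cyclic section commute. -/
theorem cyclic_section_comm {A B : Subgroup G} (hA : ∀ a ∈ A, ∀ b ∈ A, a * b = b * a) (hBA : B ≤ A)
    {a₀ : G} (ha₀ : a₀ ∈ A) (hgen : B ⊔ zpowers a₀ = A) {g h : G}
    (hgA : g ∈ normalizer (A : Set G)) (hgB : g ∈ normalizer (B : Set G))
    (hhA : h ∈ normalizer (A : Set G)) (hhB : h ∈ normalizer (B : Set G)) {a : G} (ha : a ∈ A) :
    (g * h) * a * (g * h)⁻¹ * ((h * g) * a * (h * g)⁻¹)⁻¹ ∈ B := by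
  have hrep : ∀ a ∈ A, ∃ k : ℤ, a * (a₀ ^ k)⁻¹ ∈ B := by
    intro a ha
    rw [← hgen, sup_eq_closure] at ha
    suffices a ∈ A ∧ ∃ k : ℤ, a * (a₀ ^ k)⁻¹ ∈ B from this.2
    induction ha using closure_induction with
    | mem y hy =>
        rcases hy with hy | hy
        · exact ⟨hBA hy, 0, by simpa using hy⟩
        · obtain ⟨k, rfl⟩ := mem_zpowers_iff.1 hy
          exact ⟨A.zpow_mem ha₀ k, k, by simp⟩
    | one => exact ⟨one_mem A, 0, by simp⟩
    | mul y z _ _ hy hz =>
        obtain ⟨hyA, k, hk⟩ := hy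
        obtain ⟨hzA, l, hl⟩ := hz
        refine ⟨mul_mem hyA hzA, k + l, ?_⟩
        have e : y * z * (a₀ ^ (k + l))⁻¹ = (y * (a₀ ^ k)⁻¹) * (z * (a₀ ^ l)⁻¹) := by
          calc y * z * (a₀ ^ (k + l))⁻¹ = y * (z * (a₀ ^ l)⁻¹) * (a₀ ^ k)⁻¹ := by
                rw [zpow_add]; group
            _ = (y * (a₀ ^ k)⁻¹) * (z * (a₀ ^ l)⁻¹) := by
                rw [mul_assoc y, hA _ (hBA hl) _ (inv_mem (A.zpow_mem ha₀ k)), ← mul_assoc]
        rw [e]
        exact mul_mem hk hl
    | inv y _ hy =>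
        obtain ⟨hyA, k, hk⟩ := hy
        refine ⟨inv_mem hyA, -k, ?_⟩
        have e : y⁻¹ * (a₀ ^ (-k))⁻¹ = (y * (a₀ ^ k)⁻¹)⁻¹ := by
          rw [mul_inv_rev, inv_inv, zpow_neg, inv_inv]
          exact hA _ (inv_mem hyA) _ (A.zpow_mem ha₀ k)
        rw [e]
        exact inv_mem hk
  have step : ∀ g : G, g ∈ normalizer (A : Set G) → g ∈ normalizer (B : Set G) → ∀ i : ℤ,
      g * a₀ * g⁻¹ * (a₀ ^ i)⁻¹ ∈ B → ∀ a ∈ A, ∀ k : ℤ, a * (a₀ ^ k)⁻¹ ∈ B →
      g * a * g⁻¹ * (a₀ ^ (i * k))⁻¹ ∈ B := by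
    intro g hgA hgB i hi a _ k hk
    have h1 := (mem_normalizer_iff.1 hgB _).1 hk
    have hcomm : Commute (g * a₀ * g⁻¹) (a₀ ^ i)⁻¹ :=
      hA _ ((mem_normalizer_iff.1 hgA a₀).1 ha₀) _ (inv_mem (A.zpow_mem ha₀ i))
    have e : g * a * g⁻¹ * (a₀ ^ (i * k))⁻¹ =
        (g * (a * (a₀ ^ k)⁻¹) * g⁻¹) * (g * a₀ * g⁻¹ * (a₀ ^ i)⁻¹) ^ k := by
      rw [hcomm.mul_zpow, conj_zpow, zpow_mul, inv_zpow]
      group
    rw [e]
    exact mul_mem h1 (B.zpow_mem hi k)
  obtain ⟨i, hi⟩ := hrep _ ((mem_normalizer_iff.1 hgA a₀).1 ha₀)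
  obtain ⟨j, hj⟩ := hrep _ ((mem_normalizer_iff.1 hhA a₀).1 ha₀)
  obtain ⟨k, hk⟩ := hrep a ha
  have h1 := step g hgA hgB i hi _ ((mem_normalizer_iff.1 hhA a).1 ha) _
    (step h hhA hhB j hj a ha k hk)
  have h2 := step h hhA hhB j hj _ ((mem_normalizer_iff.1 hgA a).1 ha) _
    (step g hgA hgB i hi a ha k hk)
  rw [show i * (j * k) = j * (i * k) by ring] at h1
  have e : (g * h) * a * (g * h)⁻¹ * ((h * g) * a * (h * g)⁻¹)⁻¹ =
      (g * (h * a * h⁻¹) * g⁻¹ * (a₀ ^ (j * (i * k)))⁻¹) *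
        (h * (g * a * g⁻¹) * h⁻¹ * (a₀ ^ (j * (i * k)))⁻¹)⁻¹ := by group
  rw [e]
  exact mul_mem h1 (inv_mem h2)

/-- The abelian case. -/
theorem abelian_case {p q r : ℕ} [hp : Fact p.Prime] [hq : Fact q.Prime] [hr : Fact r.Prime]
    (hpq : p ≠ q) (hpr : p ≠ r) (hp2 : p ≠ 2) (hr2 : r ≠ 2) {x : G} (hxr : x ^ r = 1)
    (V Q P : Subgroup G) (hV : Cfsg.IsElementaryAbelian p V) (hP : IsPGroup p P)
    (hQ : IsPGroup q Q) (hQc : ∀ a ∈ Q, ∀ b ∈ Q, a * b = b * a) (hQe : ∀ a ∈ Q, a ^ q = 1)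
    (hxV : x ∈ normalizer (V : Set G)) (hxQ : x ∈ normalizer (Q : Set G))
    (hxP : x ∈ normalizer (P : Set G)) (hQV : Q ≤ normalizer (V : Set G))
    (hPV : P ≤ normalizer (V : Set G)) (hPQ : P ≤ normalizer (Q : Set G))
    (hCVQ : V ⊓ centralizer (Q : Set G) = ⊥) (hQP : ⁅Q, P⁆ = Q)
    (hcyc : ∀ a ∈ V ⊓ centralizer (zpowers x : Set G), ∀ b ∈ V ⊓ centralizer (zpowers x : Set G),
      a ≠ 1 → b ∈ zpowers a)
    (hfpf : ∀ g ∈ P, x * g * x⁻¹ = g → g = 1) : V = ⊥ := by
  classical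
  haveI : ∀ B : Subgroup G, Fintype B := fun B => Fintype.ofFinite _
  by_contra hV1
  have hVc := hV.1
  letI : CommGroup V := { V.toGroup with mul_comm := hVc.is_comm.comm }
  obtain ⟨σ, hσr, hσ⟩ := Shult.exists_aut hxr hxV
  obtain ⟨α, hαr, hα⟩ := Shult.exists_aut hxr hxP
  let θ : normalizer (V : Set G) →* MulAut V := V.normalizerMonoidHom
  have hσj : ∀ (j : ℕ) (v : V), (((σ ^ j) v : V) : G) = x ^ j * (v : G) * (x ^ j)⁻¹ := by
    intro j
    induction j with
    | zero => intro v; simp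
    | succ j ih =>
        intro v
        rw [pow_succ', MulAut.mul_apply, hσ, ih, pow_succ']
        group
  have hxjN : ∀ (U : Subgroup G) (j : ℕ), x ∈ normalizer (U : Set G) →
      x ^ j ∈ normalizer (U : Set G) := fun U j h => pow_mem h j
  -- the set `Λ`
  let C : Subgroup G → Subgroup G := fun B => V ⊓ centralizer (B : Set G)
  let Good : Subgroup G → Prop := fun B =>
    B ≤ Q ∧ (∃ a ∈ Q, B ⊔ zpowers a = Q) ∧ B ≠ Q ∧ C B ≠ ⊥
  have hmemc : ∀ (g : G) (U : Subgroup G) (y : G),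
      y ∈ MulAut.conj g • U ↔ g⁻¹ * y * g ∈ U := fun g U y => Lib.Coprime.mem_conj_smul
  have hnorm_smul : ∀ (g : G) (U : Subgroup G), g ∈ normalizer (U : Set G) →
      MulAut.conj g • U = U := fun g U hg => by
    ext y
    rw [hmemc]
    have := mem_normalizer_iff.1 (inv_mem hg) y
    rw [inv_inv] at this
    exact this.symm
  have hC_conj : ∀ (g : G) (B : Subgroup G), g ∈ normalizer (V : Set G) → ∀ v ∈ C B,
      g * v * g⁻¹ ∈ C (MulAut.conj g • B) := by
    intro g B hg v hv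
    refine ⟨(mem_normalizer_iff.1 hg v).1 hv.1, mem_centralizer_iff.2 fun y hy => ?_⟩
    have h1 := mem_centralizer_iff.1 hv.2 _ ((hmemc g B y).1 hy)
    calc y * (g * v * g⁻¹) = g * ((g⁻¹ * y * g) * v) * g⁻¹ := by group
      _ = g * v * g⁻¹ * y := by rw [h1]; group
  have hGood : ∀ (g : G) (B : Subgroup G), g ∈ normalizer (V : Set G) →
      g ∈ normalizer (Q : Set G) → Good B → Good (MulAut.conj g • B) := by
    rintro g B hgV hgQ ⟨hBQ, ⟨a, ha, hgen⟩, hne, hC⟩
    refine ⟨?_, ⟨g * a * g⁻¹, (mem_normalizer_iff.1 hgQ a).1 ha, ?_⟩, ?_, ?_⟩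
    · rw [← hnorm_smul g Q hgQ]
      exact Subgroup.pointwise_smul_le_pointwise_smul_iff.2 hBQ
    · conv_rhs => rw [← hnorm_smul g Q hgQ, ← hgen, Subgroup.smul_sup]
      congr 1
      exact (MonoidHom.map_zpowers (MulAut.conj g).toMonoidHom a).symm
    · intro h
      exact hne (smul_left_cancel (MulAut.conj g) (h.trans (hnorm_smul g Q hgQ).symm))
    · obtain ⟨⟨v, hv⟩, hv1⟩ := Subgroup.ne_bot_iff_exists_ne_one.1 hC
      intro h
      refine hv1 (Subtype.ext ?_)
      have h2 := hC_conj g B hgV v hv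
      rw [h, mem_bot, conj_eq_one_iff] at h2
      exact h2
  -- maximality
  have hmax : ∀ B, Good B → ∀ D, B ≤ D → D ≤ Q → D = B ∨ D = Q := by
    rintro B ⟨hBQ, ⟨a, ha, hgen⟩, hne, -⟩ D hBD hDQ
    by_cases hDB : D ≤ B
    · exact Or.inl (le_antisymm hDB hBD)
    refine Or.inr (le_antisymm hDQ ?_)
    obtain ⟨c, hcD, hcB⟩ := SetLike.not_le_iff_exists.1 hDB
    haveI : IsMulCommutative Q := ⟨⟨fun s t => Subtype.ext (hQc s s.2 t t.2)⟩⟩
    have hc : c ∈ B ⊔ zpowers a := hgen ▸ hDQ hcD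
    have hnorm : zpowers a ≤ normalizer (B : Set G) := by
      refine zpowers_le.2 (mem_normalizer_iff.2 fun y => ⟨fun hy => ?_, fun hy => ?_⟩)
      · rwa [hQc a ha y (hBQ hy), mul_inv_cancel_right]
      · have hyQ : y ∈ Q := by
          have := mul_mem (mul_mem (inv_mem ha) (hBQ hy)) ha
          simpa [mul_assoc] using this
        rwa [hQc a ha y hyQ, mul_inv_cancel_right] at hy
    rw [← SetLike.mem_coe, coe_mul_of_right_le_normalizer_left B _ hnorm] at hc
    obtain ⟨b, hb, y, hy, rfl⟩ := hc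
    obtain ⟨k, rfl⟩ := mem_zpowers_iff.1 hy
    have hakD : a ^ k ∈ D := by
      have := mul_mem (inv_mem (hBD hb)) hcD
      simpa using this
    have hkq : ¬ (q : ℤ) ∣ k := by
      rintro ⟨l, rfl⟩
      apply hcB
      show b * a ^ ((q : ℤ) * l) ∈ B
      rw [zpow_mul, zpow_natCast, hQe a ha, one_zpow, mul_one]
      exact hb
    obtain ⟨u, v, huv⟩ := (Int.isCoprime_iff_gcd_eq_one).2
      (show Int.gcd k q = 1 by
        rw [Int.gcd, Int.natAbs_natCast]
        exact (hq.out.coprime_iff_not_dvd.2 fun h =>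
          hkq (Int.natCast_dvd.2 h)).symm)
    rw [← hgen]
    refine sup_le hBD (zpowers_le.2 ?_)
    have : a = (a ^ k) ^ u := by
      calc a = a ^ (u * k + v * (q : ℤ)) := by rw [huv, zpow_one]
        _ = (a ^ k) ^ u := by
          rw [zpow_add, mul_comm u k, zpow_mul, mul_comm v, zpow_mul, zpow_natCast, hQe a ha,
            one_zpow, mul_one]
    exact this ▸ D.zpow_mem hakD u
  -- the trace to `C(B)`
  let e : (B : Subgroup G) → B ≤ Q → V → V := fun B hB v => ∏ b : B, θ ⟨b, hQV (hB b.2)⟩ v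
  have he_mul : ∀ (B : Subgroup G) (hB : B ≤ Q) (v w : V), e B hB (v * w) = e B hB v * e B hB w := fun B hB v w => by
    simp only [e, map_mul, Finset.prod_mul_distrib]
  have he_one : ∀ (B : Subgroup G) (hB : B ≤ Q), e B hB 1 = 1 := fun B hB => by simp [e]
  have he_prod : ∀ (B : Subgroup G) (hB : B ≤ Q) (s : Finset ℕ) (f : ℕ → V),
      e B hB (∏ i ∈ s, f i) = ∏ i ∈ s, e B hB (f i) :=
    fun B hB s f => map_prod (⟨⟨e B hB, he_one B hB⟩, he_mul B hB⟩ : V →* V) f s
  have he_self : ∀ (B : Subgroup G) (hB : B ≤ Q) (v : V), (v : G) ∈ centralizer (B : Set G) →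
      e B hB v = v ^ Nat.card B := by
    intro B hB v hv
    rw [show e B hB v = ∏ _b : B, v from Finset.prod_congr rfl fun b _ => Subtype.ext (by
      show (b : G) * v * (b : G)⁻¹ = v
      rw [mem_centralizer_iff.1 hv b b.2, mul_inv_cancel_right]), Finset.prod_const,
      Finset.card_univ, Nat.card_eq_fintype_card]
  have he_other : ∀ (B : Subgroup G) (hB : B ≤ Q), Good B → ∀ B', Good B' → B ≠ B' → ∀ v : V,
      (v : G) ∈ centralizer (B' : Set G) → e B hB v = 1 := by
    intro B hB hGB B' hGB' hne v hv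
    have hfix1 : ∀ c ∈ B, c * (e B hB v : G) * c⁻¹ = e B hB v := by
      intro c hc
      have : θ ⟨c, hQV (hB hc)⟩ (e B hB v) = e B hB v := by
        simp only [e, map_prod, ← MulAut.mul_apply, ← map_mul]
        exact Fintype.prod_bijective _ (Group.mulLeft_bijective (⟨c, hc⟩ : B)) _ _ fun b => rfl
      exact congrArg Subtype.val this
    have hfix2 : ∀ c ∈ B', c * (e B hB v : G) * c⁻¹ = e B hB v := by
      intro c hc
      have : θ ⟨c, hQV (hGB'.1 hc)⟩ (e B hB v) = e B hB v := by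
        simp only [e, map_prod, ← MulAut.mul_apply, ← map_mul]
        refine Finset.prod_congr rfl fun b _ => Subtype.ext ?_
        show c * (b : G) * (v : G) * (c * (b : G))⁻¹ = (b : G) * v * (b : G)⁻¹
        rw [hQc c (hGB'.1 hc) b (hB b.2), mul_assoc (b : G), mem_centralizer_iff.1 hv c hc]
        group
      exact congrArg Subtype.val this
    have hsup : B ⊔ B' = Q := by
      rcases hmax B hGB (B ⊔ B') le_sup_left (sup_le hB hGB'.1) with h | h
      · exfalso
        rcases hmax B' hGB' B (h ▸ le_sup_right) hB with h' | h'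
        · exact hne h'
        · exact hGB.2.2.1 h'
      · exact h
    have hle : B ⊔ B' ≤ centralizer ({(e B hB v : G)} : Set G) := by
      refine sup_le (fun c hc => ?_) (fun c hc => ?_)
      · exact mem_centralizer_singleton_iff.2 (mul_inv_eq_iff_eq_mul.1 (hfix1 c hc))
      · exact mem_centralizer_singleton_iff.2 (mul_inv_eq_iff_eq_mul.1 (hfix2 c hc))
    refine Subtype.ext (show (e B hB v : G) = 1 from ?_)
    rw [← mem_bot, ← hCVQ]
    exact ⟨(e B hB v).2, mem_centralizer_iff.2 fun c hc =>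
      mem_centralizer_singleton_iff.1 (hle (hsup.ge hc))⟩
  -- the fixed points `N v`
  let N : V → V := fun v => ∏ i ∈ Finset.range r, (σ ^ i) v
  have hN : ∀ v, (N v : G) ∈ V ⊓ centralizer (zpowers x : Set G) := by
    intro v
    refine ⟨(N v).2, Shult.mem_centralizer_zpowers ?_⟩
    rw [← hσ]
    congr 1
    obtain ⟨r', hr'⟩ : ∃ r', r = r' + 1 := ⟨r - 1, by have := hr.out.pos; omega⟩
    simp only [N, map_prod, ← MulAut.mul_apply, ← pow_succ', hr']
    rw [Finset.prod_range_succ, Finset.prod_range_succ' (fun j => (σ ^ j) v), ← hr', hσr, pow_zero]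
  have hσC : ∀ (i : ℕ) (B : Subgroup G) (v : V), (v : G) ∈ centralizer (B : Set G) →
      ((σ ^ i) v : G) ∈ centralizer ((MulAut.conj (x ^ i) • B : Subgroup G) : Set G) :=
    fun i B v hv => by
      rw [hσj]
      exact (hC_conj _ B (hxjN V i hxV) v ⟨v.2, hv⟩).2
  have hGoodx : ∀ (i : ℕ) B, Good B → Good (MulAut.conj (x ^ i) • B) :=
    fun i B h => hGood _ B (hxjN V i hxV) (hxjN Q i hxQ) h
  -- stabilizers of non-fixed members
  have hper : ∀ B : Subgroup G, MulAut.conj x • B ≠ B → ∀ i : ℕ,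
      MulAut.conj (x ^ i) • B = B → r ∣ i := by
    intro B hB i hi
    by_contra hd
    obtain ⟨m, -, hm⟩ := Nat.exists_mul_mod_eq_one_of_coprime
      ((hr.out.coprime_iff_not_dvd.2 hd).symm) hr.out.one_lt
    have h : ∀ m : ℕ, MulAut.conj ((x ^ i) ^ m) • B = B := fun m => by
      induction m with
      | zero => simp
      | succ m ih => rw [pow_succ, map_mul, mul_smul, hi, ih]
    have h3 := h m
    rw [← pow_mul, ← Nat.div_add_mod (i * m) r, hm, pow_succ, pow_mul, hxr, one_pow, one_mul] at h3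
    exact hB h3
  have heN : ∀ (B : Subgroup G) (hB : B ≤ Q), Good B → MulAut.conj x • B ≠ B → ∀ v : V,
      (v : G) ∈ centralizer (B : Set G) → e B hB (N v) = v ^ Nat.card B := by
    intro B hB hGB hnf v hv
    rw [he_prod B hB, Finset.prod_eq_single 0]
    · rw [pow_zero, MulAut.one_apply, he_self B hB v hv]
    · intro i hi hi0
      refine he_other B hB hGB _ (hGoodx i B hGB) (fun h => ?_) _ (hσC i B v hv)
      have := Nat.le_of_dvd (Nat.pos_of_ne_zero hi0) (hper B hnf i h.symm)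
      have := Finset.mem_range.1 hi
      omega
    · intro h
      exact absurd (Finset.mem_range.2 hr.out.pos) h
  have hBp : ∀ B : Subgroup G, B ≤ Q → (Nat.card B).Coprime p := by
    intro B hB
    obtain ⟨k, hk⟩ := IsPGroup.iff_card.mp (hQ.to_le hB)
    rw [hk]
    exact Nat.Coprime.pow_left k ((Nat.coprime_primes hq.out hp.out).2 hpq.symm)
  have hroot : ∀ (B : Subgroup G), B ≤ Q → ∀ v : V, v ^ Nat.card B = 1 → v = 1 := by
    intro B hB v hv
    have h1 : v ^ p = 1 := Subtype.ext (hV.2 _ v.2)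
    have := pow_gcd_eq_one.mpr ⟨hv, h1⟩
    rwa [(hBp B hB).gcd_eq_one, pow_one] at this
  -- any two non-fixed members are conjugate under `x`
  have horb : ∀ B, Good B → MulAut.conj x • B ≠ B → ∀ B', Good B' →
      MulAut.conj x • B' ≠ B' → ∃ i < r, B' = MulAut.conj (x ^ i) • B := by
    intro B hGB hB B' hGB' hB'
    by_contra hno
    push Not at hno
    obtain ⟨⟨v, hv⟩, hv1⟩ := Subgroup.ne_bot_iff_exists_ne_one.1 hGB.2.2.2
    obtain ⟨⟨w, hw⟩, hw1⟩ := Subgroup.ne_bot_iff_exists_ne_one.1 hGB'.2.2.2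
    let v' : V := ⟨v, hv.1⟩
    let w' : V := ⟨w, hw.1⟩
    have hNv : N v' ≠ 1 := fun h => by
      have h1 := heN B hGB.1 hGB hB v' hv.2
      rw [h, he_one B hGB.1] at h1
      exact hv1 (Subtype.ext (congrArg Subtype.val (hroot B hGB.1 v' h1.symm) :))
    have heB' : e B' hGB'.1 (N v') = 1 := by
      rw [he_prod B' hGB'.1]
      refine Finset.prod_eq_one fun i hi => ?_
      exact he_other B' hGB'.1 hGB' _ (hGoodx i B hGB) (hno i (Finset.mem_range.1 hi)) _
        (hσC i B v' hv.2)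
    obtain ⟨k, hk⟩ := mem_zpowers_iff.1 (hcyc _ (hN v') _ (hN w')
      fun h => hNv (Subtype.ext h))
    have hk' : N w' = N v' ^ k := Subtype.ext (by rw [← hk]; simp)
    have h2 := heN B' hGB'.1 hGB' hB' w' hw.2
    rw [hk', show e B' hGB'.1 (N v' ^ k) = e B' hGB'.1 (N v') ^ k from
      map_zpow (⟨⟨e B' hGB'.1, he_one B' hGB'.1⟩, he_mul B' hGB'.1⟩ : V →* V) _ k, heB', one_zpow] at h2
    exact hw1 (Subtype.ext (congrArg Subtype.val (hroot B' hGB'.1 w' h2.symm) :))
  -- `P` does not fix a non-fixed member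
  have hnofix1 : ∀ B, Good B → MulAut.conj x • B ≠ B →
      ¬ ∀ g ∈ P, g ∈ normalizer (B : Set G) := by
    intro B hGB hB hPB
    obtain ⟨⟨v, hv⟩, hv1⟩ := Subgroup.ne_bot_iff_exists_ne_one.1 hGB.2.2.2
    let v' : V := ⟨v, hv.1⟩
    have hNv : N v' ≠ 1 := fun h => by
      have h1 := heN B hGB.1 hGB hB v' hv.2
      rw [h, he_one B hGB.1] at h1
      exact hv1 (Subtype.ext (congrArg Subtype.val (hroot B hGB.1 v' h1.symm) :))
    have hgen : (⊥ : Subgroup G) ⊔ zpowers v = C B := by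
      rw [bot_sup_eq]
      refine le_antisymm (zpowers_le.2 hv) fun w hw => ?_
      let w' : V := ⟨w, hw.1⟩
      obtain ⟨k, hk⟩ := mem_zpowers_iff.1 (hcyc _ (hN v') _ (hN w')
        fun h => hNv (Subtype.ext h))
      have hk' : N w' = N v' ^ k := Subtype.ext (by rw [← hk]; simp)
      have h2 := heN B hGB.1 hGB hB w' hw.2
      rw [hk', show e B hGB.1 (N v' ^ k) = e B hGB.1 (N v') ^ k from
        map_zpow (⟨⟨e B hGB.1, he_one B hGB.1⟩, he_mul B hGB.1⟩ : V →* V) _ k,
        heN B hGB.1 hGB hB v' hv.2] at h2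
      have h3 : (w' * (v' ^ k)⁻¹) ^ Nat.card B = 1 := by
        rw [mul_pow, inv_pow, ← h2, mul_inv_eq_one, ← zpow_natCast (v' ^ k), ← zpow_mul, mul_comm k,
          zpow_mul, zpow_natCast]
      have h4 := congrArg Subtype.val (mul_inv_eq_one.1 (hroot B hGB.1 _ h3))
      rw [mem_zpowers_iff]
      exact ⟨k, by simpa [v', w'] using h4.symm⟩
    have hQB : ∀ a ∈ Q, a ∈ normalizer (B : Set G) := fun a ha =>
      mem_normalizer_iff.2 fun y => ⟨fun hy => by
        rwa [hQc a ha y (hGB.1 hy), mul_inv_cancel_right], fun hy => by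
        have hyQ : y ∈ Q := by
          have := mul_mem (mul_mem (inv_mem ha) (hGB.1 hy)) ha
          simpa [mul_assoc] using this
        rwa [hQc a ha y hyQ, mul_inv_cancel_right] at hy⟩
    have hNC : ∀ g : G, g ∈ normalizer (V : Set G) → g ∈ normalizer (B : Set G) →
        g ∈ normalizer ((C B : Subgroup G) : Set G) := by
      intro g hgV hgB
      refine mem_normalizer_iff.2 fun y => ⟨fun hy => ?_, fun hy => ?_⟩
      · have := hC_conj g B hgV y hy
        rwa [hnorm_smul g B hgB] at this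
      · have := hC_conj g⁻¹ B (inv_mem hgV) _ hy
        rw [hnorm_smul _ B (inv_mem hgB)] at this
        simpa [mul_assoc] using this
    have hWc : ∀ a ∈ C B, ∀ b ∈ C B, a * b = b * a := fun a ha b hb =>
      congrArg Subtype.val (mul_comm (⟨a, ha.1⟩ : V) ⟨b, hb.1⟩)
    have hle : Q ≤ centralizer ((C B : Subgroup G) : Set G) := by
      calc Q = ⁅Q, P⁆ := hQP.symm
        _ ≤ _ := by
          rw [commutator_le]
          intro a ha g hg
          refine mem_centralizer_iff.2 fun w hw => ?_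
          have hu : (g * a)⁻¹ * w * (g * a) ∈ C B := by
            have h1 := hNC (g * a) (mul_mem (hPV hg) (hQV ha)) (mul_mem (hPB g hg) (hQB a ha))
            have := (mem_normalizer_iff.1 (inv_mem h1) w).1 hw
            simpa using this
          have h1 := cyclic_section_comm hWc bot_le hv hgen
            (hNC a (hQV ha) (hQB a ha))
            (mem_normalizer_iff.2 fun y => by simp)
            (hNC g (hPV hg) (hPB g hg)) (mem_normalizer_iff.2 fun y => by simp) hu
          rw [mem_bot, mul_inv_eq_one] at h1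
          symm
          calc ⁅a, g⁆ * w = (a * g) * ((g * a)⁻¹ * w * (g * a)) * (a * g)⁻¹ * ⁅a, g⁆ := by
                simp only [commutatorElement_def]; group
            _ = w * ⁅a, g⁆ := by rw [h1]; group
    refine hv1 (Subtype.ext ?_)
    show v = 1
    rw [← mem_bot, ← hCVQ]
    exact ⟨hv.1, mem_centralizer_iff.2 fun a ha => (mem_centralizer_iff.1 (hle ha) v hv).symm⟩
  -- `P` does not fix a fixed member
  have hnofix2 : ∀ B, Good B → MulAut.conj x • B = B →
      ¬ ∀ g ∈ P, g ∈ normalizer (B : Set G) := by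
    intro B hGB hB hPB
    obtain ⟨hBQ, ⟨a₀, ha₀, hgen⟩, hne, -⟩ := hGB
    have hxB : x ∈ normalizer (B : Set G) := by
      rw [mem_normalizer_iff_map_conj_eq]
      exact hB
    refine hne (le_antisymm hBQ ?_)
    calc Q = ⁅Q, P⁆ := hQP.symm
      _ ≤ B := by
        rw [commutator_le]
        intro a ha t ht
        obtain ⟨⟨g, hg⟩, hgt⟩ := (bijective_inv_mul (α := α) fun y hy => Subtype.ext
          (hfpf y y.2 ((hα y).symm.trans (congrArg Subtype.val hy)))).2 ⟨t, ht⟩
        have ht' : g⁻¹ * (x * g * x⁻¹) = t := by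
          have := congrArg Subtype.val hgt
          simpa [hα] using this
        have hu : x⁻¹ * a * x ∈ Q := by
          have := (mem_normalizer_iff.1 (inv_mem hxQ) a).1 ha
          simpa using this
        have h1 := cyclic_section_comm hQc hBQ ha₀ hgen hxQ hxB (hPQ hg) (hPB g hg) hu
        have h2 := (mem_normalizer_iff.1 (inv_mem (hPB g hg)) _).1 h1
        have e : ⁅a, t⁆ = (g⁻¹ * (x * g * (x⁻¹ * a * x) * (x * g)⁻¹ *
            (g * x * (x⁻¹ * a * x) * (g * x)⁻¹)⁻¹) * g⁻¹⁻¹)⁻¹ := by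
          rw [← ht', commutatorElement_def]; group
        rw [e]
        exact inv_mem h2
  -- some member
  haveI : IsMulCommutative Q := ⟨⟨fun s t => Subtype.ext (hQc s s.2 t t.2)⟩⟩
  have hVp : IsPGroup p V := fun v => ⟨1, by rw [pow_one]; exact Subtype.ext (hV.2 _ v.2)⟩
  obtain ⟨B₀, hGB₀⟩ : ∃ B, Good B := by
    by_contra hno
    push Not at hno
    apply hV1
    obtain ⟨k, hk⟩ := IsPGroup.iff_card.mp hQ
    obtain ⟨l, hl⟩ := IsPGroup.iff_card.mp hVp
    have h := Lib.Coprime.iSup_centralizer_cyclic_quotient_eq hQV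
      (hk ▸ hl ▸ Nat.Coprime.pow k l ((Nat.coprime_primes hq.out hp.out).2 hpq.symm))
    rw [eq_bot_iff, ← h]
    refine iSup₂_le fun B hB => ?_
    by_cases hBQ : B = Q
    · subst hBQ
      exact hCVQ.le
    · by_contra h'
      exact hno B ⟨hB.1, hB.2, hBQ, fun h'' => h' h''.le⟩
  let Λ := {B : Subgroup G // Good B}
  letI : MulAction P Λ :=
    { smul := fun g B => ⟨MulAut.conj (g : G) • B.1, hGood _ _ (hPV g.2) (hPQ g.2) B.2⟩
      one_smul := fun B => Subtype.ext (show MulAut.conj ((1 : P) : G) • B.1 = B.1 by simp)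
      mul_smul := fun g h B => Subtype.ext (show MulAut.conj ((g * h : P) : G) • B.1 =
        MulAut.conj (g : G) • MulAut.conj (h : G) • B.1 by
          rw [Subgroup.coe_mul, map_mul, mul_smul]) }
  have hsmul : ∀ (g : P) (B : Λ), (g • B).1 = MulAut.conj (g : G) • B.1 := fun _ _ => rfl
  have hnofix : ∀ B : Λ, ¬ ∀ g : P, g • B = B := by
    intro B h
    have h' : ∀ g ∈ P, g ∈ normalizer (B.1 : Set G) := fun g hg => by
      rw [mem_normalizer_iff_map_conj_eq]
      exact congrArg Subtype.val (h ⟨g, hg⟩)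
    by_cases hB : MulAut.conj x • B.1 = B.1
    · exact hnofix2 _ B.2 hB h'
    · exact hnofix1 _ B.2 hB h'
  let Ω : Set Λ := {B | MulAut.conj x • B.1 ≠ B.1}
  have hΩ : ∀ B₁ ∈ Ω, Nat.card Ω = r := by
    intro B₁ hB₁
    let f : Fin r → Ω := fun i => ⟨⟨MulAut.conj (x ^ (i : ℕ)) • B₁.1, hGoodx i _ B₁.2⟩, fun h => by
      apply hB₁
      change MulAut.conj x • MulAut.conj (x ^ (i : ℕ)) • B₁.1 = MulAut.conj (x ^ (i : ℕ)) • B₁.1 at h
      rw [← mul_smul, ← map_mul, (Commute.self_pow x (i : ℕ)).eq, map_mul, mul_smul] at h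
      exact smul_left_cancel _ h⟩
    have hf : Function.Bijective f := by
      constructor
      · intro i j hij
        have h := congrArg (fun B : Ω => B.1.1) hij
        change MulAut.conj (x ^ (i : ℕ)) • B₁.1 = MulAut.conj (x ^ (j : ℕ)) • B₁.1 at h
        apply Fin.ext
        by_contra hne
        rcases lt_or_gt_of_ne hne with hlt | hlt
        · rw [show (j : ℕ) = i + (j - i) by omega, pow_add, map_mul, mul_smul] at h
          have := Nat.le_of_dvd (by omega) (hper _ hB₁ _ (smul_left_cancel _ h).symm)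
          omega
        · rw [show (i : ℕ) = j + (i - j) by omega, pow_add, map_mul, mul_smul] at h
          have := Nat.le_of_dvd (by omega) (hper _ hB₁ _ (smul_left_cancel _ h))
          omega
      · rintro ⟨B, hB⟩
        obtain ⟨i, hi, he⟩ := horb _ B₁.2 hB₁ _ B.2 hB
        exact ⟨⟨i, hi⟩, Subtype.ext (Subtype.ext he.symm)⟩
    rw [← Nat.card_eq_of_bijective f hf, Nat.card_fin]
  -- a `P`-orbit contains at most one fixed member
  have huniq : ∀ B : Λ, MulAut.conj x • B.1 = B.1 → ∀ g : P,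
      MulAut.conj x • (g • B).1 = (g • B).1 → g • B = B := by
    intro B hB g hg
    let S := MulAction.stabilizer P B
    have hαS : ∀ s ∈ S, α s ∈ S := fun s hs => by
      refine Subtype.ext ?_
      rw [hsmul, hα, map_mul, map_mul, mul_smul, mul_smul, map_inv]
      have h1 : (MulAut.conj x)⁻¹ • B.1 = B.1 := inv_smul_eq_iff.2 hB.symm
      rw [h1, show MulAut.conj (s : G) • B.1 = B.1 from congrArg Subtype.val hs, hB]
    have hgB : g⁻¹ * α g ∈ S := by
      refine Subtype.ext ?_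
      rw [hsmul, Subgroup.coe_mul, Subgroup.coe_inv, hα, map_mul, map_mul, map_mul, mul_smul,
        mul_smul, mul_smul, map_inv, map_inv]
      have h1 : (MulAut.conj x)⁻¹ • B.1 = B.1 := inv_smul_eq_iff.2 hB.symm
      rw [h1, ← hsmul g B, hg, hsmul, inv_smul_smul]
    have hinj := bijective_inv_mul (α := α) fun y hy => Subtype.ext
      (hfpf y y.2 ((hα y).symm.trans (congrArg Subtype.val hy)))
    obtain ⟨s, hs⟩ := (Finite.injective_iff_surjective
      (f := fun s : S => (⟨(s : P)⁻¹ * α s, S.mul_mem (S.inv_mem s.2) (hαS s s.2)⟩ : S))).1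
      (fun s t h => Subtype.ext (hinj.1 (congrArg Subtype.val h))) ⟨_, hgB⟩
    have := hinj.1 (congrArg Subtype.val hs : (s : P)⁻¹ * α s = g⁻¹ * α g)
    rw [← this]
    exact s.2
  by_cases hfix : ∃ B : Λ, MulAut.conj x • B.1 = B.1
  · obtain ⟨B, hB⟩ := hfix
    obtain ⟨g₁, hg₁⟩ := not_forall.1 (hnofix B)
    have hΩ₁ : g₁ • B ∈ Ω := fun h => hg₁ (huniq B hB g₁ h)
    have hO : MulAction.orbit P B = insert B Ω := by
      refine Set.Subset.antisymm ?_ ?_
      · rintro _ ⟨g, rfl⟩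
        by_cases h : MulAut.conj x • (g • B).1 = (g • B).1
        · exact Or.inl (huniq B hB g h)
        · exact Or.inr h
      · rintro C' (rfl | hC')
        · exact MulAction.mem_orbit_self _
        · obtain ⟨i, -, hi⟩ := horb _ (g₁ • B).2 hΩ₁ _ C'.2 hC'
          refine ⟨(α ^ i) g₁, Subtype.ext ?_⟩
          have hαi : ∀ i : ℕ, (((α ^ i) g₁ : P) : G) = x ^ i * (g₁ : G) * (x ^ i)⁻¹ := by
            intro i
            induction i with
            | zero => simp
            | succ i ih => rw [pow_succ', MulAut.mul_apply, hα, ih, pow_succ']; group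
          have hBi : ∀ i : ℕ, MulAut.conj (x ^ i) • B.1 = B.1 := fun i => by
            induction i with
            | zero => simp
            | succ i ih => rw [pow_succ, map_mul, mul_smul, hB, ih]
          show MulAut.conj (((α ^ i) g₁ : P) : G) • B.1 = C'.1
          rw [hαi, map_mul, map_mul, map_inv, mul_smul, mul_smul, inv_smul_eq_iff.2 (hBi i).symm, hi,
            hsmul]
    obtain ⟨a, ha⟩ := hP.card_orbit (a := B)
    rw [hO, Nat.card_coe_set_eq, Set.ncard_insert_of_notMem (fun (h : B ∈ Ω) => h hB) (Set.toFinite _),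
      ← Nat.card_coe_set_eq, hΩ _ hΩ₁] at ha
    have hodd : Odd (r + 1) := ha ▸ (hp.out.odd_of_ne_two hp2).pow
    exact (Nat.not_odd_iff_even.2 (hr.out.odd_of_ne_two hr2).add_one) hodd
  · push Not at hfix
    have hcard : Nat.card Λ = r := by
      rw [← hΩ ⟨B₀, hGB₀⟩ (hfix _)]
      exact Nat.card_congr (Equiv.subtypeUnivEquiv hfix).symm
    have h := hP.card_modEq_card_fixedPoints Λ
    have h0 : Nat.card (MulAction.fixedPoints P Λ) = 0 := by
      rw [Nat.card_eq_zero]
      exact Or.inl ⟨fun B => hnofix B.1 B.2⟩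
    rw [hcard, h0, Nat.modEq_zero_iff_dvd, Nat.prime_dvd_prime_iff_eq hp.out hr.out] at h
    exact hpr h

end Cfsg.Agent.Lib.OddLocal.PLengthKey
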