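import Cfsg.Agent.Lib.OddLocal.PLengthKey
import Cfsg.Agent.Lib.PSolvable.PLength
import Cfsg.Agent.Lib.Cores.Basic
import Cfsg.Agent.Lib.Cores.InvariantSylow
import Cfsg.Agent.Lib.Coprime.Conjugacy
import Cfsg.Agent.Lib.OddLocal.DerivedFitting

/-!
# BG Theorem 3.7: `[K, R]` has `p`-length one

`pLength_le_one` : `G` solvable of odd order, `K` normal with `⁅K, R⁆ = K`, `R` of coprime order,
`x ∈ R` of prime order with `C_K(x)` a Z-group; then `K` has `p`-length at most one.
-/

set_option autoImplicit false
set_option linter.unusedSectionVars false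
set_option linter.style.haveILetI false

namespace Cfsg.Agent.Lib.OddLocal.PLengthMain

open Subgroup
open Cfsg.Agent.Lib
open scoped commutatorElement Pointwise

universe u

variable {G : Type u} [Group G] [Finite G]

theorem mem_zpowers_of_isCyclic {T : Type*} [Group T] [Finite T] [IsCyclic T] {p : ℕ}
    [hp : Fact p.Prime] {a b : T} (ha : a ^ p = 1) (ha1 : a ≠ 1) (hb : b ^ p = 1) :
    b ∈ zpowers a := by
  classical
  letI := Fintype.ofFinite T
  have hsub : (zpowers a : Set T).toFinset ⊆ Finset.univ.filter fun y => y ^ p = 1 := by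
    intro y hy
    rw [Set.mem_toFinset] at hy
    obtain ⟨k, rfl⟩ := mem_zpowers_iff.1 hy
    simp only [Finset.mem_filter, Finset.mem_univ, true_and]
    rw [← zpow_natCast, ← zpow_mul, mul_comm, zpow_mul, zpow_natCast, ha, one_zpow]
  have hcard : (zpowers a : Set T).toFinset.card = p := by
    rw [Set.toFinset_card, ← Nat.card_eq_fintype_card]
    exact (Nat.card_zpowers a).trans (orderOf_eq_prime ha ha1)
  have heq := Finset.eq_of_subset_of_card_le hsub
    ((IsCyclic.card_pow_eq_one_le hp.out.pos).trans hcard.ge)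
  have : b ∈ (zpowers a : Set T).toFinset := by rw [heq]; simpa using hb
  simpa using this

/-- The dependence of fixed points of order `p` in a Z-group. -/
theorem mem_zpowers_of_isZGroup {p : ℕ} [Fact p.Prime] {C T : Subgroup G} (hC : IsZGroup C)
    (hTC : T ≤ C) (hT : IsPGroup p T) {a b : G} (ha : a ∈ T) (hb : b ∈ T) (hap : a ^ p = 1)
    (ha1 : a ≠ 1) (hbp : b ^ p = 1) : b ∈ zpowers a := by
  haveI := hC
  haveI : IsZGroup T := IsZGroup.of_injective (inclusion_injective hTC)
  haveI : IsCyclic (⊤ : Subgroup T) := (hT.to_subgroup ⊤).isCyclic_of_isZGroup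
  haveI : IsCyclic T := isCyclic_of_surjective _ Subgroup.topEquiv.surjective
  obtain ⟨k, hk⟩ := mem_zpowers_iff.1 (mem_zpowers_of_isCyclic (p := p)
    (a := (⟨a, ha⟩ : T)) (b := ⟨b, hb⟩) (Subtype.ext hap)
    (fun h => ha1 (congrArg Subtype.val h)) (Subtype.ext hbp))
  exact mem_zpowers_iff.2 ⟨k, congrArg Subtype.val hk⟩

/-- Coprime fixed points in a quotient: the Z-group hypothesis is inherited. -/
theorem isZGroup_map [Group.IsSolvable G] (K N : Subgroup G) [N.Normal] (hNK : N ≤ K) (x : G)
    (hcop : (Nat.card K).Coprime (orderOf x))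
    (hZ : IsZGroup ↥(K ⊓ centralizer (zpowers x : Set G))) :
    IsZGroup ↥(K.map (QuotientGroup.mk' N) ⊓
      centralizer (zpowers (QuotientGroup.mk' N x) : Set (G ⧸ N))) := by
  set f := QuotientGroup.mk' N with hf
  haveI := hZ
  have hle : K.map f ⊓ centralizer (zpowers (f x) : Set (G ⧸ N)) ≤
      (K ⊓ centralizer (zpowers x : Set G)).map f := by
    rintro _ ⟨⟨k, hk, rfl⟩, hkc⟩
    obtain ⟨n, hn, hkn⟩ := Coprime.exists_mul_fixed (A := zpowers x) (N := N)
      le_normalizer_of_normal
      (by
        rw [Nat.card_zpowers]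
        exact (hcop.coprime_dvd_left (card_dvd_of_le hNK)).symm)
      (Or.inr inferInstance) (k := k) (fun a ha => by
        rw [← QuotientGroup.eq_one_iff]
        show f (k⁻¹ * (a * k * a⁻¹)) = 1
        rw [map_mul, map_mul, map_mul, map_inv, map_inv,
          mem_centralizer_iff.1 hkc (f a) (by rw [← MonoidHom.map_zpowers]; exact mem_map_of_mem f ha)]
        group)
    refine ⟨k * n, ⟨mul_mem hk (hNK hn), hkn⟩, ?_⟩
    rw [map_mul, show f n = 1 from (QuotientGroup.eq_one_iff n).2 hn, mul_one]
  haveI : IsZGroup ↥((K ⊓ centralizer (zpowers x : Set G)).map f) :=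
    IsZGroup.of_surjective (f.subgroupMap_surjective _)
  exact IsZGroup.of_injective (inclusion_injective hle)

theorem mulAut_comm_of_isCyclic {A : Type*} [Group A] [IsCyclic A] (σ τ : MulAut A) :
    σ * τ = τ * σ := by
  obtain ⟨m, hm⟩ := MonoidHom.map_cyclic σ.toMonoidHom
  obtain ⟨n, hn⟩ := MonoidHom.map_cyclic τ.toMonoidHom
  simp only [MulEquiv.coe_toMonoidHom] at hm hn
  ext a
  rw [MulAut.mul_apply, MulAut.mul_apply, hn, hm, hm, hn, ← zpow_mul, ← zpow_mul, mul_comm]

/-- The main step: over a faithful Frattini-free module the quotient has order prime to `p`. -/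
theorem not_dvd_relIndex [Group.IsSolvable G] (hodd : Odd (Nat.card G)) (K R : Subgroup G)
    [K.Normal] (hKR : ⁅K, R⁆ = K) {x : G} {r : ℕ} [hr : Fact r.Prime] (hxR : x ∈ R)
    (hxo : orderOf x = r) (hcop : (Nat.card K).Coprime r)
    (hZ : IsZGroup ↥(K ⊓ centralizer (zpowers x : Set G))) {p : ℕ} [hp : Fact p.Prime]
    (hpK : p ∣ Nat.card K) (V : Subgroup G) [V.Normal] (hVK : V ≤ K)
    (hV : Cfsg.IsElementaryAbelian p V) (hCV : K ⊓ centralizer (V : Set G) ≤ V)
    (hmax : ∀ S : Subgroup G, S.Normal → V ≤ S → S ≤ K → IsPGroup p S → S ≤ V) :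
    ¬ p ∣ V.relIndex K := by
  classical
  have hpr : p ≠ r := fun h => hr.out.ne_one
    (Nat.eq_one_of_dvd_coprimes hcop (h ▸ hpK) dvd_rfl)
  have hodd' : ∀ n, n ∣ Nat.card G → n ≠ 2 := fun n hn h =>
    Nat.not_even_iff_odd.2 hodd (even_iff_two_dvd.2 (h ▸ hn))
  have hp2 : p ≠ 2 := hodd' p (hpK.trans (card_subgroup_dvd_card K))
  have hr2 : r ≠ 2 := hodd' r (hxo ▸ orderOf_dvd_natCard x)
  have hVp : IsPGroup p V := fun v => ⟨1, by rw [pow_one]; exact Subtype.ext (hV.2 _ v.2)⟩
  have hx1 : x ≠ 1 := fun h => hr.out.ne_one (by rw [← hxo, h, orderOf_one])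
  have hxr : x ^ r = 1 := hxo ▸ pow_orderOf_eq_one x
  set X := zpowers x with hX
  have hXcard : Nat.card X = r := by rw [hX, Nat.card_zpowers, hxo]
  set π := QuotientGroup.mk' V with hπ
  have hπs : Function.Surjective π := QuotientGroup.mk'_surjective V
  have hπ1 : ∀ g, π g = 1 ↔ g ∈ V := fun g => QuotientGroup.eq_one_iff g
  set L := K.map π with hLdef
  haveI : L.Normal := Subgroup.Normal.map inferInstance π hπs
  have hcardL : Nat.card L = V.relIndex K := by
    rw [hLdef, ← relIndex_ker, QuotientGroup.ker_mk']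
  have hLR : ⁅L, R.map π⁆ = L := by rw [hLdef, ← map_commutator, hKR]
  -- the Fitting subgroup of `L` is centralized by all its `p`-elements
  have hclaim : ∀ q : ℕ, q.Prime → q ≠ p → ∀ u ∈ L, (∃ k, orderOf u = p ^ k) →
      u ∈ centralizer (((Cfsg.pCore q L).map L.subtype : Subgroup (G ⧸ V)) : Set (G ⧸ V)) := by
    intro q hq hqp u hu hup
    haveI : Fact q.Prime := ⟨hq⟩
    set Fq := (Cfsg.pCore q L).map L.subtype with hFqdef
    haveI : Fq.Normal := Cores.normal_map_subtype L _
    have hFqL : Fq ≤ L := map_subtype_le _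
    have hFqp : IsPGroup q Fq := (Cores.pCore_isPGroup q).map _
    by_cases hFq1 : Fq = ⊥
    · rw [hFq1]
      exact mem_centralizer_iff.2 fun y hy => by rw [(mem_bot.1 hy : y = 1)]; simp
    have hqL : q ∣ Nat.card Fq := by
      obtain ⟨k, hk⟩ := IsPGroup.iff_card.mp hFqp
      rcases Nat.eq_zero_or_pos k with h0 | h0
      · exact absurd (Subgroup.card_eq_one.1 (by rw [hk, h0, pow_zero])) hFq1
      · exact hk ▸ dvd_pow_self q h0.ne'
    have hqK : q ∣ Nat.card K :=
      (hqL.trans (card_dvd_of_le hFqL)).trans (hLdef ▸ Subgroup.card_map_dvd K π)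
    have hqr : q ≠ r := fun h => hr.out.ne_one
      (Nat.eq_one_of_dvd_coprimes hcop (h ▸ hqK) dvd_rfl)
    have hq2 : q ≠ 2 := hodd' q (hqK.trans (card_subgroup_dvd_card K))
    set D := K ⊓ Fq.comap π with hDdef
    have hDmap : D.map π = Fq := by
      refine le_antisymm ?_ fun y hy => ?_
      · rintro _ ⟨d, hd, rfl⟩
        exact hd.2
      · obtain ⟨k, hk, rfl⟩ := hFqL hy
        exact ⟨k, ⟨hk, hy⟩, rfl⟩
    have hVD : V ≤ D := fun v hv => ⟨hVK hv, by
      show π v ∈ Fq
      rw [(hπ1 v).2 hv]
      exact one_mem _⟩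
    have hcopXD : (Nat.card X).Coprime (Nat.card D) := by
      rw [hXcard]
      exact (hcop.coprime_dvd_left (card_dvd_of_le inf_le_left)).symm
    obtain ⟨Q, hQD, hQ, hQi, hXQ⟩ := Cores.InvariantSylow.exists_invariant (A := X) (K := D)
      le_normalizer_of_normal hcopXD (Or.inr inferInstance) q
    have hQK : Q ≤ K := hQD.trans inf_le_left
    have hQV : Q ⊓ V = ⊥ := (disjoint_of_coprime_natCard
      (PLengthKey.card_coprime_of_isPGroup hqp hQ hVp)).eq_bot
    have hQmap : Q.map π = Fq := by
      refine le_antisymm (hDmap ▸ map_mono hQD) (relIndex_eq_one.1 ?_)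
      have hd : (Q.map π).relIndex Fq ∣ Q.relIndex D :=
        hDmap ▸ PSolvable.relIndex_map_dvd π Q D
      obtain ⟨k, hk⟩ := IsPGroup.iff_card.mp hFqp
      obtain ⟨j, -, hj⟩ := (Nat.dvd_prime_pow hq).1 (hk ▸ relIndex_dvd_card (Q.map π) Fq)
      rcases Nat.eq_zero_or_pos j with h0 | h0
      · rw [hj, h0, pow_zero]
      · exact absurd ((dvd_pow_self q h0.ne').trans (hj ▸ hd)) hQi
    have hfaith : Q ⊓ centralizer (V : Set G) = ⊥ :=
      le_bot_iff.1 (hQV ▸ le_inf inf_le_left
        ((inf_le_inf hQK le_rfl).trans hCV))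
    have hxQ : x ∈ normalizer (Q : Set G) := hXQ (mem_zpowers x)
    have hxV : x ∈ normalizer (V : Set G) := le_normalizer_of_normal (mem_top x)
    set V1 := ⁅V, Q⁆ with hV1def
    have hV1V : V1 ≤ V := commutator_le_left V Q
    haveI := hV.1
    by_cases hcase : ∀ v ∈ V1, x * v * x⁻¹ = v → v = 1
    · -- `x` centralizes `Q`
      have hQC : x ∈ centralizer (Q : Set G) := by
        by_contra hxC
        have hfaith1 : Q ⊓ centralizer (V1 : Set G) = ⊥ := by
          rw [eq_bot_iff, ← hfaith]
          refine le_inf inf_le_left fun g hg => ?_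
          rw [← Coprime.centralizer_sup_commutator (A := Q) (V := V) le_normalizer_of_normal
            (PLengthKey.card_coprime_of_isPGroup hqp hQ hVp)]
          refine mem_centralizer_iff.2 fun v hv => ?_
          have hle : (V ⊓ centralizer (Q : Set G)) ⊔ ⁅V, Q⁆ ≤ centralizer ({g} : Set G) :=
            sup_le (fun y hy => mem_centralizer_singleton_iff.2
                (mem_centralizer_iff.1 hy.2 g hg.1).symm)
              (fun y hy => mem_centralizer_singleton_iff.2
                (mem_centralizer_iff.1 hg.2 y hy))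
          exact mem_centralizer_singleton_iff.1 (hle hv)
        have hXfaith : X ⊓ centralizer (Q : Set G) = ⊥ := by
          rw [eq_bot_iff]
          intro g hg
          rw [mem_bot]
          by_contra hg1
          haveI : Fact (Nat.card X).Prime := ⟨hXcard ▸ hr.out⟩
          rcases ((centralizer (Q : Set G)).subgroupOf X).eq_bot_or_eq_top_of_prime_card with h | h
          · have hmem : (⟨g, hg.1⟩ : X) ∈ (centralizer (Q : Set G)).subgroupOf X := hg.2
            rw [h, mem_bot] at hmem
            exact hg1 (congrArg Subtype.val hmem)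
          · exact hxC (subgroupOf_eq_top.1 h (mem_zpowers x))
        have hV1n : ∀ g : G, g ∈ normalizer (Q : Set G) → g ∈ normalizer (V1 : Set G) := fun g hg =>
          PLengthKey.commutator_normalized (le_normalizer_of_normal (mem_top g)) hg
        have hfaith2 : (X ⊔ Q) ⊓ centralizer (V1 : Set G) = ⊥ := by
          rw [eq_bot_iff]
          rintro g ⟨hg, hgC⟩
          replace hg : g ∈ ((X ⊔ Q : Subgroup G) : Set G) := hg
          rw [coe_mul_of_left_le_normalizer_right X Q hXQ] at hg
          obtain ⟨a, ha, b, hb, rfl⟩ := hg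
          replace hgC : a * b ∈ centralizer (V1 : Set G) := hgC
          show a * b ∈ (⊥ : Subgroup G)
          have hab : a * b ∈ normalizer (Q : Set G) := mul_mem (hXQ ha) (le_normalizer hb)
          -- `a * b` centralizes `Q`
          have hcQ : ∀ c ∈ Q, (a * b) * c * (a * b)⁻¹ = c := by
            intro c hc
            rw [← mul_inv_eq_one, ← mem_bot, ← hfaith1]
            refine mem_inf.2 ⟨mul_mem ((mem_normalizer_iff.1 hab c).1 hc) (inv_mem hc), ?_⟩
            have hn : c ∈ normalizer ((centralizer (V1 : Set G) : Subgroup G) : Set G) := by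
              have hcn := hV1n c (le_normalizer hc)
              refine mem_normalizer_iff.2 fun y => ⟨fun hy => ?_, fun hy => ?_⟩
              · refine mem_centralizer_iff.2 fun v hv => ?_
                have := mem_centralizer_iff.1 hy _ ((mem_normalizer_iff.1 (inv_mem hcn) v).1 hv)
                calc v * (c * y * c⁻¹) = c * ((c⁻¹ * v * c⁻¹⁻¹) * y) * c⁻¹ := by group
                  _ = c * y * c⁻¹ * v := by rw [this]; group
              · refine mem_centralizer_iff.2 fun v hv => ?_
                have := mem_centralizer_iff.1 hy _ ((mem_normalizer_iff.1 hcn v).1 hv)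
                calc v * y = c⁻¹ * ((c * v * c⁻¹) * (c * y * c⁻¹)) * c := by group
                  _ = y * v := by rw [this]; group
            rw [show a * b * c * (a * b)⁻¹ * c⁻¹ = (a * b) * (c * (a * b)⁻¹ * c⁻¹) by group]
            exact mul_mem hgC ((mem_normalizer_iff.1 hn _).1 (inv_mem hgC))
          let θ := Q.normalizerMonoidHom
          have h1 : θ ⟨a, hXQ ha⟩ * θ ⟨b, le_normalizer hb⟩ = 1 := by
            rw [← map_mul]
            ext ⟨c, hc⟩
            exact hcQ c hc
          have h2 : θ ⟨a, hXQ ha⟩ = 1 := by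
            rw [← orderOf_eq_one_iff]
            refine Nat.eq_one_of_dvd_coprimes (a := r) (b := Nat.card Q) ?_ ?_ ?_
            · obtain ⟨k, hk⟩ := IsPGroup.iff_card.mp hQ
              rw [hk]
              exact Nat.Coprime.pow_right k ((Nat.coprime_primes hr.out hq).2 hqr.symm)
            · refine (orderOf_map_dvd θ _).trans ?_
              rw [← orderOf_injective (normalizer (Q : Set G)).subtype
                (normalizer (Q : Set G)).subtype_injective]
              exact hXcard ▸ Subgroup.orderOf_dvd_natCard X ha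
            · rw [eq_inv_of_mul_eq_one_left h1, orderOf_inv]
              refine (orderOf_map_dvd θ _).trans ?_
              rw [← orderOf_injective (normalizer (Q : Set G)).subtype
                (normalizer (Q : Set G)).subtype_injective]
              exact Subgroup.orderOf_dvd_natCard Q hb
          have ha1 : a = 1 := by
            rw [← mem_bot, ← hXfaith]
            refine ⟨ha, mem_centralizer_iff.2 fun c hc => ?_⟩
            have h3 := congrArg (fun e : MulAut Q => ((e ⟨c, hc⟩ : Q) : G)) h2
            have h4 : a * c * a⁻¹ = c := h3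
            exact (mul_inv_eq_iff_eq_mul.1 h4).symm
          subst ha1
          rw [one_mul] at hgC ⊢
          rw [mem_bot, ← mem_bot, ← hfaith1]
          exact ⟨hb, hgC⟩
        have hV1el : Cfsg.IsElementaryAbelian p V1 :=
          ⟨⟨⟨fun a b => Subtype.ext (congrArg Subtype.val
            (hV.1.is_comm.comm (⟨a, hV1V a.2⟩ : V) ⟨b, hV1V b.2⟩) : (a : G) * b = b * a)⟩⟩,
            fun a ha => hV.2 a (hV1V ha)⟩
        have hCV1 : V1 ⊓ centralizer (X : Set G) = ⊥ := by
          rw [eq_bot_iff]
          intro v hv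
          rw [mem_bot]
          exact hcase v hv.1 (by
            rw [mem_centralizer_iff.1 hv.2 x (mem_zpowers x), mul_inv_cancel_right])
        exact hq2 (Shult.fixedPoint_cases hp.out hq hr.out hqp.symm hpr hqr X Q V1 hXcard hQ hXQ
          hXfaith hV1el (zpowers_le.2 (hV1n x hxQ)) (fun g hg => hV1n g (le_normalizer hg))
          hfaith2 hCV1).1
      have hQle : Q ≤ K ⊓ centralizer (X : Set G) := fun g hg => ⟨hQK hg,
        Shult.mem_centralizer_zpowers (by
          rw [← mem_centralizer_iff.1 hQC g hg, mul_inv_cancel_right])⟩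
      haveI := hZ
      haveI : IsZGroup Q := IsZGroup.of_injective (inclusion_injective hQle)
      haveI : IsCyclic (⊤ : Subgroup Q) := (hQ.to_subgroup ⊤).isCyclic_of_isZGroup
      haveI : IsCyclic Q := isCyclic_of_surjective _ Subgroup.topEquiv.surjective
      haveI : IsCyclic (Q.map π) := isCyclic_of_surjective _ (π.subgroupMap_surjective Q)
      haveI : IsCyclic Fq := hQmap ▸ inferInstance
      let ψ : G ⧸ V →* MulAut Fq := MulAut.conjNormal
      have hle : ⁅L, R.map π⁆ ≤ ψ.ker := by
        rw [commutator_le]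
        intro a _ b _
        rw [MonoidHom.mem_ker, map_commutatorElement, commutatorElement_eq_one_iff_mul_comm]
        exact mulAut_comm_of_isCyclic _ _
      rw [hLR] at hle
      refine mem_centralizer_iff.2 fun y hy => ?_
      have h1 : ((ψ u ⟨y, hy⟩ : Fq) : G ⧸ V) = y := by
        rw [MonoidHom.mem_ker.1 (hle hu)]
        rfl
      have h2 : u * y * u⁻¹ = y := h1
      exact (mul_inv_eq_iff_eq_mul.1 h2).symm
    · -- `x` fixes a point of `⁅V, Q⁆`
      push Not at hcase
      obtain ⟨c, hc, hcx, hc1⟩ := hcase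
      set M := K ⊓ normalizer (Q : Set G) with hMdef
      have hxM : x ∈ normalizer (M : Set G) := by
        rw [mem_normalizer_iff]
        intro y
        have h1 : y ∈ K ↔ x * y * x⁻¹ ∈ K :=
          mem_normalizer_iff.1 (le_normalizer_of_normal (H := K) (mem_top x)) y
        have h2 : y ∈ normalizer (Q : Set G) ↔ x * y * x⁻¹ ∈ normalizer (Q : Set G) :=
          mem_normalizer_iff.1 (le_normalizer hxQ) y
        exact and_congr h1 h2
      have hcopXM : (Nat.card X).Coprime (Nat.card M) := by
        rw [hXcard]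
        exact (hcop.coprime_dvd_left (card_dvd_of_le inf_le_left)).symm
      obtain ⟨P, hPM, hP, hPi, hXP⟩ := Cores.InvariantSylow.exists_invariant (A := X) (K := M)
        (zpowers_le.2 hxM) hcopXM (Or.inr inferInstance) p
      have hfpf : ∀ g ∈ P, x * g * x⁻¹ = g → g = 1 := by
        intro g hg hgx
        by_contra hg1
        obtain ⟨n, hn⟩ := hP ⟨g, hg⟩
        obtain ⟨m, -, hm⟩ := (Nat.dvd_prime_pow hp.out).1 (orderOf_dvd_of_pow_eq_one
          (congrArg Subtype.val hn : g ^ p ^ n = 1))
        have hm0 : m ≠ 0 := fun h0 => hg1 (orderOf_eq_one_iff.1 (by rw [hm, h0, pow_zero]))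
        set g1 := g ^ p ^ (m - 1) with hg1def
        have hg1o : orderOf g1 = p := by
          rw [hg1def, orderOf_pow' g (pow_ne_zero _ hp.out.ne_zero), hm,
            Nat.gcd_eq_right (pow_dvd_pow p (Nat.sub_le m 1)),
            Nat.pow_div (Nat.sub_le m 1) hp.out.pos, show m - (m - 1) = 1 by omega, pow_one]
        set E := V1 ⊓ centralizer (X : Set G) with hEdef
        have hgC : g ∈ centralizer (X : Set G) := Shult.mem_centralizer_zpowers hgx
        have hgN : zpowers g ≤ normalizer (E : Set G) := by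
          rw [zpowers_le, mem_normalizer_iff]
          intro y
          have h1 : y ∈ V1 ↔ g * y * g⁻¹ ∈ V1 := mem_normalizer_iff.1
            (PLengthKey.commutator_normalized (le_normalizer_of_normal (mem_top g)) (hPM hg).2) y
          have h2 : y ∈ centralizer (X : Set G) ↔ g * y * g⁻¹ ∈ centralizer (X : Set G) :=
            mem_normalizer_iff.1 (le_normalizer hgC) y
          exact and_congr h1 h2
        have hT : IsPGroup p (E ⊔ zpowers g : Subgroup G) :=
          IsPGroup.to_sup_of_normal_left' (hVp.to_le (inf_le_left.trans hV1V))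
            (hP.to_le (zpowers_le.2 hg)) hgN
        have hTC : E ⊔ zpowers g ≤ K ⊓ centralizer (X : Set G) :=
          sup_le (le_inf ((inf_le_left.trans hV1V).trans hVK) inf_le_right)
            (zpowers_le.2 ⟨(hPM hg).1, hgC⟩)
        have hg1V : g1 ∈ V1 := zpowers_le.2 hc (mem_zpowers_of_isZGroup hZ hTC hT
          (mem_sup_left ⟨hc, Shult.mem_centralizer_zpowers hcx⟩)
          (mem_sup_right (pow_mem (mem_zpowers g) _)) (hV.2 c (hV1V hc)) hc1
          (hg1o ▸ pow_orderOf_eq_one g1))
        have hg1C : g1 ∈ centralizer (Q : Set G) := by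
          refine mem_centralizer_iff.2 fun y hy => ?_
          have h1 : ⁅y, g1⁆ ∈ Q ⊓ V := by
            constructor
            · rw [show ⁅y, g1⁆ = y * (g1 * y⁻¹ * g1⁻¹) by rw [commutatorElement_def]; group]
              exact mul_mem hy ((mem_normalizer_iff.1 (pow_mem (hPM hg).2 _) _).1 (inv_mem hy))
            · exact commutator_le_right Q V (commutator_mem_commutator hy (hV1V hg1V))
          rw [hQV, mem_bot, commutatorElement_eq_one_iff_mul_comm] at h1
          exact h1
        have h0 : g1 ∈ (⊥ : Subgroup G) := by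
          rw [← Coprime.centralizer_inf_commutator_eq_bot (A := Q) (V := V) le_normalizer_of_normal
            (PLengthKey.card_coprime_of_isPGroup hqp hQ hVp)]
          exact ⟨⟨hV1V hg1V, hg1C⟩, hg1V⟩
        rw [mem_bot.1 h0, orderOf_one] at hg1o
        exact hp.out.ne_one hg1o.symm
      have hcycV : ∀ a ∈ V ⊓ centralizer (X : Set G), ∀ b ∈ V ⊓ centralizer (X : Set G),
          a ≠ 1 → b ∈ zpowers a := fun a ha b hb ha1 =>
        mem_zpowers_of_isZGroup hZ (inf_le_inf_right _ hVK) (hVp.to_le inf_le_left) ha hb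
          (hV.2 a ha.1) ha1 (hV.2 b hb.1)
      have hcycQ : IsCyclic ↥(Q ⊓ centralizer (X : Set G)) := by
        haveI := hZ
        haveI : IsZGroup ↥(Q ⊓ centralizer (X : Set G)) :=
          IsZGroup.of_injective (inclusion_injective (inf_le_inf_right _ hQK))
        haveI : IsCyclic (⊤ : Subgroup ↥(Q ⊓ centralizer (X : Set G))) :=
          ((hQ.to_le inf_le_left).to_subgroup ⊤).isCyclic_of_isZGroup
        exact isCyclic_of_surjective _ Subgroup.topEquiv.surjective
      have hPC := PLengthKey.centralizes hqp.symm hpr hqr hp2 hq2 hr2 hxr V Q P hV hQ hP hxV hxQ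
        (hXP (mem_zpowers x)) le_normalizer_of_normal le_normalizer_of_normal
        (hPM.trans inf_le_right) hfaith hcycV hcycQ hfpf
      -- `M` covers `L`
      have hML : M.map π = L := by
        refine le_antisymm (map_mono inf_le_left) ?_
        rintro _ ⟨k, hk, rfl⟩
        have hB : MulAut.conj k • Q ≤ Q ⊔ V := by
          intro y hy
          rw [Lib.Coprime.mem_conj_smul] at hy
          have h1 : π y ∈ Q.map π := by
            rw [hQmap]
            have h2 := (inferInstance : Fq.Normal).conj_mem _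
              (hQmap ▸ mem_map_of_mem π hy) (π k)
            rw [map_mul, map_mul, map_inv] at h2
            convert h2 using 1
            group
          obtain ⟨b, hb, he⟩ := h1
          have h3 : b⁻¹ * y ∈ V := QuotientGroup.eq.1 he
          simpa using mul_mem (mem_sup_left hb) (mem_sup_right h3 : b⁻¹ * y ∈ Q ⊔ V)
        obtain ⟨v, hv, hvQ⟩ := Coprime.exists_conj_eq_of_coprime (A := Q) (K := V)
          le_normalizer_of_normal (PLengthKey.card_coprime_of_isPGroup hqp hQ hVp)
          (Or.inr inferInstance) hB (Coprime.card_conj_smul _ _)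
        refine ⟨v⁻¹ * k, mem_inf.2 ⟨mul_mem (inv_mem (hVK hv)) hk, ?_⟩, ?_⟩
        · refine Coprime.mem_normalizer_of_conj_smul_eq ?_
          rw [map_mul, mul_smul, ← hvQ, ← mul_smul, ← map_mul, inv_mul_cancel]
          simp
        · rw [map_mul, map_inv, (hπ1 v).2 hv, inv_one, one_mul]
      set CL := L ⊓ centralizer (Fq : Set (G ⧸ V)) with hCL
      haveI : CL.Normal := inferInstance
      have hPCL : P.map π ≤ CL := by
        refine le_inf (hML ▸ map_mono hPM) ?_
        rw [← hQmap]
        rintro _ ⟨g, hg, rfl⟩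
        refine mem_centralizer_iff.2 ?_
        rintro _ ⟨y, hy, rfl⟩
        rw [← map_mul, ← map_mul, mem_centralizer_iff.1 (hPC hg) y hy]
      have hnd : ¬ p ∣ CL.relIndex L := fun h => hPi
        (h.trans ((relIndex_dvd_of_le_left L hPCL).trans
          (hML ▸ PSolvable.relIndex_map_dvd π P M)))
      obtain ⟨k, hk⟩ := hup
      haveI : (CL.subgroupOf L).Normal := inferInstance
      have h1 : QuotientGroup.mk' (CL.subgroupOf L) ⟨u, hu⟩ = 1 := by
        rw [← orderOf_eq_one_iff]
        refine Nat.eq_one_of_dvd_coprimes (a := p ^ k) (b := CL.relIndex L) ?_ ?_ ?_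
        · exact Nat.Coprime.pow_left k (hp.out.coprime_iff_not_dvd.2 hnd)
        · refine (orderOf_map_dvd _ _).trans ?_
          rw [← orderOf_injective L.subtype L.subtype_injective]
          exact hk.dvd
        · exact (orderOf_dvd_natCard _)
      exact ((QuotientGroup.eq_one_iff _).1 h1 : (⟨u, hu⟩ : L) ∈ CL.subgroupOf L).2
  -- conclusion
  intro hdvd
  rw [← hcardL] at hdvd
  obtain ⟨⟨u, hu⟩, huo⟩ := exists_prime_orderOf_dvd_card' p hdvd
  have huo' : orderOf u = p := by rw [← huo, ← orderOf_injective L.subtype L.subtype_injective]; rfl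
  have huC : (⟨u, hu⟩ : L) ∈ centralizer (Cfsg.fittingSubgroup L : Set L) := by
    rw [← zpowers_le, le_centralizer_iff, Cores.fittingSubgroup_eq_iSup_pCore]
    refine iSup_le fun q => ?_
    rw [le_centralizer_iff, zpowers_le]
    haveI : Fact (q : ℕ).Prime := ⟨q.2⟩
    refine mem_centralizer_iff.2 fun y hy => ?_
    by_cases hqp : (q : ℕ) = p
    · suffices h : y = 1 by rw [h]; simp
      haveI : ((Cfsg.pCore (q : ℕ) L).map L.subtype).Normal := Cores.normal_map_subtype L _
      set S := K ⊓ ((Cfsg.pCore (q : ℕ) L).map L.subtype).comap π with hS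
      have hSp : IsPGroup p S := by
        have h : IsPGroup p ((Cfsg.pCore (q : ℕ) L).map L.subtype) :=
          hqp ▸ (Cores.pCore_isPGroup (q : ℕ)).map _
        exact (h.comap_of_ker_isPGroup π
          (by rw [QuotientGroup.ker_mk']; exact hVp)).to_le inf_le_right
      have hSV := hmax S inferInstance (fun v hv => ⟨hVK hv, mem_comap.2 (by
        rw [(hπ1 v).2 hv]
        exact one_mem _)⟩) inf_le_left hSp
      obtain ⟨k, hk, hky⟩ := y.2
      refine Subtype.ext ?_
      rw [Subgroup.coe_one, ← hky]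
      exact (hπ1 k).2 (hSV ⟨hk, mem_comap.2 (by rw [hky]; exact ⟨y, hy, rfl⟩)⟩)
    · exact Subtype.ext (mem_centralizer_iff.1 (hclaim q q.2 hqp u hu ⟨1, by rw [huo', pow_one]⟩)
        _ ⟨y, hy, rfl⟩)
  have hF := Cores.centralizer_fittingSubgroup_le huC
  have hcore := DerivedFitting.mem_pCore_of_mem_fitting (q := p) hF ⟨1, by rw [pow_one]; exact huo⟩
  haveI : ((Cfsg.pCore p L).map L.subtype).Normal := Cores.normal_map_subtype L _
  set S := K ⊓ ((Cfsg.pCore p L).map L.subtype).comap π with hS
  have hSp : IsPGroup p S := (((Cores.pCore_isPGroup p).map _).comap_of_ker_isPGroup π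
    (by rw [QuotientGroup.ker_mk']; exact hVp)).to_le inf_le_right
  have hSV := hmax S inferInstance (fun v hv => ⟨hVK hv, mem_comap.2 (by
    rw [(hπ1 v).2 hv]
    exact one_mem _)⟩) inf_le_left hSp
  obtain ⟨k, hk, hky⟩ := hu
  have hu1 : u = 1 := by
    rw [← hky]
    exact (hπ1 k).2 (hSV ⟨hk, mem_comap.2 (by rw [hky]; exact ⟨_, hcore, rfl⟩)⟩)
  rw [hu1, orderOf_one] at huo'
  exact hp.out.ne_one huo'.symm

end Cfsg.Agent.Lib.OddLocal.PLengthMain
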