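import Cfsg.Agent.Lib.Balance.OddInvariant
import Cfsg.Agent.Lib.Balance.CoprimeCore
import Cfsg.Agent.Lib.Coprime.Glauberman
import Cfsg.Agent.Lib.OddOrder.Transitivity

/-! The transitivity theorem for groups with `p`-constrained `p`-local subgroups (Gorenstein 8.5.4). -/

set_option autoImplicit false
set_option linter.style.haveILetI false
set_option linter.unusedSectionVars false

namespace Cfsg.Agent.Lib.OddLocal.Transitivity

open Subgroup
open scoped commutatorElement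

universe u

variable {G : Type u} [Group G] [Finite G] {p : ℕ} [hp : Fact p.Prime]

/-- Every `p`-subgroup of `G` has class at most two. -/
def ClassTwo (p : ℕ) (G : Type u) [Group G] : Prop :=
  ∀ S : Subgroup G, IsPGroup p S → ∀ x ∈ S, ∀ y ∈ S, ∀ z ∈ S, ⁅⁅x, y⁆, z⁆ = 1

theorem classTwo_of_sylow
    (h : ∀ S : Sylow p G, Group.IsNilpotent (S : Subgroup G) ∧
      Group.nilpotencyClass (S : Subgroup G) ≤ 2) : ClassTwo p G := by
  intro S hS x hx y hy z hz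
  obtain ⟨T, hT⟩ := hS.exists_le_sylow
  haveI := (h T).1
  have hbot := Subgroup.lowerCentralSeries_eq_bot_iff_nilpotencyClass_le.mpr (h T).2
  obtain ⟨X, hX⟩ : ∃ X : (T : Subgroup G), (X : G) = x := ⟨⟨x, hT hx⟩, rfl⟩
  obtain ⟨Y, hY⟩ : ∃ Y : (T : Subgroup G), (Y : G) = y := ⟨⟨y, hT hy⟩, rfl⟩
  obtain ⟨Z, hZ⟩ : ∃ Z : (T : Subgroup G), (Z : G) = z := ⟨⟨z, hT hz⟩, rfl⟩
  subst hX hY hZ
  have hmem : ⁅⁅X, Y⁆, Z⁆ ∈ (⊤ : Subgroup (T : Subgroup G)).lowerCentralSeries 2 := by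
    have h1 : ⁅X, Y⁆ ∈ (⊤ : Subgroup (T : Subgroup G)).lowerCentralSeries 1 :=
      commutator_mem_commutator (mem_top X) (mem_top Y)
    exact commutator_mem_commutator h1 (mem_top Z)
  rw [hbot, mem_bot] at hmem
  exact congrArg Subtype.val hmem

theorem classTwo_subgroup (h : ClassTwo p G) (H : Subgroup G) : ClassTwo p H := by
  intro S hS x hx y hy z hz
  exact Subtype.ext (h _ (hS.map H.subtype) _ (mem_map_of_mem _ hx) _ (mem_map_of_mem _ hy) _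
    (mem_map_of_mem _ hz))

theorem classTwo_quotient (h : ClassTwo p G) (N : Subgroup G) [N.Normal] : ClassTwo p (G ⧸ N) := by
  intro S hS x hx y hy z hz
  obtain ⟨T, hT⟩ := hS.exists_le_sylow
  obtain ⟨R⟩ := (inferInstance : Nonempty (Sylow p G))
  obtain ⟨c, hc⟩ := MulAction.exists_smul_eq (G ⧸ N)
    (R.mapSurjective (QuotientGroup.mk'_surjective N)) T
  obtain ⟨c₀, rfl⟩ := QuotientGroup.mk'_surjective N c
  have key : ∀ w ∈ S, ∃ w₀ ∈ ((c₀ • R : Sylow p G) : Subgroup G), QuotientGroup.mk' N w₀ = w := by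
    intro w hw
    have hw' := hT hw
    rw [← hc] at hw'
    obtain ⟨v, hv, rfl⟩ := hw'
    obtain ⟨v₀, hv₀, rfl⟩ := hv
    exact ⟨c₀ * v₀ * c₀⁻¹, ⟨v₀, hv₀, rfl⟩, by simp⟩
  obtain ⟨x₀, hx₀, rfl⟩ := key x hx
  obtain ⟨y₀, hy₀, rfl⟩ := key y hy
  obtain ⟨z₀, hz₀, rfl⟩ := key z hz
  rw [← map_commutatorElement, ← map_commutatorElement, h _ (c₀ • R : Sylow p G).isPGroup' _ hx₀ _ hy₀
    _ hz₀, map_one]

/-- Invariant `p'`-subgroups of a `p`-constrained group with class two Sylow `p`-subgroups. -/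
theorem invariant_le_pPrimeCore_classTwo (hcl : ClassTwo p G) (hX : Cfsg.IsPConstrained p G)
    {A : Subgroup G} (hAp : IsPGroup p A)
    (hA : ∀ x ∈ centralizer (A : Set G), IsPGroup p (zpowers x) → x ∈ A) {Q : Subgroup G}
    (hQ : ¬ p ∣ Nat.card Q) (hAQ : A ≤ normalizer (Q : Set G)) :
    Q ≤ Cfsg.pPrimeCore p G := by
  obtain ⟨π, hπ⟩ : ∃ π, π = QuotientGroup.mk' (Cfsg.pPrimeCore p G) := ⟨_, rfl⟩
  have hchar := PSolvable.isPConstrained_iff.1 hX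
  obtain ⟨S, hS⟩ : ∃ S, S = Cfsg.pCore p (G ⧸ Cfsg.pPrimeCore p G) := ⟨_, rfl⟩
  rw [← hS] at hchar
  haveI hSn : S.Normal := hS ▸ inferInstance
  have hSp : IsPGroup p S := hS ▸ Cores.pCore_isPGroup p
  obtain ⟨j, hj⟩ := hSp.exists_card_eq
  obtain ⟨A', hA'⟩ : ∃ A', A' = A.map π := ⟨_, rfl⟩
  obtain ⟨Y, hY⟩ : ∃ Y, Y = Q.map π := ⟨_, rfl⟩
  have hYc : (Nat.card Y).Coprime p := hY ▸
    ((hp.out.coprime_iff_not_dvd.2 hQ).symm).coprime_dvd_left (card_map_dvd _ _)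
  have hAY : A' ≤ normalizer (Y : Set _) := by
    rw [hA', hY]
    exact (map_mono hAQ).trans (le_normalizer_map π)
  have hdisj : ∀ {u : G ⧸ Cfsg.pPrimeCore p G}, u ∈ S → u ∈ Y → u = 1 := by
    intro u hu hu'
    refine orderOf_eq_one_iff.mp (Nat.eq_one_of_dvd_coprimes (hYc.pow_right j) ?_ ?_)
    · exact Subgroup.orderOf_dvd_natCard _ hu'
    · exact hj ▸ Subgroup.orderOf_dvd_natCard _ hu
  -- the fixed points of `A'` on `S` lie in `A'`, hence commute with `Y`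
  have hfix : ∀ x ∈ S, (∀ a ∈ A', a * x = x * a) → ∀ y ∈ Y, x * y = y * x := by
    intro x hxS hxA y hy
    have hxA' : x ∈ A' := by
      rw [hA', hπ]
      have hxc : x ∈ centralizer ((A.map (QuotientGroup.mk' (Cfsg.pPrimeCore p G)) : Subgroup _) :
          Set (G ⧸ Cfsg.pPrimeCore p G)) := mem_centralizer_iff.mpr (by
        rw [← hπ, ← hA']; exact hxA)
      obtain ⟨c, hc, rfl⟩ := PSolvable.centralizer_map_le_map_centralizer (Cfsg.pPrimeCore p G) A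
        (Cores.pPrimeCore_coprime p) hAp hxc
      obtain ⟨i, hi⟩ := IsPGroup.iff_orderOf.mp hSp ⟨_, hxS⟩
      rw [Subgroup.orderOf_mk] at hi
      have hn : orderOf c ≠ 0 := (orderOf_pos c).ne'
      obtain ⟨s, hs⟩ := exists_pow_eq_self_of_coprime
        (show (orderOf c / p ^ (orderOf c).factorization p).Coprime
            (orderOf (QuotientGroup.mk' (Cfsg.pPrimeCore p G) c)) by
          rw [hi]
          exact ((Nat.coprime_ordCompl hp.out hn).symm).pow_right i)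
      rw [← hs, ← map_pow]
      refine Subgroup.pow_mem _ (mem_map_of_mem _ (hA _ (pow_mem hc _) ?_)) s
      refine IsPGroup.of_card (n := (orderOf c).factorization p) ?_
      rw [Nat.card_zpowers, orderOf_pow_of_dvd (Nat.ordCompl_pos p hn).ne' (Nat.ordCompl_dvd _ _),
        Nat.div_div_self (Nat.ordProj_dvd _ _) hn]
    refine commutatorElement_eq_one_iff_mul_comm.mp (hdisj ?_ ?_)
    · rw [commutatorElement_def, mul_assoc, mul_assoc]
      refine mul_mem hxS ?_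
      rw [← mul_assoc]
      exact hSn.conj_mem _ (inv_mem hxS) y
    · rw [commutatorElement_def]
      exact mul_mem ((mem_normalizer_iff.1 (hAY hxA') y).1 hy) (inv_mem hy)
  have hPp : IsPGroup p (A' ⊔ S : Subgroup _) :=
    (hA' ▸ hAp.map π).to_sup_of_normal_right' hSp le_normalizer_of_normal
  have h3 := classTwo_quotient hcl (Cfsg.pPrimeCore p G) _ hPp
  have hcomm : ∀ a ∈ A', ∀ x ∈ S, ⁅a, x⁆ ∈ S ∧ (∀ y ∈ Y, ⁅a, x⁆ * y = y * ⁅a, x⁆) ∧
      ∀ z ∈ S, ⁅a, x⁆ * z = z * ⁅a, x⁆ := by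
    intro a ha x hx
    have hm : ⁅a, x⁆ ∈ S := by
      rw [commutatorElement_def]
      exact mul_mem (hSn.conj_mem x hx a) (inv_mem hx)
    refine ⟨hm, hfix _ hm fun b hb => ?_, fun z hz => ?_⟩
    · exact (commutatorElement_eq_one_iff_mul_comm.mp
        (h3 a (mem_sup_left ha) x (mem_sup_right hx) b (mem_sup_left hb))).symm
    · exact commutatorElement_eq_one_iff_mul_comm.mp
        (h3 a (mem_sup_left ha) x (mem_sup_right hx) z (mem_sup_right hz))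
  have hYS : ∀ k ∈ Y, (∀ x ∈ S, k * x * k⁻¹ * x⁻¹ ∈ S ∧
      k * (k * x * k⁻¹ * x⁻¹) = (k * x * k⁻¹ * x⁻¹) * k) → k = 1 := by
    intro k hk h
    refine hdisj (hchar (mem_centralizer_iff.mpr ?_)) hk
    intro x hx
    -- the coprime action fixes a point of each coset of the centralised subgroup
    obtain ⟨d, hd⟩ : ∃ d, d = k * x * k⁻¹ * x⁻¹ := ⟨_, rfl⟩
    have hkd : Commute k d := hd ▸ (h x hx).2
    have hpow : ∀ n : ℕ, k ^ n * x * (k ^ n)⁻¹ = d ^ n * x := by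
      intro n
      induction n with
      | zero => simp
      | succ n ih =>
        rw [pow_succ' k, mul_inv_rev, show k * k ^ n * x * ((k ^ n)⁻¹ * k⁻¹) =
          k * (k ^ n * x * (k ^ n)⁻¹) * k⁻¹ by group, ih, pow_succ d]
        calc k * (d ^ n * x) * k⁻¹ = (k * d ^ n) * x * k⁻¹ := by group
          _ = d ^ n * k * x * k⁻¹ := by rw [(hkd.pow_right n).eq]
          _ = d ^ n * (k * x * k⁻¹ * x⁻¹) * x := by group
          _ = d ^ n * d * x := by rw [← hd]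
    have hdk : d ^ orderOf k = 1 := by
      have := hpow (orderOf k)
      rw [pow_orderOf_eq_one, one_mul, inv_one, mul_one] at this
      exact right_eq_mul.mp this
    have hd1 : d = 1 := by
      refine orderOf_eq_one_iff.mp (Nat.eq_one_of_dvd_coprimes (hYc.pow_right j)
        ((orderOf_dvd_of_pow_eq_one hdk).trans (Subgroup.orderOf_dvd_natCard _ hk)) ?_)
      exact hj ▸ Subgroup.orderOf_dvd_natCard _ (hd ▸ (h x hx).1)
    rw [hd, mul_inv_eq_one, mul_inv_eq_iff_eq_mul] at hd1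
    exact hd1.symm
  -- `A'` and `Y` commute
  have hAYc : ∀ a ∈ A', ∀ y ∈ Y, a * y = y * a := by
    intro a ha y hy
    refine commutatorElement_eq_one_iff_mul_comm.mp (hYS _ ?_ ?_)
    · rw [commutatorElement_def]
      exact mul_mem ((mem_normalizer_iff.1 (hAY ha) y).1 hy) (inv_mem hy)
    intro x hx
    have hk : ⁅a, y⁆ ∈ Y := by
      rw [commutatorElement_def]
      exact mul_mem ((mem_normalizer_iff.1 (hAY ha) y).1 hy) (inv_mem hy)
    have hconj : ∀ g, ∀ z ∈ S, g * z * g⁻¹ ∈ S := fun g z hz => hSn.conj_mem z hz g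
    obtain ⟨x₁, hx₁, hx₁e⟩ : ∃ x₁ ∈ S, x₁ = a⁻¹ * (y⁻¹ * x * y) * a :=
      ⟨_, by simpa using hconj a⁻¹ _ (by simpa using hconj y⁻¹ x hx), rfl⟩
    obtain ⟨-, hw1, -⟩ := hcomm a⁻¹ (inv_mem ha) (y⁻¹ * x * y) (by simpa using hconj y⁻¹ x hx)
    obtain ⟨w₁, hw₁⟩ : ∃ w, w = ⁅a⁻¹, y⁻¹ * x * y⁆ := ⟨_, rfl⟩
    obtain ⟨w₂, hw₂⟩ : ∃ w, w = ⁅a, y * x₁ * y⁻¹⁆ := ⟨_, rfl⟩
    obtain ⟨hw₂S, hw2, -⟩ := hcomm a ha (y * x₁ * y⁻¹) (hconj y _ hx₁)
    rw [← hw₂] at hw2 hw₂S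
    rw [← hw₁] at hw1
    have hw₁S : w₁ ∈ S := hw₁ ▸ (hcomm a⁻¹ (inv_mem ha) (y⁻¹ * x * y) (by simpa using hconj y⁻¹ x hx)).1
    have h1 : x₁ = w₁ * (y⁻¹ * x * y) := by
      rw [hx₁e, hw₁, commutatorElement_def]; group
    have h2 : ⁅a, y⁆ * x * ⁅a, y⁆⁻¹ = w₂ * w₁ * x := by
      have e1 : y * x₁ * y⁻¹ = w₁ * x := by
        calc y * x₁ * y⁻¹ = (y * w₁) * (y⁻¹ * x * y) * y⁻¹ := by rw [h1]; group
          _ = (w₁ * y) * (y⁻¹ * x * y) * y⁻¹ := by rw [hw1 y hy]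
          _ = w₁ * x := by group
      calc ⁅a, y⁆ * x * ⁅a, y⁆⁻¹ = a * (y * x₁ * y⁻¹) * a⁻¹ := by
            rw [hx₁e, commutatorElement_def]; group
        _ = w₂ * (y * x₁ * y⁻¹) := by rw [hw₂, commutatorElement_def]; group
        _ = w₂ * w₁ * x := by rw [e1, mul_assoc]
    have h3 : ⁅a, y⁆ * x * ⁅a, y⁆⁻¹ * x⁻¹ = w₂ * w₁ := by rw [h2, mul_inv_cancel_right]
    rw [h3]
    refine ⟨mul_mem hw₂S hw₁S, ?_⟩
    rw [← mul_assoc, ← hw2 _ hk, mul_assoc, ← hw1 _ hk, mul_assoc]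
  -- `Y` is trivial
  have hY1 : ∀ y ∈ Y, y = 1 := by
    intro y hy
    refine hYS y hy fun x hx => ?_
    have hd : y * x * y⁻¹ * x⁻¹ ∈ S := mul_mem (hSn.conj_mem x hx y) (inv_mem hx)
    refine ⟨hd, (hfix _ hd (fun a ha => ?_) y hy).symm⟩
    obtain ⟨hwS, hwY, hwz⟩ := hcomm a ha x hx
    obtain ⟨w, hw⟩ : ∃ w, w = ⁅a, x⁆ := ⟨_, rfl⟩
    rw [← hw] at hwS hwY hwz
    have hax : a * x = w * x * a := by rw [hw, commutatorElement_def]; group
    have hainv : a * x⁻¹ = x⁻¹ * w⁻¹ * a := by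
      calc a * x⁻¹ = x⁻¹ * w⁻¹ * (w * x * a) * x⁻¹ := by group
        _ = x⁻¹ * w⁻¹ * (a * x) * x⁻¹ := by rw [hax]
        _ = x⁻¹ * w⁻¹ * a := by group
    have hay : a * y = y * a := hAYc a ha y hy
    have hay' : a * y⁻¹ = y⁻¹ * a := ((show Commute a y from hay).inv_right).eq
    calc a * (y * x * y⁻¹ * x⁻¹) = (a * y) * x * y⁻¹ * x⁻¹ := by group
      _ = y * (a * x) * y⁻¹ * x⁻¹ := by rw [hay]; group
      _ = y * (w * x) * (a * y⁻¹) * x⁻¹ := by rw [hax]; group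
      _ = (y * w) * x * y⁻¹ * (a * x⁻¹) := by rw [hay']; group
      _ = (w * y) * x * y⁻¹ * (x⁻¹ * w⁻¹ * a) := by rw [hwY y hy, hainv]
      _ = (w * (y * x * y⁻¹ * x⁻¹)) * w⁻¹ * a := by group
      _ = ((y * x * y⁻¹ * x⁻¹) * w) * w⁻¹ * a := by rw [hwz _ hd]
      _ = (y * x * y⁻¹ * x⁻¹) * a := by group
  intro g hg
  refine (QuotientGroup.eq_one_iff g).mp ?_
  have := hY1 (π g) (hY ▸ mem_map_of_mem π hg)
  rwa [hπ] at this

/-- The hypothesis of the transitivity theorem. -/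
structure Setup (p : ℕ) (G : Type u) [Group G] (E : Subgroup G) : Prop where
  loc : ∀ T : Subgroup G, IsPGroup p T → T ≠ ⊥ →
    Cfsg.IsPConstrained p ↥(normalizer (T : Set G))
  two : p = 2 → ClassTwo p G
  pgroup : IsPGroup p E
  comm : IsMulCommutative E
  full : ∀ x ∈ centralizer (E : Set G), IsPGroup p (zpowers x) → x ∈ E

/-- An `E`-invariant `p'`-subgroup of `C(a)` lies in `O_{p'}(N⟨a⟩)`. -/
theorem le_piCoreOf {E : Subgroup G} (hE : Setup p G E) {a : G} (ha : a ∈ E) (ha1 : a ≠ 1)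
    {Q : Subgroup G} (hQ : ¬ p ∣ Nat.card Q) (hEQ : E ≤ normalizer (Q : Set G))
    (hQN : Q ≤ normalizer (zpowers a : Set G)) :
    Q ≤ (Cfsg.pPrimeCore p ↥(normalizer (zpowers a : Set G))).map
      (normalizer (zpowers a : Set G)).subtype := by
  obtain ⟨X, hX⟩ : ∃ X, X = normalizer (zpowers a : Set G) := ⟨_, rfl⟩
  rw [← hX] at hQN ⊢
  have hap : IsPGroup p (zpowers a) := hE.pgroup.to_le (zpowers_le.mpr ha)
  have hEX : E ≤ X := by
    intro e he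
    rw [hX, mem_normalizer_iff]
    have hc : Commute e a := congrArg Subtype.val (hE.comm.1.comm ⟨e, he⟩ ⟨a, ha⟩)
    intro w
    have key : ∀ d : G, Commute d a → ∀ w ∈ zpowers a, d * w * d⁻¹ = w := by
      intro d hd w hw
      obtain ⟨i, rfl⟩ := mem_zpowers_iff.mp hw
      rw [(hd.zpow_right i).eq, mul_inv_cancel_right]
    constructor
    · intro hw; rwa [key e hc w hw]
    · intro hw
      have := key e⁻¹ hc.inv_left _ hw
      rw [show e⁻¹ * (e * w * e⁻¹) * e⁻¹⁻¹ = w by group] at this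
      rwa [← this] at hw
  have hXc : Cfsg.IsPConstrained p X :=
    hX ▸ hE.loc _ hap (by rw [Ne, zpowers_eq_bot]; exact ha1)
  have hEp : IsPGroup p (E.subgroupOf X) := hE.pgroup.of_equiv (subgroupOfEquivOfLe hEX).symm
  have hQp : ¬ p ∣ Nat.card (Q.subgroupOf X) := by
    rwa [Nat.card_congr (subgroupOfEquivOfLe hQN).toEquiv]
  have hnorm : E.subgroupOf X ≤ normalizer (Q.subgroupOf X : Set X) := by
    intro e he
    rw [mem_normalizer_iff]
    intro w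
    exact mem_normalizer_iff.mp (hEQ he) (w : G)
  have hfull : ∀ x ∈ centralizer (E.subgroupOf X : Set X), IsPGroup p (zpowers x) →
      x ∈ E.subgroupOf X := by
    intro x hx hxp
    refine hE.full (x : G) (mem_centralizer_iff.mpr fun e he =>
      congrArg Subtype.val (mem_centralizer_iff.mp hx ⟨e, hEX he⟩ he)) ?_
    have h := hxp.map X.subtype
    rwa [MonoidHom.map_zpowers] at h
  have hle : Q.subgroupOf X ≤ Cfsg.pPrimeCore p X := by
    by_cases h2 : p = 2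
    · exact invariant_le_pPrimeCore_classTwo (classTwo_subgroup (hE.two h2) X) hXc hEp hfull hQp hnorm
    · refine Balance.invariant_le_pPrimeCore h2 hXc hEp (fun x hx hxo => hfull x hx ?_) hQp hnorm
      exact IsPGroup.of_card (n := 1) (by rw [Nat.card_zpowers, hxo, pow_one])
  rw [← map_subgroupOf_eq_of_le hQN]
  exact map_mono hle

/-- `p'`-subgroups of `C(E)` lie in `O_{p'}(C(E))`. -/
theorem le_piCoreOf_centralizer {E : Subgroup G} (hE : Setup p G E) {K : Subgroup G}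
    (hK : K ≤ centralizer (E : Set G)) (hKp : ¬ p ∣ Nat.card K) :
    K ≤ Cfsg.piCoreOf (Cfsg.primesNotDvd p) (centralizer (E : Set G)) := by
  obtain ⟨C, hC⟩ : ∃ C, C = centralizer (E : Set G) := ⟨_, rfl⟩
  rw [← hC] at hK ⊢
  have hEC : E ≤ C := hC ▸ fun e he => mem_centralizer_iff.mpr fun w hw =>
    congrArg Subtype.val (hE.comm.1.comm ⟨w, hw⟩ ⟨e, he⟩)
  obtain ⟨E', hE'⟩ : ∃ E', E' = E.subgroupOf C := ⟨_, rfl⟩
  have hcent : ∀ e ∈ E', ∀ c : C, c * e = e * c := by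
    intro e he c
    rw [hE'] at he
    exact Subtype.ext (mem_centralizer_iff.mp (hC.le c.2) (e : G) he).symm
  haveI hEn : E'.Normal := ⟨fun e he c => by rwa [hcent e he c, mul_inv_cancel_right]⟩
  have hE'p : IsPGroup p E' := hE' ▸ hE.pgroup.of_equiv (subgroupOfEquivOfLe hEC).symm
  obtain ⟨S, hS⟩ := hE'p.exists_le_sylow
  have hSE : (S : Subgroup C) = E' := by
    refine le_antisymm (fun s hs => ?_) hS
    rw [hE']
    refine hE.full (s : G) (hC.le s.2) ?_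
    have h := (S.isPGroup'.to_le (zpowers_le.mpr hs)).map C.subtype
    rwa [MonoidHom.map_zpowers] at h
  obtain ⟨D, hD⟩ := exists_right_complement'_of_coprime (N := E')
    (hSE ▸ S.card_coprime_index)
  haveI hDn : D.Normal := by
    refine ⟨fun d hd c => ?_⟩
    obtain ⟨⟨⟨e, he⟩, ⟨d', hd'⟩⟩, hc⟩ := hD.2 c
    simp only at hc
    rw [← hc, show e * d' * d * (e * d')⁻¹ = e * (d' * d * d'⁻¹) * e⁻¹ by group,
      ← hcent e he (d' * d * d'⁻¹), mul_inv_cancel_right]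
    exact mul_mem (mul_mem hd' hd) (inv_mem hd')
  have hDp : ∀ r : ℕ, r.Prime → r ∣ Nat.card D → r ∈ Cfsg.primesNotDvd p := by
    intro r hr hrd
    refine ⟨hr, fun hrp => ?_⟩
    obtain rfl := (Nat.prime_dvd_prime_iff_eq hr hp.out).mp hrp
    rw [← hD.symm.index_eq_card, ← hSE] at hrd
    exact S.not_dvd_index hrd
  have hidx : D.index = Nat.card E' := hD.index_eq_card
  intro k hk
  refine ⟨⟨k, hK hk⟩, Cores.le_piCore hDp ?_, rfl⟩
  rw [← QuotientGroup.eq_one_iff, ← orderOf_eq_one_iff]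
  obtain ⟨n, hn⟩ := hE'p.exists_card_eq
  refine Nat.eq_one_of_dvd_coprimes
    (((hp.out.coprime_iff_not_dvd.mpr hKp).symm).pow_right n) ?_ ?_
  · refine (orderOf_map_dvd (QuotientGroup.mk' D) (⟨k, hK hk⟩ : C)).trans ?_
    rw [Subgroup.orderOf_mk]
    exact Subgroup.orderOf_dvd_natCard K hk
  · rw [← hn, ← hidx]
    exact _root_.orderOf_dvd_natCard _

theorem le_normalizer_inf_of {E U V : Subgroup G} (hU : E ≤ normalizer (U : Set G))
    (hV : E ≤ normalizer (V : Set G)) : E ≤ normalizer ((U ⊓ V : Subgroup G) : Set G) :=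
  Coprime.le_normalizer_inf hU hV

/-- **Transitivity theorem.** -/
theorem maxInv_conj {E A : Subgroup G} (hE : Setup p G E) (hAE : A ≤ E)
    (hA : Cfsg.IsElementaryAbelian p A) (hA3 : p ^ 3 ≤ Nat.card A) (q : ℕ) [hq : Fact q.Prime]
    (hqp : q ≠ p) :
    ∀ Q₁ ∈ Cfsg.maxInvSubgroups ⊤ E {q}, ∀ Q₂ ∈ Cfsg.maxInvSubgroups ⊤ E {q},
      ∃ k ∈ Cfsg.piCoreOf (Cfsg.primesNotDvd p) (centralizer (E : Set G)),
        Q₂ = Q₁.map (MulAut.conj k).toMonoidHom := by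
  suffices key : ∀ (n : ℕ) (Q₁ Q₂ : Subgroup G), Nat.card G ≤ n + Nat.card (Q₁ ⊓ Q₂ : Subgroup G) →
      Q₁ ∈ Cfsg.maxInvSubgroups ⊤ E {q} → Q₂ ∈ Cfsg.maxInvSubgroups ⊤ E {q} →
      ∃ k ∈ Cfsg.piCoreOf (Cfsg.primesNotDvd p) (centralizer (E : Set G)),
        Q₂ = Q₁.map (MulAut.conj k).toMonoidHom from
    fun Q₁ h₁ Q₂ h₂ => key _ Q₁ Q₂ (Nat.le_add_right _ _) h₁ h₂
  intro n
  induction n using Nat.strong_induction_on with
  | _ n IH =>
  intro Q₁ Q₂ hn h₁ h₂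
  obtain ⟨-, h₁q, h₁E⟩ := OddOrder.Transitivity.mem_inv.mp h₁.1
  obtain ⟨-, h₂q, h₂E⟩ := OddOrder.Transitivity.mem_inv.mp h₂.1
  obtain ⟨D, hD⟩ : ∃ D, D = Q₁ ⊓ Q₂ := ⟨_, rfl⟩
  by_cases hD₁ : D = Q₁
  · refine ⟨1, one_mem _, ?_⟩
    rw [h₁.2 Q₂ h₂.1 (hD₁ ▸ hD ▸ inf_le_right)]
    ext x; simp
  by_cases hD₂ : D = Q₂
  · refine ⟨1, one_mem _, ?_⟩
    rw [h₂.2 Q₁ h₁.1 (hD₂ ▸ hD ▸ inf_le_left)]
    ext x; simp
  obtain ⟨a, ha, ha1, hX₁, hX₂⟩ := Balance.exists_common_not_le hA hA3 hqp h₁q h₂q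
    (hAE.trans h₁E) (hAE.trans h₂E) (hD ▸ hD₁) (hD ▸ hD₂)
  rw [← hD] at hX₁ hX₂
  have haE : a ∈ E := hAE ha
  have hEa : E ≤ normalizer (centralizer ({a} : Set G) : Set G) :=
    fun e he => le_normalizer (mem_centralizer_singleton_iff.mpr
      (congrArg Subtype.val (hE.comm.1.comm ⟨e, he⟩ ⟨a, haE⟩)))
  have hED : E ≤ normalizer (D : Set G) := hD ▸ le_normalizer_inf_of h₁E h₂E
  have hEN : E ≤ normalizer (normalizer (D : Set G) : Set G) := hED.trans le_normalizer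
  obtain ⟨X, hX⟩ : ∃ X, X = normalizer (zpowers a : Set G) := ⟨_, rfl⟩
  obtain ⟨H, hH⟩ : ∃ H, H = (Cfsg.pPrimeCore p X).map X.subtype ⊓ normalizer (D : Set G) := ⟨_, rfl⟩
  have hCX : centralizer ({a} : Set G) ≤ X := by
    rw [hX]
    refine le_trans ?_ (OddOrder.Transitivity.centralizer_le_normalizer (zpowers a))
    intro c hc
    refine mem_centralizer_iff.mpr fun w hw => ?_
    obtain ⟨i, rfl⟩ := mem_zpowers_iff.mp hw
    exact (((show Commute c a from mem_centralizer_singleton_iff.mp hc).zpow_right i).eq).symm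
  have hEX : E ≤ X := fun e he => hCX (mem_centralizer_singleton_iff.mpr
    (congrArg Subtype.val (hE.comm.1.comm ⟨e, he⟩ ⟨a, haE⟩)))
  have hEH : E ≤ normalizer (H : Set G) := hH ▸ le_normalizer_inf_of
    (hEX.trans (OddOrder.Basic.le_normalizer_map_subtype X _)) hEN
  have hHp : ¬ p ∣ Nat.card H := by
    intro hd
    have h := hd.trans (card_dvd_of_le (show H ≤ (Cfsg.pPrimeCore p X).map X.subtype from hH ▸ inf_le_left))
    exact hp.out.coprime_iff_not_dvd.mp (Cores.pPrimeCore_coprime p).symm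
      (h.trans (card_map_dvd _ _))
  obtain ⟨m, hm⟩ := hE.pgroup.exists_card_eq
  have hcop : (Nat.card E).Coprime (Nat.card H) :=
    hm ▸ (hp.out.coprime_iff_not_dvd.mpr hHp).pow_left m
  haveI : Group.IsNilpotent E := hE.pgroup.isNilpotent
  have hsolv : Group.IsSolvable E ∨ Group.IsSolvable H := Or.inl inferInstance
  have hget : ∀ Q : Subgroup G, Q ∈ Cfsg.maxInvSubgroups ⊤ E {q} → D ≤ Q →
      ∃ P : Sylow q H, normalizer (D : Set G) ⊓ Q ⊓ centralizer ({a} : Set G) ≤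
          (P : Subgroup H).map H.subtype ∧
        E ≤ normalizer (((P : Subgroup H).map H.subtype : Subgroup G) : Set G) := by
    intro Q hQ hDQ
    obtain ⟨-, hQq, hQE⟩ := OddOrder.Transitivity.mem_inv.mp hQ.1
    have hUq : IsPGroup q ↥(normalizer (D : Set G) ⊓ Q ⊓ centralizer ({a} : Set G)) :=
      hQq.to_le (inf_le_left.trans inf_le_right)
    have hUE : E ≤ normalizer ((normalizer (D : Set G) ⊓ Q ⊓ centralizer ({a} : Set G) : Subgroup G) :
        Set G) := le_normalizer_inf_of (le_normalizer_inf_of hEN hQE) hEa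
    have hUp : ¬ p ∣ Nat.card ↥(normalizer (D : Set G) ⊓ Q ⊓ centralizer ({a} : Set G)) := by
      intro hd
      obtain ⟨i, hi⟩ := hUq.exists_card_eq
      rw [hi] at hd
      exact hqp ((Nat.prime_dvd_prime_iff_eq hp.out hq.out).mp (hp.out.dvd_of_dvd_pow hd)).symm
    refine Coprime.exists_invariant_sylow_ge hEH hcop hsolv q _ ?_ hUq hUE
    rw [hH]
    refine le_inf ?_ (inf_le_left.trans inf_le_left)
    have h := le_piCoreOf hE haE ha1 hUp hUE (hX ▸ inf_le_right.trans hCX)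
    rwa [← hX] at h
  obtain ⟨P₁, hP₁, hEP₁⟩ := hget Q₁ h₁ (hD ▸ inf_le_left)
  obtain ⟨P₂, hP₂, hEP₂⟩ := hget Q₂ h₂ (hD ▸ inf_le_right)
  obtain ⟨c, ⟨hcH, hcE⟩, hc⟩ := Coprime.exists_conj_invariant_sylow hEH hcop hsolv P₁ P₂ hEP₁ hEP₂
  rw [Coprime.conj_smul_eq_map] at hc
  obtain ⟨R, hR⟩ : ∃ R, R = (P₂ : Subgroup H).map H.subtype := ⟨_, rfl⟩
  rw [← hR] at hc hP₂ hEP₂
  have hcD : c ∈ normalizer (D : Set G) := (hH.le hcH).2
  have hcK : c ∈ Cfsg.piCoreOf (Cfsg.primesNotDvd p) (centralizer (E : Set G)) :=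
    le_piCoreOf_centralizer hE (K := H ⊓ centralizer (E : Set G)) inf_le_right
      (fun hd => hHp (hd.trans (card_dvd_of_le inf_le_left))) ⟨hcH, hcE⟩
  have hRD : R ≤ normalizer (D : Set G) := hR ▸ (map_subtype_le _).trans (hH ▸ inf_le_right)
  have hUinv : D ⊔ R ∈ Cfsg.invSubgroups ⊤ E {q} := by
    refine OddOrder.Transitivity.mem_inv.mpr ⟨le_top, ?_, Coprime.le_normalizer_sup hED hEP₂⟩
    exact IsPGroup.to_sup_of_normal_left' (h₁q.to_le (hD ▸ inf_le_left)) (hR ▸ P₂.isPGroup'.map _) hRD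
  obtain ⟨Q₃, h₃, hUQ₃⟩ := OddOrder.Transitivity.exists_max_ge hUinv
  have hsmall : ∀ Q Q' : Subgroup G, D ≤ Q → D ≤ Q' → (∃ x, x ∈ Q ∧ x ∈ Q' ∧ x ∉ D) →
      Nat.card D < Nat.card ↥(Q ⊓ Q') := by
    intro Q Q' h h' ⟨x, hx, hx', hxD⟩
    refine lt_of_not_ge fun hge => hxD ?_
    rw [eq_of_le_of_card_ge (le_inf h h') hge]
    exact ⟨hx, hx'⟩
  obtain ⟨x₁, hx₁, hx₁D⟩ := SetLike.not_le_iff_exists.1 hX₁
  obtain ⟨x₂, hx₂, hx₂D⟩ := SetLike.not_le_iff_exists.1 hX₂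
  have hDU : D ≤ Q₃ := le_sup_left.trans hUQ₃
  have hcD' : D.map (MulAut.conj c).toMonoidHom = D :=
    mem_normalizer_iff_map_conj_eq.1 hcD
  have hcN : c ∈ normalizer (E : Set G) := OddOrder.Transitivity.centralizer_le_normalizer E hcE
  have hc1 : Q₁.map (MulAut.conj c).toMonoidHom ∈ Cfsg.maxInvSubgroups ⊤ E {q} :=
    OddOrder.Transitivity.conj_mem_max hcN h₁
  have hlt₁ : Nat.card D < Nat.card ↥(Q₁.map (MulAut.conj c).toMonoidHom ⊓ Q₃) := by
    refine hsmall _ _ (hcD'.ge.trans (map_mono (hD ▸ inf_le_left))) hDU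
      ⟨MulAut.conj c x₁, mem_map_of_mem _ hx₁.1.2, hUQ₃ (mem_sup_right ?_), ?_⟩
    · rw [← hc]; exact mem_map_of_mem _ (hP₁ hx₁)
    · intro h
      rw [← hcD'] at h
      obtain ⟨y, hy, hye⟩ := h
      exact hx₁D ((MulAut.conj c).injective hye ▸ hy)
  have hlt₂ : Nat.card D < Nat.card ↥(Q₃ ⊓ Q₂) :=
    hsmall _ _ hDU (hD ▸ inf_le_right)
      ⟨x₂, hUQ₃ (mem_sup_right (hP₂ hx₂)), hx₂.1.2, hx₂D⟩
  have hDG : Nat.card ↥(Q₃ ⊓ Q₂) ≤ Nat.card G := card_le_card_group _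
  rw [← hD] at hn
  obtain ⟨c₁, hc₁, he₁⟩ := IH (n - 1) (by omega) _ _ (by omega) hc1 h₃
  obtain ⟨c₂, hc₂, he₂⟩ := IH (n - 1) (by omega) _ _ (by omega) h₃ h₂
  refine ⟨c₂ * (c₁ * c), mul_mem hc₂ (mul_mem hc₁ hcK), ?_⟩
  rw [he₂, he₁, Subgroup.map_map, Subgroup.map_map]
  congr 1
  ext x
  simp [mul_assoc]

end Cfsg.Agent.Lib.OddLocal.Transitivity
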